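import Mathlib
import Cfsg.Agent.Lib.Chev.AutA
import Cfsg.Agent.Lib.Chev.Adjoint2
import Cfsg.Agent.Lib.Tw.Graph

/-! Automorphisms of finite Chevalley groups: inner, diagonal, graph and field automorphisms generate. -/

set_option autoImplicit false
set_option linter.unusedSectionVars false

namespace Cfsg.Agent.ChevM
open Cfsg.Lie Cfsg.Agent.Chev Cfsg.Agent.Chev.RSys Cfsg.Agent.Chev.PreRGD

theorem mul_of_sq {F : Type*} [Field F] [Finite F] (τ : F →+ F) (h1 : τ 1 = 1)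
    (h : ∀ t u, τ (t ^ 2 * u) = τ t ^ 2 * τ u) (t u : F) : τ (t * u) = τ t * τ u := by
  have h2 : ∀ t, τ (t ^ 2) = τ t ^ 2 := fun t => by simpa [h1] using h t 1
  by_cases h0 : (2 : F) = 0
  · have := CharTwo.of_one_ne_zero_of_two_eq_zero one_ne_zero h0
    obtain ⟨t, rfl⟩ := (frobeniusEquiv F 2).surjective t
    exact (h t u).trans (by rw [← h2]; rfl)
  · have := h2 (t + u)
    rw [add_sq, map_add, map_add, h2, h2, map_add, mul_assoc, two_mul, map_add] at this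
    exact mul_left_cancel₀ h0 (by linear_combination this)

variable {D : ChevalleyDatum} [hD : Tab D] {F : Type*} [Field F]

/-- `θ` acts on the fundamental root elements through `π`, the scalars `c` and the field automorphisms `τ`. -/
structure Std (θ : MulAut (D.group F)) (π : Equiv.Perm (Fin D.rank)) (c : Fin D.rank → Fˣ)
    (τ : Fin D.rank → F ≃+* F) : Prop where
  pos : ∀ i t, θ (xG D F ((rs D).simple i : Fin D.nroots) t) = xG D F ((rs D).simple (π i) : Fin D.nroots) (c i * τ i t)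
  neg : ∀ i t, θ (xG D F ((rs D).neg ((rs D).simple i) : Fin D.nroots) t) =
    xG D F ((rs D).neg ((rs D).simple (π i)) : Fin D.nroots) ((c i : F)⁻¹ * τ i t)

theorem std_dgAut (c : Fin D.rank → Fˣ) : Std (dgAut D c) 1 c fun _ => RingEquiv.refl F :=
  ⟨fun i t => by rw [dgAut_xG _ (Fin.is_lt _)]; simp,
    fun i t => by rw [dgAut_xG _ (Fin.is_lt _), rs_neg_val, lch_neg _ (Fin.is_lt _)]; simp⟩

theorem std_fm (σ : F ≃+* F) : Std (fmEquiv D σ) 1 1 fun _ => σ :=
  ⟨fun i t => by simp [fmEquiv_xG], fun i t => by simp [fmEquiv_xG]⟩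

namespace Std
variable {θ θ' : MulAut (D.group F)} {π π' : Equiv.Perm (Fin D.rank)} {c c' : Fin D.rank → Fˣ}
  {τ τ' : Fin D.rank → F ≃+* F} (h : Std θ π c τ)
include h

theorem mul (h' : Std θ' π' c' τ') : Std (θ * θ') (π * π')
    (fun i => c (π' i) * Units.map (τ (π' i)).toMonoidHom (c' i)) fun i => (τ' i).trans (τ (π' i)) :=
  ⟨fun i t => by rw [MulAut.mul_apply, h'.pos, h.pos]; simp [mul_assoc],
    fun i t => by rw [MulAut.mul_apply, h'.neg, h.neg]; simp [mul_assoc, mul_left_comm]⟩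

theorem inv : Std θ⁻¹ π⁻¹ (fun i => Units.map (τ (π⁻¹ i)).symm.toMonoidHom (c (π⁻¹ i))⁻¹)
    fun i => (τ (π⁻¹ i)).symm :=
  ⟨fun i t => by rw [MulAut.inv_apply, MulEquiv.symm_apply_eq, h.pos]; simp,
    fun i t => by rw [MulAut.inv_apply, MulEquiv.symm_apply_eq, h.neg]; simp⟩

theorem ext (h' : Std θ' π c τ) : θ = θ' := MulEquiv.toMonoidHom_injective
  (hom_ext_simple (fun i t => (h.pos i t).trans (h'.pos i t).symm) fun i t => (h.neg i t).trans (h'.neg i t).symm)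

theorem map_n (i : Fin D.rank) (t : F) : θ (nElt D (xG D F) ((rs D).simple i : Fin D.nroots) t) =
    nElt D (xG D F) ((rs D).simple (π i) : Fin D.nroots) (c i * τ i t) := by
  rw [nElt_eq, nElt_eq, map_mul, map_mul, h.pos, h.neg]
  simp [mul_comm]

theorem rel (i j : Fin D.rank) {t : F} (ht : t ≠ 0) : τ j t ^ (rs D).C i j = τ i t ^ (rs D).C (π i) (π j) := by
  have hx := stRel_xG D F
  have e := congrArg θ ((r7_xG D F).h_conj_x hx ((rs D).simple i) ((rs D).simple j) ht 1)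
  have h1 : (c i : F) * τ i t ≠ 0 := mul_ne_zero (c i).ne_zero (by simpa)
  rw [map_mul, map_mul, map_inv, hx.h_eq, map_mul, map_inv, h.map_n, h.map_n, h.pos, h.pos, hx.n_eq_h_mul _ (_ * τ i t),
    hx.n_eq_h_mul _ (_ * τ i 1), mul_inv_rev, mul_assoc _ (nElt _ _ _ _), mul_inv_cancel_left, map_one, mul_one] at e
  have e1 := (r7_xG D F).h_conj_x hx ((rs D).simple (π i)) ((rs D).simple (π j)) (c i).ne_zero
    (((c i : F) ^ (rs D).C (π i) (π j))⁻¹ * (c j * τ j 1))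
  rw [pair_simple_simple, mul_inv_cancel_left₀ (zpow_ne_zero _ (c i).ne_zero)] at e1
  rw [← e1, mul_inv_rev, inv_inv, ← mul_assoc, ← mul_assoc, ← mul_assoc, inv_mul_cancel_right, inv_mul_cancel_right,
    (r7_xG D F).h_conj_x hx _ _ h1] at e
  have := xG_injective (Fin.is_lt _) e
  rw [pair_simple_simple, pair_simple_simple, mul_zpow, mul_one, map_one, map_zpow₀] at this
  field_simp at this
  exact this.symm

theorem map_GJ {J K : Set (Fin D.rank)} (hJ : ∀ j ∈ J, π j ∈ K) {g : D.group F} (hg : g ∈ (PG D F).GJ J) :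
    θ g ∈ (PG D F).GJ K :=
  GJ_le_of_simple (K := ((PG D F).GJ K).comap θ.toMonoidHom)
    (fun j hj t => show θ _ ∈ _ from h.pos j t ▸ xG_mem_US (inSub_simple.mpr (hJ j hj)) _)
    (fun j hj t => show θ _ ∈ _ from h.neg j t ▸ xG_mem_US (inSub_neg.mpr (inSub_simple.mpr (hJ j hj))) _) hg

theorem unique (h' : Std θ π' c' τ') : π = π' ∧ c = c' ∧ τ = τ' := by
  have h1 : π = π' := Equiv.ext fun i => (rs D).simple_inj ((nondeg D F).eq_of_mem_X_X (x := θ _)
    (h.pos i 1 ▸ xG_mem_X _ _) (h'.pos i 1 ▸ xG_mem_X _ _) (by simpa using xG_ne_one (F := F) ((rs D).simple i) one_ne_zero))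
  subst h1
  have h2 := fun i t => xG_injective (Fin.is_lt _) ((h.pos i t).symm.trans (h'.pos i t))
  have h3 : c = c' := funext fun i => Units.ext (by simpa using h2 i 1)
  subst h3
  exact ⟨rfl, rfl, funext fun i => RingEquiv.ext fun t => mul_left_cancel₀ (c i).ne_zero (h2 i t)⟩

theorem mem_H {x : D.group F} (h' : Std (MulAut.conj x * θ) π' c' τ') : x ∈ (PG D F).H := by
  refine mem_H_of_conj (fun i => ?_) fun i => ?_ <;> obtain ⟨i, rfl⟩ := π.surjective i
  · exact ⟨c i * τ i 1, by simp, by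
      rw [← h.pos, ← MulAut.conj_apply, ← MulAut.mul_apply, h'.pos]; exact xG_mem_B ((rs D).isPos_simple _) _⟩
  · exact ⟨(c i : F)⁻¹ * τ i 1, by simp, by
      rw [← h.neg, ← MulAut.conj_apply, ← MulAut.mul_apply, h'.neg]; exact xG_mem_Bm (not_isPos_neg_simple _) _⟩

end Std

variable [Finite F]

theorem exists_std {θ : MulAut (D.group F)} (hU : ∀ x, θ x ∈ (PG D F).U ↔ x ∈ (PG D F).U)
    (hV : ∀ x, θ x ∈ (PG D F).V ↔ x ∈ (PG D F).V) : ∃ π c τ, Std θ π c τ := by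
  obtain ⟨π, hπ⟩ := (nondeg D F).exists_perm PG_full hU hV
  choose f hf using fun i t => mem_X_iff.mp (((hπ i).1 _).mpr (xG_mem_X _ t))
  choose g hg using fun i t => mem_X_iff.mp (((hπ i).2 _).mpr (xG_mem_X _ t))
  have hx := stRel_xG D F
  have h7 := r7_xG D F
  have f0 : ∀ i t, t ≠ 0 → f i t ≠ 0 := fun i t ht e =>
    xG_ne_one _ ht (θ.injective (by rw [hf, e, xG_zero, map_one]))
  have g0 : ∀ i t, t ≠ 0 → g i t ≠ 0 := fun i t ht e =>
    xG_ne_one _ ht (θ.injective (by rw [hg, e, xG_zero, map_one]))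
  have fadd : ∀ i t u, f i (t + u) = f i t + f i u := fun i t u =>
    xG_injective (Fin.is_lt _) (by rw [← hf, ← xG_add, ← xG_add, map_mul, hf, hf])
  have hn : ∀ i t, t ≠ 0 → g i (-t⁻¹) = -(f i t)⁻¹ := fun i t ht => by
    obtain ⟨s, hs⟩ : ∃ s, g i (-t⁻¹) = -s⁻¹ := ⟨-(g i (-t⁻¹))⁻¹, by simp⟩
    have hs0 : s ≠ 0 := fun e => g0 i (-t⁻¹) (by simpa) (by simp [hs, e])
    have e1 : θ (nElt D (xG D F) ((rs D).simple i : Fin D.nroots) t) =
        xG D F ((rs D).simple (π i) : Fin D.nroots) (f i t - s) * nElt D (xG D F) ((rs D).simple (π i) : Fin D.nroots) s *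
        xG D F ((rs D).simple (π i) : Fin D.nroots) (f i t - s) := by
      rw [nElt_eq, map_mul, map_mul, hf, hg, hs, hx.x_neg_eq, ← mul_assoc, ← mul_assoc, xG_add, mul_assoc _ _ (xG _ _ _ _),
        xG_add, sub_eq_add_neg, add_comm (-s)]
    have e2 := congrArg θ (h7.n_conj_neg_self ((rs D).simple i) ht 1)
    rw [map_mul, map_mul, map_inv, e1, hf, hg] at e2
    rw [hs, show f i t = s from by_contra fun hne => ?_]
    obtain ⟨a, ha, k, hk, b, hb, e⟩ := (PG D F).neg_mem (π i) _ (xG_mem_X _ (-(s ^ 2)⁻¹ * (f i t - s)))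
      (xG_ne_one _ (by simp [hs0, sub_ne_zero.mpr hne]))
    have hp := (rs D).isPos_simple (π i)
    have := (nondeg D F).isPos_of_conj_mem_B ((rs D).sref_mem_W (π i)) (i := π i) (e ▸ cell_mul_mem (cell_mul_mem
      (mul_mem_cell ((PG D F).U_le_B ((PG D F).X_le_U hp ha)) (n_mem_cell _)) ((PG D F).H_le_B hk))
      ((PG D F).U_le_B ((PG D F).X_le_U hp hb))) (xG_mem_U hp (-(s ^ 2) * g i 1))
      ((nondeg D F).X_not_mem_UJ (xG_mem_X _ _) (xG_ne_one _ (by simp [hs0, g0 i 1 one_ne_zero]))) (by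
        rw [← h7.n_conj_self _ hs0, ← h7.n_conj_neg_self _ hs0]
        convert mul_mem (mul_mem (inv_mem (xG_mem_B hp (f i t - s))) (e2 ▸ xG_mem_B hp _)) (xG_mem_B hp (f i t - s))
          using 1
        group)
    rw [sref_simple] at this
    exact not_isPos_neg_simple _ this
  have hn' : ∀ i t, t ≠ 0 → θ (nElt D (xG D F) ((rs D).simple i : Fin D.nroots) t) =
      nElt D (xG D F) ((rs D).simple (π i) : Fin D.nroots) (f i t) := fun i t ht => by
    rw [nElt_eq, nElt_eq, map_mul, map_mul, hf, hg, hn i t ht]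
  let τ₀ : Fin D.rank → F →+ F := fun i => AddMonoidHom.mk' (fun t => (f i 1)⁻¹ * f i t) fun t u => by
    rw [fadd, mul_add]
  have hτ : ∀ i t, τ₀ i t = (f i 1)⁻¹ * f i t := fun _ _ => rfl
  have hτ1 : ∀ i, τ₀ i 1 = 1 := fun i => inv_mul_cancel₀ (f0 i 1 one_ne_zero)
  have hmul : ∀ i t u, τ₀ i (t * u) = τ₀ i t * τ₀ i u := fun i => mul_of_sq _ (hτ1 i) fun t u => by
    by_cases ht : t = 0
    · simp [ht]
    have e := congrArg θ (h7.h_conj_x hx ((rs D).simple i) ((rs D).simple i) ht u)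
    have h1 := f0 i 1 one_ne_zero
    rw [map_mul, map_mul, map_inv, hx.h_eq, map_mul, map_inv, hn' i t ht, hn' i 1 one_ne_zero, hf, hf,
      hx.n_eq_h_mul _ (f i t), hx.n_eq_h_mul _ (f i 1), mul_inv_rev, mul_assoc _ (nElt _ _ _ _),
      mul_inv_cancel_left] at e
    have e1 := h7.h_conj_x hx ((rs D).simple (π i)) ((rs D).simple (π i)) h1 (((f i 1) ^ (2 : ℤ))⁻¹ * f i u)
    rw [pair_self, mul_inv_cancel_left₀ (zpow_ne_zero _ h1)] at e1
    rw [← e1, mul_inv_rev, inv_inv, ← mul_assoc, ← mul_assoc, ← mul_assoc, inv_mul_cancel_right, inv_mul_cancel_right,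
      h7.h_conj_x hx _ _ (f0 i t ht)] at e
    have := xG_injective (Fin.is_lt _) e
    simp only [pair_self, zpow_ofNat] at this
    rw [hτ, hτ, hτ, ← this]
    field_simp
  let τ₁ : Fin D.rank → F →+* F := fun i => { τ₀ i with map_one' := hτ1 i, map_mul' := hmul i }
  have hτ' : ∀ i t, f i t = f i 1 * τ₁ i t := fun i t => (mul_inv_cancel_left₀ (f0 i 1 one_ne_zero) _).symm
  refine ⟨π, fun i => Units.mk0 _ (f0 i 1 one_ne_zero), fun i => RingEquiv.ofBijective (τ₁ i)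
    (Finite.injective_iff_bijective.mp (τ₁ i).injective), fun i t => by rw [hf, hτ']; rfl, fun i t => ?_⟩
  by_cases ht : t = 0
  · simp [ht, xG_zero]
  have := hn i (-t⁻¹) (by simpa)
  rw [hτ' i (-t⁻¹)] at this
  simp only [inv_neg, inv_inv, neg_neg, map_neg, map_inv₀, mul_neg, mul_inv] at this
  rw [hg, this]; rfl

theorem exists_std_conj (θ : MulAut (D.group F)) : ∃ x π c τ, Std (MulAut.conj x * θ) π c τ ∧
    ∀ y, (MulAut.conj x * θ) y ∈ (PG D F).U ↔ y ∈ (PG D F).U := by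
  have := ringChar.charP F
  have : Fact (ringChar F).Prime := ⟨CharP.char_is_prime F _⟩
  have key : ∀ θ : MulAut (D.group F), ∃ g, ∀ y, g * θ y * g⁻¹ ∈ (PG D F).U ↔ y ∈ (PG D F).U := fun θ => by
    obtain ⟨g, hg⟩ := MulAction.exists_smul_eq (D.group F) (θ • sylowU D F (ringChar F)) (sylowU D F (ringChar F))
    refine ⟨g, fun y => ?_⟩
    conv_lhs => rw [← sylowU_coe (ringChar F), ← hg]
    rw [Sylow.coe_subgroup_smul, Sylow.pointwise_smul_def, ← MulAut.conj_apply, ← MulAut.smul_def, ← MulAut.smul_def,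
      Subgroup.smul_mem_pointwise_smul_iff, Subgroup.smul_mem_pointwise_smul_iff, sylowU_coe]
  obtain ⟨g, hg⟩ := key θ
  obtain ⟨θ₁, e⟩ : ∃ θ₁, θ₁ = MulAut.conj g * θ := ⟨_, rfl⟩
  replace hg : ∀ y, θ₁ y ∈ (PG D F).U ↔ y ∈ (PG D F).U := e ▸ hg
  obtain ⟨g', hg'⟩ := key (θ₁ * (MulAut.conj ((PG D F).nW (rs D).w0)))
  have a1 : ∀ x, (PG D F).nW (rs D).w0 * x * ((PG D F).nW (rs D).w0)⁻¹ ∈ (PG D F).V ↔ x ∈ (PG D F).U := fun x =>
    ⟨fun h => by simpa [mul_assoc] using w0_inv_conj_V h, w0_conj_U⟩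
  obtain ⟨u, hu, h⟩ := (nondeg D F).exists_conj_V PG_full (S := (PG D F).V.comap θ₁.symm.toMonoidHom)
    (g := g'⁻¹) (fun x => by
      obtain ⟨x, rfl⟩ := (θ₁ * (MulAut.conj ((PG D F).nW (rs D).w0))).surjective x
      rw [inv_inv, hg', ← a1, MulAut.mul_apply]; simp) fun x h1 h2 => by
      obtain ⟨x, rfl⟩ := θ₁.surjective x
      rw [(nondeg D F).eq_one_of_mem_V_B (g := x) (by simpa using h1) ((PG D F).U_le_B ((hg x).mp h2)), map_one]
  have hU : ∀ y, (MulAut.conj u⁻¹ * θ₁) y ∈ (PG D F).U ↔ y ∈ (PG D F).U := fun y => by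
    rw [← hg y, ← Subgroup.mul_mem_cancel_left _ hu, ← Subgroup.mul_mem_cancel_right _ (inv_mem hu)]
    simp [mul_assoc]
  obtain ⟨π, c, τ, h⟩ := exists_std hU fun y => by simpa using (h (θ₁ y)).symm
  rw [e, ← mul_assoc, ← map_mul] at h hU
  exact ⟨_, π, c, τ, h, hU⟩

/-- The number of positive roots in the span of two fundamental roots is determined by the bond number. -/
def cntB (D : ChevalleyDatum) (c : TabCert) : Bool :=
  allLt D.rank fun i => allLt D.rank fun j => Nat.beq i j ||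
    decide ((((List.range D.nroots).countP fun r => Nat.ble D.nroots (2 * r) && allLt D.rank fun m =>
      Nat.beq m i || Nat.beq m j || decide (c.rc D r m = 0) : ℕ) : ℤ) =
      2 + D.bonds i j + if D.bonds i j = 3 then 1 else 0) && decide (D.bonds i j ≤ 3)

omit [Finite F] in
theorem ncard_UL {i j : Fin D.rank} (h : i ≠ j) : (({r | (rs D).IsPos r ∧ (rs D).InSub {i, j} r}.ncard : ℕ) : ℤ) =
    (2 + D.bonds i j + if D.bonds i j = 3 then 1 else 0) ∧ D.bonds i j ≤ 3 := by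
  obtain ⟨c, hc, h1⟩ : ∃ c, Agree D c ∧ cntB D c = true := by
    rcases hD.isTab.cases with rfl | rfl | rfl | rfl | rfl | rfl | rfl
    exacts [⟨_, agree_G2, by decide +kernel⟩, ⟨_, agree_B2, by decide +kernel⟩, ⟨_, agree_D4, by decide +kernel⟩,
      ⟨_, agree_F4, by decide +kernel⟩, ⟨_, agree_E6, by decide +kernel⟩, ⟨_, agree_E7, by decide +kernel⟩,
      ⟨_, agree_E8, by decide +kernel⟩]
  simp only [cntB, allLt_iff, Bool.or_eq_true, Nat.beq_eq, Bool.and_eq_true, decide_eq_true_eq] at h1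
  obtain ⟨h2, h3⟩ := (h1 i i.2 j j.2).resolve_left fun e => h (Fin.ext e)
  refine ⟨Eq.trans (congrArg _ ?_) h2, h3⟩
  rw [List.countP_eq_length_filter, ← List.toFinset_card_of_nodup (List.nodup_range.filter _), ← Set.ncard_coe_finset,
    ← Set.ncard_image_of_injective _ Fin.val_injective]
  congr 1
  ext r
  simp only [Set.mem_image, Set.mem_ofPred_eq, rs_isPos_iff_le, InSub, List.coe_toFinset, List.mem_filter,
    List.mem_range, Bool.and_eq_true, Nat.ble_eq, allLt_iff, Bool.or_eq_true, Nat.beq_eq, decide_eq_true_eq, hc.rc]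
  refine ⟨?_, fun ⟨h1, h2, h3⟩ => ⟨⟨r, h1⟩, ⟨h2, fun m hm => (h3 m m.2).resolve_left ?_⟩, rfl⟩⟩
  · rintro ⟨r, ⟨h1, h2⟩, rfl⟩
    exact ⟨r.2, h1, fun m hm => or_iff_not_imp_left.mpr fun h => h2 ⟨m, hm⟩ (by simpa [Fin.ext_iff] using h)⟩
  · simpa [Fin.ext_iff] using hm

theorem Std.sym {θ : MulAut (D.group F)} {π : Equiv.Perm (Fin D.rank)} {c : Fin D.rank → Fˣ}
    {τ : Fin D.rank → F ≃+* F} (h : Std θ π c τ) (hU : ∀ x, θ x ∈ (PG D F).U ↔ x ∈ (PG D F).U) :
    D.IsDiagramSymmetry π := fun i j hij => by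
  have hP := nondeg D F
  have hm : ∀ (J : Set (Fin D.rank)) x, x ∈ (PG D F).UL J ↔ x ∈ (PG D F).U ∧ x ∈ (PG D F).GJ J := fun J x =>
    ⟨fun h => ⟨(PG D F).UL_le_U J h, (PG D F).UL_le_GJ J h⟩,
      fun h => hP.mem_UL_of_mem_U_LJ h.1 ((PG D F).GJ_le_LJ J h.2)⟩
  have e : Nat.card ((PG D F).UL {i, j}) = Nat.card ((PG D F).UL {π i, π j}) := Nat.card_congr
    (θ.toEquiv.subtypeEquiv fun x => by
      rw [hm, hm]
      exact and_congr (hU x).symm ⟨h.map_GJ (by simp), fun h' => by simpa using h.inv.map_GJ (K := {i, j}) (by simp) h'⟩)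
  have hc := fun J => card_US (F := F) (S := {r | (rs D).IsPos r ∧ (rs D).InSub J r}) (halfSpace_of_pos fun r hr => hr.1)
    (closed_pos.inter (closed_inSub J))
  have e' := congrArg (Nat.cast (R := ℤ)) (Nat.pow_right_injective Finite.one_lt_card
    ((hc {i, j}).symm.trans (e.trans (hc {π i, π j}))))
  obtain ⟨h1, h2⟩ := ncard_UL hij
  obtain ⟨h3, h4⟩ := ncard_UL (π.injective.ne hij)
  rw [h1, h3] at e'
  split_ifs at e' <;> omega

omit [Finite F] in
theorem exists_conn : ∃ d : ℕ → ℕ, ∀ i : Fin D.rank, i.val = 0 ∨ ∃ j : Fin D.rank, d j < d i ∧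
    ((rs D).C i j = -1 ∨ (rs D).C j i = -1) := by
  suffices ∃ d : ℕ → ℕ, ∀ i < D.rank, i = 0 ∨ ∃ j < D.rank, d j < d i ∧
      (D.cartan i (D.simple j) = -1 ∨ D.cartan j (D.simple i) = -1) by
    obtain ⟨d, h⟩ := this
    exact ⟨d, fun i => (h i i.2).imp_right fun ⟨j, hj, h⟩ => ⟨⟨j, hj⟩, h⟩⟩
  rcases hD.isTab.cases with rfl | rfl | rfl | rfl | rfl | rfl | rfl
  exacts [⟨id, by decide +kernel⟩, ⟨id, by decide +kernel⟩, ⟨id, by decide +kernel⟩, ⟨id, by decide +kernel⟩,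
    ⟨fun i => if i = 1 then 9 else i, by decide +kernel⟩, ⟨fun i => if i = 1 then 9 else i, by decide +kernel⟩,
    ⟨fun i => if i = 1 then 9 else i, by decide +kernel⟩]

omit [Finite F] in
theorem Std.exists_eq {θ : MulAut (D.group F)} {c : Fin D.rank → Fˣ} {τ : Fin D.rank → F ≃+* F} (h : Std θ 1 c τ) :
    ∃ σ, θ = dgAut D c * fmEquiv D σ := by
  obtain ⟨d, hd⟩ := exists_conn (D := D)
  have h1 : ∀ i j, (rs D).C i j = -1 → τ i = τ j := fun i j e => RingEquiv.ext fun t => by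
    by_cases ht : t = 0
    · simp [ht]
    · simpa [e] using (h.rel i j ht).symm
  have h0 : 0 < D.rank := by rcases hD.isTab.cases with rfl | rfl | rfl | rfl | rfl | rfl | rfl <;> decide
  have h2 : ∀ (m : ℕ) (i : Fin D.rank), d i = m → τ i = τ ⟨0, h0⟩ := fun m => Nat.strong_induction_on m fun m ih i hi => by
    rcases hd i with e | ⟨j, hj, e | e⟩
    · exact congrArg τ (Fin.ext e)
    · exact (h1 i j e).trans (ih _ (hi ▸ hj) j rfl)
    · exact (h1 j i e).symm.trans (ih _ (hi ▸ hj) j rfl)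
  refine ⟨τ ⟨0, h0⟩, h.ext ?_⟩
  convert (std_dgAut c).mul (std_fm (τ ⟨0, h0⟩)) using 1
  · simp
  · ext; simp
  · ext i t; simp [h2 _ i rfl]

variable (D F) in
/-- The field automorphisms carried by a graph automorphism. -/
noncomputable def ge (π : Equiv.Perm (Fin D.rank)) (i : Fin D.rank) : F ≃+* F :=
  haveI := ringChar.charP F
  haveI : Fact (ringChar F).Prime := ⟨CharP.char_is_prime F _⟩
  if D.isLong (D.simple (π i)) && !D.isLong (D.simple i) then frobeniusEquiv F (ringChar F) else RingEquiv.refl F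

omit hD in
theorem ge_apply (π : Equiv.Perm (Fin D.rank)) (i : Fin D.rank) (t : F) :
    ge D F π i t = t ^ D.graphExp (ringChar F) i (π i) := by
  unfold ge ChevalleyDatum.graphExp
  split_ifs
  · rfl
  · simp

theorem graphFor_iff {π : Equiv.Perm (Fin D.rank)} {γ : MulAut (D.group F)} : GraphFor D π γ ↔ Std γ π 1 (ge D F π) :=
  ⟨fun h => ⟨fun i t => by simpa [ge_apply] using (h i t).1, fun i t => by simpa [ge_apply] using (h i t).2⟩,
    fun h i t => ⟨by simpa [ge_apply] using h.pos i t, by simpa [ge_apply] using h.neg i t⟩⟩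

omit [Finite F] in
theorem Std.pow_eq {θ : MulAut (D.group F)} {π : Equiv.Perm (Fin D.rank)} {c : Fin D.rank → Fˣ}
    {τ : Fin D.rank → F ≃+* F} (h : Std θ π c τ) {i j : Fin D.rank} {m : ℕ} (h1 : (rs D).C i j = -1)
    (h2 : (rs D).C (π i) (π j) = -m) (h0 : (2 : F) ≠ 0) : (2 : F) ^ m = 2 := by
  simpa [h1, h2, map_ofNat] using (h.rel i j h0).symm

omit [Finite F] in
theorem Std.map_X_refl {θ : MulAut (D.group F)} {π : Equiv.Perm (Fin D.rank)} {c : Fin D.rank → Fˣ}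
    {τ : Fin D.rank → F ≃+* F} (h : Std θ π c τ) (i : Fin D.rank) {r s : Fin D.nroots}
    (e : ∀ x ∈ (PG D F).X r, θ x ∈ (PG D F).X s) :
    ∀ x ∈ (PG D F).X ((rs D).sref i r), θ x ∈ (PG D F).X ((rs D).sref (π i) s) := fun x hx => by
  obtain ⟨u, hu⟩ := mem_X_iff.mp (e _ (by simpa using (PG D F).n_inv_conj_X i _ hx))
  have : θ x = θ ((PG D F).n i) * xG D F s u * (θ ((PG D F).n i))⁻¹ := by rw [← hu]; simp [mul_assoc]
  rw [this, PG_n, ← rs_simple_val, h.map_n, nElt_conj _ _ (by simp), refl_simple]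
  exact xG_mem_X _ _

omit [Finite F] hD in
theorem Std.char_G2 {θ : MulAut (chevG2.group F)} {π : Equiv.Perm (Fin chevG2.rank)} {c : Fin chevG2.rank → Fˣ}
    {τ : Fin chevG2.rank → F ≃+* F} (h : Std θ π c τ) (hπ : ∀ i, (π i : ℕ) = twG2.ν i) : (3 : F) = 0 := by
  have h0 : ∀ i, ∀ x ∈ (PG chevG2 F).X ((rs _).simple i), θ x ∈ (PG chevG2 F).X ((rs _).simple (π i)) := fun i x hx => by
    obtain ⟨t, rfl⟩ := mem_X_iff.mp hx
    rw [h.pos]; exact xG_mem_X _ _
  let a : Fin chevG2.rank := ⟨0, by decide⟩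
  let b : Fin chevG2.rank := ⟨1, by decide⟩
  have e1 : π a = b := Fin.ext ((hπ a).trans (by decide +kernel))
  have e2 : π b = a := Fin.ext ((hπ b).trans (by decide +kernel))
  have h1 := h.map_X_refl a (h.map_X_refl b (h0 a))
  have e3 : (rs chevG2).sref a ((rs chevG2).sref b ((rs _).simple a)) = ⟨9, by decide +kernel⟩ :=
    Fin.ext (by rw [← reflectRoot_eq, ← reflectRoot_eq]; decide +kernel)
  have e4 : (rs chevG2).sref b ((rs chevG2).sref a ((rs _).simple b)) = ⟨11, by decide +kernel⟩ :=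
    Fin.ext (by rw [← reflectRoot_eq, ← reflectRoot_eq]; decide +kernel)
  rw [e1, e2, e3, e4] at h1
  obtain ⟨t, ht⟩ := mem_X_iff.mp (h0 a _ (xG_mem_X _ 1))
  obtain ⟨u, hu⟩ := mem_X_iff.mp (h1 _ (xG_mem_X _ 1))
  have h2 := (stRel_xG chevG2 F).comm 7 9 1 1 (by decide +kernel) (by decide +kernel) (by decide +kernel) (by decide +kernel)
  have h3 := (stRel_xG chevG2 F).comm 6 11 t u (by decide +kernel) (by decide +kernel) (by decide +kernel)
    (by decide +kernel)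
  have e5 : chevG2.commTerms 6 11 = [] := by decide +kernel
  have e6 : chevG2.commTerms 7 9 = [(10, 3, 1, 1)] ∨ chevG2.commTerms 7 9 = [(10, -3, 1, 1)] := by decide +kernel
  rw [e1] at ht
  rw [ChevalleyDatum.commWord, e5] at h3
  have h4 : θ (wordVal (xG chevG2 F) (chevG2.commWord F 7 9 1 1)) = 1 := by
    rw [← h2, map_mul, map_mul, map_mul, map_inv, map_inv, hu, show xG chevG2 F 7 1 = xG chevG2 F ((rs _).simple a : Fin _) 1
      from rfl, ht]
    exact h3
  rw [map_eq_one_iff _ θ.injective, ChevalleyDatum.commWord] at h4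
  rcases e6 with e | e <;> simpa [e, xG_eq_one_iff (D := chevG2) (r := 10) (by decide +kernel)] using h4

omit [Finite F] in
theorem Std.char_two {θ : MulAut (D.group F)} {π : Equiv.Perm (Fin D.rank)} {c : Fin D.rank → Fˣ}
    {τ : Fin D.rank → F ≃+* F} (h : Std θ π c τ) (hπ : D.IsDiagramSymmetry π) (h1 : D ∈ [chevB2, chevF4])
    (h2 : π ≠ 1) : (2 : F) = 0 := by_contra fun h0 => by
  have : (2 : F) ^ 2 = 2 := by
    simp only [List.mem_cons, List.not_mem_nil, or_false] at h1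
    rcases h1 with rfl | rfl
    · have := (sym_B2 hπ).resolve_left h2
      exact h.pow_eq (i := ⟨1, by decide⟩) (j := ⟨0, by decide⟩) (by rw [rs_C]; decide +kernel)
        (by rw [rs_C, this, this]; decide +kernel) h0
    · have := (sym_F4 hπ).resolve_left h2
      exact h.pow_eq (i := ⟨2, by decide⟩) (j := ⟨1, by decide⟩) (by rw [rs_C]; decide +kernel)
        (by rw [rs_C, this, this]; decide +kernel) h0
  exact h0 (by linear_combination this)

theorem Std.exists_graphFor {θ : MulAut (D.group F)} {π : Equiv.Perm (Fin D.rank)} {c : Fin D.rank → Fˣ}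
    {τ : Fin D.rank → F ≃+* F} (h : Std θ π c τ) (hπ : D.IsDiagramSymmetry π) :
    ∃ γ : MulAut (D.group F), GraphFor D π γ := by
  refine Chev.exists_graphFor hπ (fun h1 h2 => CharTwo.of_one_ne_zero_of_two_eq_zero one_ne_zero (h.char_two hπ h1 h2))
    fun h1 h2 => ?_
  subst h1
  exact (CharP.charP_iff_prime_eq_zero (by decide)).mpr (by exact_mod_cast h.char_G2 ((sym_G2 hπ).resolve_left h2))

omit [Finite F] in
theorem Std.conj_dgAut {θ : MulAut (D.group F)} {π : Equiv.Perm (Fin D.rank)} {c : Fin D.rank → Fˣ}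
    {τ : Fin D.rank → F ≃+* F} (h : Std θ π c τ) (a : Fin D.rank → Fˣ) : ∃ a', θ * dgAut D a * θ⁻¹ = dgAut D a' := by
  have := (h.mul (std_dgAut a)).mul h.inv
  exact ⟨_, Std.ext (by convert this using 1 <;> ext <;> simp) (std_dgAut _)⟩

theorem aut_decomp (θ : MulAut (D.group F)) : ∃ x c π γ σ, D.IsDiagramSymmetry π ∧ GraphFor D π γ ∧
    θ = MulAut.conj x * dgAut D c * γ * fmEquiv D σ := by
  obtain ⟨x, π, c, τ, h, hU⟩ := exists_std_conj θ
  obtain ⟨γ, hγ⟩ := h.exists_graphFor (h.sym hU)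
  have h1 := (graphFor_iff.mp hγ).inv.mul h
  rw [inv_mul_cancel] at h1
  obtain ⟨σ, e⟩ := h1.exists_eq
  obtain ⟨b, e⟩ : ∃ b, _ = dgAut D b * _ := ⟨_, e⟩
  obtain ⟨a, e'⟩ := (graphFor_iff.mp hγ).conj_dgAut b
  refine ⟨x⁻¹, a, π, γ, σ, h.sym hU, hγ, ?_⟩
  rw [← e', map_inv, mul_assoc _ _ γ, inv_mul_cancel_right, mul_assoc, mul_assoc, ← e]
  group

omit [Finite F] in
theorem isDiagonalAut_iff {φ : MulAut (D.group F)} : D.IsDiagonalAut φ ↔ ∃ c, φ = dgAut D c := by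
  refine ⟨fun ⟨χ, hχ, h⟩ => ⟨fun j => χ (D.simple j), MulEquiv.ext fun g => mat_injective ?_⟩, ?_⟩
  · have e := fun s hs => eq_lch_of_isRootCharacter hχ (s := s) hs
    rw [mat, h, charDiag_congr e, charDiag_congr (χ := fun r => (χ r)⁻¹) fun s hs => congrArg (·⁻¹) (e s hs)]
    rfl
  · rintro ⟨c, rfl⟩
    exact ⟨_, isRootCharacter_lch c, fun g => rfl⟩

omit [Finite F] in
theorem isFieldAut_iff {φ : MulAut (D.group F)} : D.IsFieldAut φ ↔ ∃ σ, φ = fmEquiv D σ := by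
  refine ⟨fun ⟨σ, h⟩ => ⟨σ, MulEquiv.toMonoidHom_injective (hom_ext_xG fun r t => ?_)⟩, ?_⟩
  · exact (mat_eq_x_iff.mp (h _ r t r.2 rfl)).trans (fmEquiv_xG σ r t).symm
  · rintro ⟨σ, rfl⟩
    exact ⟨σ, fun g r t _ h => by rw [mat_eq_x_iff.mp h, fmEquiv_xG]; rfl⟩

end Cfsg.Agent.ChevM
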