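import Mathlib
import Cfsg.Agent.Lib.Chev.AutB
import Cfsg.Agent.Lib.Chev.Mult
import Cfsg.Prelude.Def_KGroupFacts

/-! The outer automorphism group of a finite Chevalley group. -/

set_option autoImplicit false
set_option linter.unusedSectionVars false

namespace Cfsg.Agent.ChevM
open Cfsg.Lie Cfsg.Agent.Chev Cfsg.Agent.Chev.RSys Cfsg.Agent.Chev.PreRGD

theorem card_ringEquiv_of (F : Type*) [Field F] [Finite F] (p f : ℕ) [Fact p.Prime] [CharP F p]
    (h : Nat.card F = p ^ f) : Nat.card (F ≃+* F) = f := by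
  let := ZMod.algebra F p
  have h1 : Module.finrank (ZMod p) F = f :=
    Nat.pow_right_injective (Fact.out : p.Prime).two_le ((FiniteField.pow_finrank_eq_natCard p F).trans h)
  rw [← h1, ← IsGalois.card_aut_eq_finrank]
  refine Nat.card_congr ⟨fun σ => AlgEquiv.ofRingEquiv (f := σ) (fun x => ?_), fun σ => σ, fun _ => rfl, fun _ => rfl⟩
  exact DFunLike.congr_fun (Subsingleton.elim ((σ : F →+* F).comp (algebraMap (ZMod p) F)) (algebraMap (ZMod p) F)) x

theorem isCyclic_ringAut (F : Type*) [Field F] [Finite F] : IsCyclic (RingAut F) := by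
  have := ringChar.charP F
  have : Fact (ringChar F).Prime := ⟨CharP.char_is_prime F _⟩
  let := ZMod.algebra F (ringChar F)
  refine isCyclic_of_surjective (MonoidHom.mk' (fun σ : F ≃ₐ[ZMod (ringChar F)] F => (σ.toRingEquiv : RingAut F))
    fun _ _ => rfl) fun σ => ⟨AlgEquiv.ofRingEquiv (f := σ) fun x => ?_, rfl⟩
  exact DFunLike.congr_fun (Subsingleton.elim ((σ : F →+* F).comp (algebraMap (ZMod (ringChar F)) F))
    (algebraMap (ZMod (ringChar F)) F)) x

instance decSym (D : ChevalleyDatum) : DecidablePred D.IsDiagramSymmetry := fun _ => by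
  unfold ChevalleyDatum.IsDiagramSymmetry; infer_instance

variable {D : ChevalleyDatum} [hD : Tab D] {F : Type*} [Field F]

theorem conj_hG (a : Fin D.rank → Fˣ) : MulAut.conj (hG D a) = dgAut D (cm D a) := MulEquiv.ext (hG_conj a)

variable (D F) in
/-- The field automorphisms. -/
def fmAut : RingAut F →* MulAut (D.group F) where
  toFun := fmEquiv D
  map_one' := MulEquiv.ext fm_id
  map_mul' σ τ := MulEquiv.ext fun g => (fm_comp τ.toRingHom σ.toRingHom g).symm

theorem std_one : Std (1 : MulAut (D.group F)) 1 1 fun _ => RingEquiv.refl F := map_one (dgAut D (F := F)) ▸ std_dgAut 1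

theorem Std.unique_conj {θ : MulAut (D.group F)} {π π' : Equiv.Perm (Fin D.rank)} {c c' : Fin D.rank → Fˣ}
    {τ τ' : Fin D.rank → F ≃+* F} (h : Std θ π c τ) {x : D.group F} (h' : Std (MulAut.conj x * θ) π' c' τ') :
    π' = π ∧ (∃ a, ∀ i, c' i = cm D a (π i) * c i) ∧ τ' = τ := by
  obtain ⟨a, rfl⟩ := mem_H_iff.mp (h.mem_H h')
  obtain ⟨h1, h2, h3⟩ := h'.unique (conj_hG a ▸ (std_dgAut (cm D a)).mul h)
  exact ⟨by simpa using h1, ⟨a, fun i => by simp [h2]⟩, h3⟩

variable [Finite F]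

variable (D F) in
/-- The diagram symmetries that are induced by graph automorphisms. -/
def Adm : Set (Equiv.Perm (Fin D.rank)) := {π | D.IsDiagramSymmetry π ∧ ∃ γ : MulAut (D.group F), GraphFor D π γ}

theorem std_prod (c : Fin D.rank → Fˣ) {π : Equiv.Perm (Fin D.rank)} {γ : MulAut (D.group F)} (h : GraphFor D π γ)
    (σ : F ≃+* F) : Std (dgAut D c * γ * fmEquiv D σ) π (fun i => c (π i)) fun i => σ.trans (ge D F π i) := by
  convert ((std_dgAut c).mul (graphFor_iff.mp h)).mul (std_fm σ) using 1 <;> ext <;> simp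

variable (D F) in
theorem card_Out : Nat.card (Out (D.group F)) =
    Nat.card (cm D (F := F)).ker * Nat.card (Adm D F) * Nat.card (F ≃+* F) := by
  rw [← Subgroup.index_range, Subgroup.index, ← Nat.card_prod, ← Nat.card_prod]
  refine (Nat.card_eq_of_bijective (fun p => QuotientGroup.mk (dgAut D p.1.1.out * p.1.2.2.2.choose * fmEquiv D p.2))
    ⟨?_, fun θ => ?_⟩).symm
  · rintro ⟨⟨c, π, hπ⟩, σ⟩ ⟨⟨c', π', hπ'⟩, σ'⟩ e
    obtain ⟨x, hx⟩ := QuotientGroup.eq_iff_div_mem.mp e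
    rw [eq_div_iff_mul_eq'] at hx
    obtain ⟨rfl, ⟨a, h2⟩, h3⟩ := (std_prod c'.out hπ'.2.choose_spec σ').unique_conj
      (hx ▸ std_prod c.out hπ.2.choose_spec σ)
    have h0 : 0 < D.rank := by rcases hD.isTab.cases with rfl | rfl | rfl | rfl | rfl | rfl | rfl <;> decide
    refine Prod.ext (Prod.ext ?_ rfl) (RingEquiv.ext fun t => (ge D F π ⟨0, h0⟩).injective
      (DFunLike.congr_fun (congrFun h3 ⟨0, h0⟩) t))
    rw [← c.out_eq, ← c'.out_eq]
    refine QuotientGroup.eq_iff_div_mem.mpr ⟨a, funext fun i => ?_⟩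
    obtain ⟨i, rfl⟩ := π.surjective i
    simp [h2 i]
  · obtain ⟨θ, rfl⟩ := QuotientGroup.mk_surjective θ
    obtain ⟨x, c, π, γ, σ, h1, h2, rfl⟩ := aut_decomp θ
    obtain ⟨⟨_, a, rfl⟩, e⟩ := QuotientGroup.mk_out_eq_mul (cm D).range c
    have hπ : π ∈ Adm D F := ⟨h1, γ, h2⟩
    refine ⟨⟨⟨c, π, hπ⟩, σ⟩, QuotientGroup.eq_iff_div_mem.mpr ⟨hG D a * x⁻¹, ?_⟩⟩
    simp only [e, (graphFor_iff.mp hπ.2.choose_spec).ext (graphFor_iff.mp h2), mul_comm c, map_mul, map_inv, conj_hG,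
      div_eq_mul_inv]
    group

omit [Finite F] in
theorem card_ker_cm [Fintype F] {d l : ℕ} {e : ℕ → ℤ} (h : CenterData D d l e) :
    Nat.card (cm D (F := F)).ker = Nat.gcd d (Fintype.card F - 1) := by
  have : (cm D (F := F)).ker = (centerHom D F d e).range := Subgroup.ext fun a => by
    rw [MonoidHom.mem_ker, ← ChevM.hG_eq_one_iff, h.hG_eq_one_iff]
  rw [this, ← card_ker_pow]
  refine Nat.card_congr (MonoidHom.ofInjective ((injective_iff_map_eq_one _).mpr fun w hw => ?_)).symm.toEquiv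
  have h1 : (w : Fˣ) ^ e l = 1 := congrFun hw ⟨l, h.lt⟩
  have h2 := zpow_eq_one_of_dvd w h.one
  rw [zpow_sub_one, h1, one_mul, inv_eq_one] at h2
  exact Subtype.ext h2

theorem card_adm_of (h2 : D ∈ [chevB2, chevF4] → CharP F 2) (h3 : D = chevG2 → CharP F 3) :
    Nat.card (Adm D F) = Fintype.card {π // D.IsDiagramSymmetry π} := by
  rw [← Nat.card_eq_fintype_card]
  exact Nat.card_congr (Equiv.subtypeEquivRight fun π =>
    ⟨fun h => h.1, fun h => ⟨h, exists_graphFor h (fun h _ => h2 h) fun h _ => h3 h⟩⟩)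

omit [Finite F] in
theorem card_adm_one (h : ∀ π ∈ Adm D F, π = 1) : Nat.card (Adm D F) = 1 := by
  rw [show Adm D F = {1} from Set.eq_singleton_iff_unique_mem.mpr ⟨⟨fun _ _ _ => rfl, _, graphFor_one⟩, h⟩]
  simp

/-- The permutation of the nodes induced by an automorphism. -/
noncomputable def permOf : MulAut (D.group F) →* Equiv.Perm (Fin D.rank) :=
  MonoidHom.mk' (fun θ => (exists_std_conj θ).choose_spec.choose) fun θ θ' => by
    obtain ⟨c, τ, h, -⟩ := (exists_std_conj θ).choose_spec.choose_spec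
    obtain ⟨c', τ', h', -⟩ := (exists_std_conj θ').choose_spec.choose_spec
    obtain ⟨c'', τ'', h'', -⟩ := (exists_std_conj (θ * θ')).choose_spec.choose_spec
    exact ((h.mul h').unique_conj (x := (exists_std_conj (θ * θ')).choose * ((exists_std_conj θ).choose *
      θ (exists_std_conj θ').choose)⁻¹) (by convert h'' using 1; ext; simp [mul_assoc])).1

theorem permOf_eq {θ : MulAut (D.group F)} {x : D.group F} {π : Equiv.Perm (Fin D.rank)} {c : Fin D.rank → Fˣ}
    {τ : Fin D.rank → F ≃+* F} (h : Std (MulAut.conj x * θ) π c τ) : permOf θ = π := by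
  obtain ⟨c', τ', h', -⟩ := (exists_std_conj θ).choose_spec.choose_spec
  exact (h.unique_conj (x := (exists_std_conj θ).choose * x⁻¹) (by
    rwa [map_mul, map_inv, mul_assoc, inv_mul_cancel_left])).1

theorem Std.permOf_eq {θ : MulAut (D.group F)} {π : Equiv.Perm (Fin D.rank)} {c : Fin D.rank → Fˣ}
    {τ : Fin D.rank → F ≃+* F} (h : Std θ π c τ) : permOf θ = π := ChevM.permOf_eq (x := 1) (by simpa using h)

theorem permOf_conj (x : D.group F) : permOf (MulAut.conj x) = 1 :=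
  permOf_eq (x := x⁻¹) (by simpa using std_one)

variable (D F) in
/-- The permutation of the nodes induced by an outer automorphism. -/
noncomputable def permOut : Out (D.group F) →* Equiv.Perm (Fin D.rank) :=
  QuotientGroup.lift _ permOf (by rintro _ ⟨x, rfl⟩; exact permOf_conj x)

theorem range_permOut : ((permOut D F).range : Set _) = Adm D F := by
  ext π
  refine ⟨?_, fun ⟨_, γ, h⟩ => ⟨QuotientGroup.mk γ, (graphFor_iff.mp h).permOf_eq⟩⟩
  rintro ⟨θ, rfl⟩
  obtain ⟨θ, rfl⟩ := QuotientGroup.mk_surjective θ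
  obtain ⟨x, π, c, τ, h, hU⟩ := exists_std_conj θ
  rw [show permOut D F θ = π from permOf_eq h]
  exact ⟨h.sym hU, h.exists_graphFor (h.sym hU)⟩

theorem mk_conj (x : D.group F) : QuotientGroup.mk' (Inn (D.group F)) (MulAut.conj x) = 1 :=
  (QuotientGroup.eq_one_iff _).mpr ⟨x, rfl⟩

theorem ker_permOut : (permOut D F).ker =
    (dgAut D).range.map (QuotientGroup.mk' _) ⊔ (fmAut D F).range.map (QuotientGroup.mk' _) := by
  refine le_antisymm (fun θ hθ => ?_) (sup_le ?_ ?_)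
  · obtain ⟨θ, rfl⟩ := QuotientGroup.mk'_surjective _ θ
    obtain ⟨x, c, π, γ, σ, -, h2, rfl⟩ := aut_decomp θ
    obtain rfl : π = 1 := (permOf_eq (x := x⁻¹) (by simpa [mul_assoc] using std_prod c h2 σ)).symm.trans hθ
    rw [(graphFor_iff.mp h2).ext (graphFor_iff.mp graphFor_one), map_mul, map_mul, map_mul, mk_conj, one_mul]
    exact mul_mem (mul_mem (Subgroup.mem_sup_left ⟨_, ⟨c, rfl⟩, rfl⟩) (one_mem _))
      (Subgroup.mem_sup_right ⟨_, ⟨σ, rfl⟩, rfl⟩)
  · rintro _ ⟨_, ⟨c, rfl⟩, rfl⟩; exact (std_dgAut c).permOf_eq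
  · rintro _ ⟨_, ⟨σ, rfl⟩, rfl⟩; exact (std_fm σ).permOf_eq

theorem normal_diag : ((dgAut D (F := F)).range.map (QuotientGroup.mk' (Inn (D.group F)))).Normal := ⟨by
  rintro _ ⟨_, ⟨a, rfl⟩, rfl⟩ θ
  obtain ⟨θ, rfl⟩ := QuotientGroup.mk'_surjective _ θ
  obtain ⟨x, π, c, τ, h, -⟩ := exists_std_conj θ
  obtain ⟨a', e⟩ := h.conj_dgAut a
  refine ⟨_, ⟨a', rfl⟩, ?_⟩
  simp only [← e, map_mul, map_inv, mk_conj, one_mul]⟩

end Cfsg.Agent.ChevM
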