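import Mathlib
import Cfsg.Agent.Lib.Chev.Invol

/-! Certificates for the classification of involutions in characteristic two. -/

set_option autoImplicit false
set_option linter.unusedSectionVars false

namespace Cfsg.Agent.ChevM
open Cfsg.Lie Cfsg.Agent.Chev Cfsg.Agent.Chev.RSys Cfsg.Agent.Chev.PreRGD

/-- One collection step in a word of root elements `x_r(1)`. -/
def cstep (n : ℕ) (ot : ℕ → ℕ → List (ℕ × ℕ × ℕ)) : List ℕ → Option (List ℕ)
  | a :: b :: L => bif Nat.beq a b then some L else bif Nat.blt b a && !Nat.beq (b + a + 1) n then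
      some (b :: a :: ((ot b a).map Prod.fst ++ L)) else (cstep n ot (b :: L)).map (a :: ·)
  | _ => none

/-- Collection with a bounded number of steps. -/
def collect (n : ℕ) (ot : ℕ → ℕ → List (ℕ × ℕ × ℕ)) : ℕ → List ℕ → List ℕ
  | 0, L => L
  | f + 1, L => match cstep n ot L with
    | none => L
    | some L' => collect n ot f L'

/-- A move: a reflection (`q = none`), or a conjugation by a word onto a given word. -/
def runMv (D : ChevalleyDatum) (c : TabCert) (ot : ℕ → ℕ → List (ℕ × ℕ × ℕ)) (A : List ℕ) :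
    List (List ℕ × Option (List ℕ)) → Option (List ℕ)
  | [] => some A
  | (q, none) :: M => bif allL q (Nat.blt · D.nroots) then runMv D c ot (q.foldr (fun r B => B.map (reflB D c r)) A) M
      else none
  | (q, some B) :: M => bif allL (q ++ B) (Nat.blt · D.nroots) &&
      decide (collect D.nroots ot 500 (q ++ B) = collect D.nroots ot 500 (A ++ q)) then runMv D c ot B M else none

/-- All members of `B` are orthogonal to `s`. -/
def orthB (D : ChevalleyDatum) (c : TabCert) (B : List ℕ) (s : ℕ) : Bool := allL B fun a => decide (c.pairing D a s = 0)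

/-- The members of a list are pairwise orthogonal. -/
def orthL (D : ChevalleyDatum) (c : TabCert) : List ℕ → Bool
  | [] => true
  | a :: A => allL A (fun s => decide (c.pairing D a s = 0)) && orthL D c A

/-- Check of a list of nodes `(A, moves, Γ)`: with `Γ = none` the moves shorten `A`; otherwise they lead to a
representative and the extensions of `A` that are dominant for `Γ` occur later in the list. -/
def treeB (D : ChevalleyDatum) (c : TabCert) (ot : ℕ → ℕ → List (ℕ × ℕ × ℕ)) (Rs : List (List ℕ)) :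
    List (List ℕ × List (List ℕ × Option (List ℕ)) × Option (List ℕ)) → Bool
  | [] => true
  | (A, M, Γ) :: N => treeB D c ot Rs N && allL A (Nat.blt · D.nroots) && match runMv D c ot A M, Γ with
    | none, _ => false
    | some B, none => Nat.blt B.length A.length && orthL D c B &&
      allLt D.nroots fun s => !orthB D c A s || orthB D c (B ++ (M.map Prod.fst).flatten) s
    | some B, some Γ => decide (B ∈ Rs) &&
      allL Γ (fun r => Nat.blt r D.nroots && Nat.ble D.nroots (2 * r) && orthB D c A r) &&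
      allLt D.nroots fun s => !orthB D c A s || !allL Γ (fun r => decide (0 ≤ c.pairing D r s)) ||
        decide (A ++ [s] ∈ N.map Prod.fst)

/-- The sum of the roots of a list lies in twice the weight lattice. -/
def evenB (D : ChevalleyDatum) (c : TabCert) (A : List ℕ) : Bool :=
  allLt D.rank fun i => decide ((A.map (c.car i)).sum % 2 = 0)

/-- No isometric map of the list into `T` extends the assignment and has the parity `b`. -/
def noEmb (D : ChevalleyDatum) (c : TabCert) (T : List ℕ) (b : Bool) : List ℕ → List (ℕ × ℕ) → Bool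
  | [], S => evenB D c (S.map Prod.snd) != b
  | a :: A, S => allL T fun t => !(decide (len D a = len D t) &&
      allL S fun p => decide (c.pairing D a p.1 = c.pairing D t p.2)) || noEmb D c T b A ((a, t) :: S)

/-- Representatives with their supports: pairwise not conjugate. -/
def repsB (D : ChevalleyDatum) (c : TabCert) (ot : ℕ → ℕ → List (ℕ × ℕ × ℕ)) : List (List ℕ × List ℕ) → Bool
  | [] => true
  | p :: R => repsB D c ot R && !p.1.isEmpty && suppB D.nroots c ot p.1 p.2 &&
      allL R fun p' => noEmb D c p.2 (evenB D c p'.1) p'.1 [] || noEmb D c p'.2 (evenB D c p.1) p.1 []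

variable {D : ChevalleyDatum} [hD : GoodM D] {F : Type*} [Field F] [CharP F 2] {c : TabCert}
  {ot : ℕ → ℕ → List (ℕ × ℕ × ℕ)}

theorem cstep_sound (ho : OT D F ot) : ∀ {L L' : List ℕ}, cstep D.nroots ot L = some L' → (∀ a ∈ L, a < D.nroots) →
    (∀ a ∈ L', a < D.nroots) ∧ prN D F L' = prN D F L
  | [], _, h, _ => by simp [cstep] at h
  | [_], _, h, _ => by simp [cstep] at h
  | a :: b :: L, L', h, hL => by
    simp only [cstep, Bool.cond_eq_ite, Nat.beq_eq, Bool.and_eq_true, Nat.blt_eq, Bool.not_eq_true',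
      beq_false_iff] at h
    have ha := hL a (by simp)
    have hb := hL b (by simp)
    split_ifs at h with h1 h2
    · obtain rfl := Option.some.inj h
      exact ⟨fun x hx => hL x (by simp [hx]), by rw [h1, prN_cons, prN_cons, ← mul_assoc, xG_mul_self, one_mul]⟩
    · obtain rfl := Option.some.inj h
      refine ⟨fun x hx => ?_, ?_⟩
      · simp only [List.mem_cons, List.mem_append, List.mem_map] at hx
        rcases hx with rfl | rfl | ⟨e, he, rfl⟩ | hx
        exacts [hb, ha, ho.lt ⟨b, hb⟩ ⟨a, ha⟩ e he, hL x (by simp [hx])]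
      · have := ho.eq ⟨b, hb⟩ ⟨a, ha⟩ (fun e => h1 (Fin.ext_iff.mp e)) (ne_neg_of_add h2.2) 1 1
        simp only [one_pow, mul_one] at this
        rw [prN_cons, prN_cons, prN_cons, prN_cons, prN_append, prN, List.map_map, Function.comp_def, ← this]
        have e1 := xG_mul_self (D := D) a (1 : F)
        have e2 := xG_mul_self (D := D) b (1 : F)
        simp only [mul_assoc, mul_inv_cancel_left]
    · obtain ⟨L'', h3, rfl⟩ := Option.map_eq_some_iff.mp h
      have := cstep_sound ho h3 fun x hx => hL x (List.mem_cons_of_mem _ hx)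
      exact ⟨List.forall_mem_cons.mpr ⟨ha, this.1⟩, by rw [prN_cons, this.2, ← prN_cons]⟩

theorem collect_sound (ho : OT D F ot) : ∀ (f : ℕ) {L : List ℕ}, (∀ a ∈ L, a < D.nroots) →
    prN D F (collect D.nroots ot f L) = prN D F L
  | 0, _, _ => rfl
  | f + 1, L, hL => by
    rw [collect]
    cases h : cstep D.nroots ot L with
    | none => rfl
    | some L' => exact (collect_sound ho f (cstep_sound ho h hL).1).trans (cstep_sound ho h hL).2

theorem nElt_conj_pr (r : Fin D.nroots) (A : List (Fin D.nroots)) :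
    nElt D (xG D F) r 1 * pr D F A * (nElt D (xG D F) r 1)⁻¹ = pr D F (A.map ((rs D).refl r)) := by
  rw [← MulAut.conj_apply, pr, pr, map_list_prod, List.map_map, List.map_map]
  congr 1
  exact List.map_congr_left fun s _ => nElt_one_conj r s 1

theorem runMv_sound (hc : KeyOK D c) (ho : OT D F ot) {y : D.group F} (M : List (List ℕ × Option (List ℕ)))
    (hy : ∀ r : Fin D.nroots, r.val ∈ (M.map Prod.fst).flatten → ∀ t, Commute (xG D F r t) y ∧
      Commute (xG D F ((rs D).neg r : Fin D.nroots) t) y) {A B : List ℕ} (hA : ∀ a ∈ A, a < D.nroots)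
    (h : runMv D c ot A M = some B) : (∀ a ∈ B, a < D.nroots) ∧ IsConj (prN D F A * y) (prN D F B * y) := by
  induction M generalizing A with
  | nil => obtain rfl := Option.some.inj h; exact ⟨hA, IsConj.refl _⟩
  | cons m M ih =>
    replace ih := @ih fun r hr => hy r (by simp only [List.map_cons, List.flatten_cons, List.mem_append]; exact .inr hr)
    replace hy := fun (r : Fin D.nroots) (hr : r.val ∈ m.1) => hy r (by simp [hr])
    obtain ⟨q, _ | B'⟩ := m <;> simp only [runMv, Bool.cond_eq_ite, allL_iff, Nat.blt_eq, Bool.and_eq_true,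
      decide_eq_true_eq] at h <;> split_ifs at h with h1
    · suffices (∀ a ∈ q.foldr (fun r B => B.map (reflB D c r)) A, a < D.nroots) ∧
          IsConj (prN D F A * y) (prN D F (q.foldr (fun r B => B.map (reflB D c r)) A) * y) from
        ⟨(ih this.1 h).1, this.2.trans (ih this.1 h).2⟩
      clear h
      induction q with
      | nil => exact ⟨hA, IsConj.refl _⟩
      | cons r q ih' =>
        obtain ⟨h2, h3⟩ := ih' (fun s hs => hy s (List.mem_cons_of_mem _ hs)) fun s hs => h1 s (List.mem_cons_of_mem _ hs)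
        obtain ⟨r, rfl⟩ : ∃ r' : Fin D.nroots, r'.val = r := ⟨⟨r, h1 r (by simp)⟩, rfl⟩
        rw [List.foldr_cons, ← map_fl h2]
        simp only [hc.reflB_eq]
        refine ⟨by simp, h3.trans (isConj_iff.mpr ⟨nElt D (xG D F) r 1, ?_⟩)⟩
        have := hy r (by simp)
        have h4 : Commute (nElt D (xG D F) r 1) y := by
          rw [nElt_eq]; exact ((this _).1.mul_left (this _).2).mul_left (this _).1
        rw [← pr_fl h2, ← Function.comp_def Fin.val, ← List.map_map, prN_map_val, ← nElt_conj_pr, mul_assoc, mul_assoc,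
          ← h4.inv_left.eq, mul_assoc, mul_assoc]
    · simp only [List.mem_append] at h1
      have h2 := congrArg (prN D F) h1.2
      rw [collect_sound ho _ (by simpa using h1.1), collect_sound ho _ (List.forall_mem_append.mpr
        ⟨hA, fun a ha => h1.1 a (.inl ha)⟩), prN_append, prN_append] at h2
      have h3 := ih (fun a ha => h1.1 a (.inr ha)) h
      refine ⟨h3.1, IsConj.trans (isConj_iff.mpr ⟨prN D F q, ?_⟩).symm h3.2⟩
      have h4 : Commute (prN D F q) y := Commute.list_prod_left _ _ fun x hx => by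
        obtain ⟨r, hr, rfl⟩ := List.mem_map.mp hx
        exact (hy ⟨r, h1.1 r (.inl hr)⟩ hr 1).1
      rw [← mul_assoc, h2, mul_assoc (prN D F A), h4.eq, ← mul_assoc, mul_inv_cancel_right]

theorem orthB_iff (hc : KeyOK D c) {B : List ℕ} (hB : ∀ a ∈ B, a < D.nroots) {s : Fin D.nroots} :
    orthB D c B s = true ↔ ∀ a ∈ fl D B, (rs D).pair a s = 0 := by
  simp only [orthB, allL_iff, decide_eq_true_eq, mem_fl, hc.pair]
  exact ⟨fun h a ha => h a ha, fun h a ha => h ⟨a, hB a ha⟩ ha⟩

theorem orth_of_orthL (hc : KeyOK D c) : ∀ {B : List ℕ}, orthL D c B = true → Orth (fl D B)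
  | [], _ => List.Pairwise.nil
  | a :: A, h => by
    simp only [orthL, Bool.and_eq_true, allL_iff, decide_eq_true_eq] at h
    rw [fl, List.filterMap_cons]
    split_ifs with ha
    · exact List.pairwise_cons.mpr ⟨fun s hs => by rw [hc.pair]; exact h.1 s (mem_fl.mp hs), orth_of_orthL hc h.2⟩
    · exact orth_of_orthL hc h.2

theorem tree_sound (hc : KeyOK D c) (ho : OT D F ot) (hoc : OC D F) {Rs : List (List ℕ)}
    (N : List (List ℕ × List (List ℕ × Option (List ℕ)) × Option (List ℕ))) (h : treeB D c ot Rs N = true) :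
    ∀ A ∈ N.map Prod.fst, ∀ C, Orth (fl D A ++ C) → (∀ L, Orth L → L.length < (fl D A ++ C).length →
      ∃ B ∈ Rs, IsConj (pr D F L) (prN D F B)) → ∃ B ∈ Rs, IsConj (pr D F (fl D A ++ C)) (prN D F B) := by
  induction N with
  | nil => simp
  | cons e N ih =>
    obtain ⟨A, M, Γ⟩ := e
    simp only [treeB, Bool.and_eq_true, allL_iff, Nat.blt_eq] at h
    obtain ⟨⟨h1, hA⟩, h⟩ := h
    refine List.forall_mem_cons.mpr ⟨?_, ih h1⟩
    cases hB : runMv D c ot A M with
    | none => simp [hB] at h
    | some B =>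
    cases Γ with
    | none =>
      simp only [hB, Bool.and_eq_true, allLt_iff, Nat.blt_eq, Bool.or_eq_true, Bool.not_eq_true'] at h
      intro C hC hI
      have h2 : ∀ s ∈ C, ∀ r : Fin D.nroots, r.val ∈ B ++ (M.map Prod.fst).flatten → (rs D).pair r s = 0 :=
        fun s hs r hr => by
          have := (h.2 s s.2).resolve_left (by
            rw [Bool.not_eq_false, orthB_iff hc hA]; exact fun a ha => (List.pairwise_append.mp hC).2.2 a ha s hs)
          simp only [orthB, allL_iff, decide_eq_true_eq] at this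
          rw [hc.pair]; exact this r hr
      obtain ⟨h3, h4⟩ := runMv_sound hc ho (y := pr D F C) M (fun r hr t =>
        ⟨commute_pr fun s hs => hoc r s (h2 s hs r (List.mem_append_right _ hr)) t 1,
          commute_pr fun s hs => hoc _ s (by simp [h2 s hs r (List.mem_append_right _ hr)]) t 1⟩) hA hB
      obtain ⟨B', hB', h5⟩ := hI (fl D B ++ C) (List.pairwise_append.mpr ⟨orth_of_orthL hc h.1.2,
        (List.pairwise_append.mp hC).2.1, fun a ha s hs => h2 s hs a (List.mem_append_left _ (mem_fl.mp ha))⟩) (by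
          have e1 := congrArg List.length (map_val_fl hA)
          have e2 := congrArg List.length (map_val_fl h3)
          simp only [List.length_map, List.length_append] at *
          omega)
      rw [pr_append, pr_fl h3] at h5
      rw [pr_append, pr_fl hA]
      exact ⟨B', hB', h4.trans h5⟩
    | some Γ =>
      simp only [hB, Bool.and_eq_true, allLt_iff, allL_iff, Nat.blt_eq, Nat.ble_eq, Bool.or_eq_true,
        Bool.not_eq_true', decide_eq_true_eq] at h
      rintro (_ | ⟨s, C⟩) hC hI
      · have := (runMv_sound hc ho (y := 1) M (by simp) hA hB).2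
        rw [mul_one, mul_one] at this
        exact ⟨B, h.1.1, by rwa [List.append_nil, pr_fl hA]⟩
      induction hm : D.nroots - s.val using Nat.strong_induction_on generalizing s C with
      | _ m ih' =>
      rcases h.2 s s.2 with (h2 | h2) | h2
      · rw [← Bool.not_eq_true, orthB_iff hc hA] at h2
        exact absurd (fun a ha => (List.pairwise_append.mp hC).2.2 a ha s (by simp)) h2
      · simp only [← Bool.not_eq_true, allL_iff, decide_eq_true_eq, not_forall, not_le] at h2
        obtain ⟨r, hr, h2⟩ := h2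
        obtain ⟨⟨h3, h4⟩, h5⟩ := h.1.2 r hr
        obtain ⟨r, rfl⟩ : ∃ r' : Fin D.nroots, r'.val = r := ⟨⟨r, h3⟩, rfl⟩
        rw [← hc.pair] at h2
        rw [orthB_iff hc hA] at h5
        have e : (fl D A ++ s :: C).map ((rs D).refl r) = fl D A ++ (rs D).refl r s :: C.map ((rs D).refl r) := by
          rw [List.map_append, List.map_congr_left (f := (rs D).refl r) (g := id) fun a ha =>
            refl_eq_self_of_pair _ ((rs D).pair_eq_zero_comm.mp (h5 a ha)), List.map_id, List.map_cons]
        have hlt : s < (rs D).refl r s := by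
          rw [rs_lt_iff_keyv, rc_refl, map_sub, map_smul, smul_eq_mul]
          have := rs_isPos_iff_keyv.mp ((rs_isPos_iff_le r).mpr h4)
          nlinarith
        obtain ⟨B', hB', h6⟩ := ih' _ (by have := ((rs D).refl r s).2; have := Fin.lt_def.mp hlt; omega) _
          (C.map ((rs D).refl r)) (e ▸ List.pairwise_map.mpr (hC.imp fun h => by
            rwa [Aut.pair_apply ((rs D).refl_mem_Aut r)])) (by simpa using hI) rfl
        exact ⟨B', hB', IsConj.trans (isConj_iff.mpr ⟨_, e ▸ nElt_conj_pr r _⟩) h6⟩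
      · have e : fl D (A ++ [s.val]) ++ C = fl D A ++ s :: C := by
          rw [fl_append, show [s.val] = [s].map Fin.val from rfl, fl_map_val]; simp
        exact e ▸ ih h1 _ h2 C (e ▸ hC) (e ▸ hI)

theorem cover_of_check [PerfectField F] (hc : KeyOK D c) (ho : OT D F ot) (hoc : OC D F) {Rs : List (List ℕ)}
    {N : List (List ℕ × List (List ℕ × Option (List ℕ)) × Option (List ℕ))} {Γ : List ℕ}
    (h : treeB D c ot ([] :: Rs) (([], [], some Γ) :: N) = true) {z : D.group F} (hz : orderOf z = 2) :
    ∃ B ∈ Rs, IsConj z (prN D F B) := by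
  obtain ⟨L, hL, h1⟩ := exists_orth_isConj hoc (z := z) (by rw [← sq, ← hz, pow_orderOf_eq_one])
  have : ∀ (m : ℕ) (L : List (Fin D.nroots)), L.length = m → Orth L → ∃ B ∈ [] :: Rs, IsConj (pr D F L) (prN D F B) :=
    fun m => Nat.strong_induction_on m fun m ih L hm hL =>
      tree_sound hc ho hoc _ h [] (by simp) L hL fun L' h1 h2 => ih _ (hm ▸ h2) L' rfl h1
  obtain ⟨B, hB, h2⟩ := this _ L rfl hL
  refine ⟨B, (List.mem_cons.mp hB).resolve_left ?_, h1.trans h2⟩
  rintro rfl
  rw [isConj_one_right.mp (h1.trans h2).symm, orderOf_one] at hz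
  exact absurd hz (by decide)

theorem evenB_iff (hc : KeyOK D c) (L : List (Fin D.nroots)) :
    evenB D c (L.map Fin.val) = true ↔ ∀ r, 2 ∣ (L.map ((rs D).pair r)).sum := by
  simp only [evenB, allLt_iff, decide_eq_true_eq, List.map_map, ← Int.dvd_iff_emod_eq_zero]
  refine ⟨fun h r => ?_, fun h i hi => ?_⟩
  · have : (L.map ((rs D).pair r)).sum = ∑ i, (rs D).cc r i * (L.map (c.car i ∘ Fin.val)).sum := by
      clear h
      induction L with
      | nil => simp
      | cons a L ih => simp [ih, mul_add, Finset.sum_add_distrib, (rs D).pair_eq_sum r a, hc.pair_simple]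
    rw [this]
    exact Finset.dvd_sum fun i _ => (h i i.2).mul_left _
  · convert h ((rs D).simple ⟨i, hi⟩) using 3
    ext a; exact (hc.pair_simple ⟨i, hi⟩ a).symm

theorem noEmb_sound (hc : KeyOK D c) {T : List ℕ} {b : Bool} {w : Equiv.Perm (Fin D.nroots)} (hw : w ∈ (rs D).Aut)
    (A S : List (Fin D.nroots)) (hA : ∀ a ∈ A, (w a).val ∈ T)
    (h : noEmb D c T b (A.map Fin.val) (S.map fun a => (a.val, (w a).val)) = true) :
    evenB D c ((A.reverse ++ S).map Fin.val) ≠ b := by
  induction A generalizing S with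
  | nil =>
    have : evenB D c ((S.map w).map Fin.val) = evenB D c (S.map Fin.val) := by
      rw [Bool.eq_iff_iff, evenB_iff hc, evenB_iff hc, w.surjective.forall]
      simp only [List.map_map, Function.comp_def, Aut.pair_apply hw]
    simpa [noEmb, ← this, Function.comp_def] using h
  | cons a A ih =>
    simp only [List.map_cons, noEmb, allL_iff, Bool.or_eq_true, Bool.not_eq_true'] at h
    have := ih (a :: S) (fun x hx => hA x (List.mem_cons_of_mem _ hx)) ((h _ (hA a (by simp))).resolve_left (by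
      simp only [Bool.not_eq_false, Bool.and_eq_true, decide_eq_true_eq, allL_iff, List.forall_mem_map, ← hc.pair,
        Aut.pair_apply hw, implies_true, and_true]
      exact (Aut.len_apply hw a).symm))
    simpa using this

theorem not_isConj_of_check (hc : KeyOK D c) (ho : OT D F ot) {A T B T' : List ℕ}
    (h1 : suppB D.nroots c ot A T = true) (h2 : suppB D.nroots c ot B T' = true)
    (h : noEmb D c T' (evenB D c A) A [] = true) : ¬ IsConj (prN D F A) (prN D F B) := fun e => by
  rw [← pr_fl (lt_of_suppB h1).1, ← pr_fl (lt_of_suppB h2).1] at e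
  obtain ⟨w, hw, h3⟩ := (supp_of_check hc ho h1).exists_W (supp_of_check hc ho h2) e
  refine noEmb_sound hc ((rs D).W_le_Aut hw) (fl D A) [] h3 (by rwa [map_val_fl (lt_of_suppB h1).1]) ?_
  conv_rhs => rw [← map_val_fl (lt_of_suppB h1).1]
  rw [Bool.eq_iff_iff, evenB_iff hc, evenB_iff hc]
  simp [List.sum_reverse]

theorem Supp.orderOf_eq {A : List (Fin D.nroots)} {T : Set (Fin D.nroots)} (h : Supp F A T) (hA : A ≠ []) :
    orderOf (pr D F A) = 2 := by
  refine orderOf_eq_prime ?_ (h.ne_one hA)
  have : ∀ B : List (Fin D.nroots), (∀ a ∈ B, a ∈ T) → pr D F B ^ 2 = 1 := fun B hB => by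
    induction B with
    | nil => simp
    | cons a B ih =>
      have hB' := fun b hb => hB b (List.mem_cons_of_mem a hb)
      rw [pr_cons, (h.ab.commute (xG_mem_US (hB a (by simp)) 1) (pr_mem_US hB')).mul_pow, ih hB', sq, xG_mul_self,
        one_mul]
  exact this A h.sub

theorem reps_sound (hc : KeyOK D c) (ho : OT D F ot) : ∀ {R : List (List ℕ × List ℕ)}, repsB D c ot R = true →
    (∀ A ∈ R.map Prod.fst, orderOf (prN D F A) = 2) ∧
      (R.map Prod.fst).Pairwise fun A B => ¬ IsConj (prN D F A) (prN D F B) := by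
  suffices ∀ {R : List (List ℕ × List ℕ)}, repsB D c ot R = true → (∀ p ∈ R, suppB D.nroots c ot p.1 p.2 = true) ∧
    (∀ A ∈ R.map Prod.fst, orderOf (prN D F A) = 2) ∧
      (R.map Prod.fst).Pairwise fun A B => ¬ IsConj (prN D F A) (prN D F B) from fun {_} h => (this h).2
  intro R h
  induction R with
  | nil => simp
  | cons p R ih =>
    simp only [repsB, Bool.and_eq_true, allL_iff, Bool.or_eq_true, Bool.not_eq_true', List.isEmpty_eq_false_iff] at h
    obtain ⟨h1, h2, h3⟩ := ih h.1.1.1
    refine ⟨List.forall_mem_cons.mpr ⟨h.1.2, h1⟩, List.forall_mem_cons.mpr ⟨?_, h2⟩,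
      List.pairwise_cons.mpr ⟨List.forall_mem_map.mpr fun p' hp' => ?_, h3⟩⟩
    · rw [← pr_fl (lt_of_suppB h.1.2).1]
      exact (supp_of_check hc ho h.1.2).orderOf_eq fun e => h.1.1.2 (by rw [← map_val_fl (lt_of_suppB h.1.2).1, e]; rfl)
    · exact (h.2 p' hp').elim (fun h' e => not_isConj_of_check hc ho (h1 p' hp') h.1.2 h' e.symm)
        (not_isConj_of_check hc ho h.1.2 (h1 p' hp'))

variable (D F) in
theorem oc_S [SLaced D] : OC D F := fun _ _ h => (stRel_xG D F).commute_of_not_root
  (SLaced.ne_neg_of_pair (by omega)) (SLaced.not_root_of_pair h.ge)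

theorem oc_of_check (hc : KeyOK D c) (ho : OT D F ot) (h : (allLt D.nroots fun r => allLt D.nroots fun s =>
    !decide (c.pairing D r s = 0) || cmB D.nroots ot (fun _ => false) r s) = true) : OC D F := fun r s e => by
  simp only [allLt_iff, Bool.or_eq_true, Bool.not_eq_true', decide_eq_false_iff_not] at h
  exact ((ho.cm ((h r r.2 s s.2).resolve_left fun h => h (hc.pair r s ▸ e))).mono fun k hk => by simp at hk).commute

omit [CharP F 2] in
theorem classes_of {Rs : List (D.group F)} {M : List (Matrix D.Idx D.Idx F)} (hM : M = Rs.map mat)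
    (h1 : ∀ z ∈ Rs, orderOf z = 2) (h2 : ∀ z, orderOf z = 2 → ∃ y ∈ Rs, IsConj z y)
    (h3 : Rs.Pairwise fun y z => ¬ IsConj y z) :
    (∀ y : GL D.Idx F, (y : Matrix D.Idx D.Idx F) ∈ M → y ∈ D.group F ∧ orderOf y = 2) ∧
    (∀ g ∈ D.group F, orderOf g = 2 → ∃ y ∈ D.group F, (y : Matrix D.Idx D.Idx F) ∈ M ∧
      ∃ h ∈ D.group F, h * g * h⁻¹ = y) ∧
    (∀ y₁ ∈ D.group F, ∀ y₂ ∈ D.group F, (y₁ : Matrix D.Idx D.Idx F) ∈ M → (y₂ : Matrix D.Idx D.Idx F) ∈ M →
      (∃ h ∈ D.group F, h * y₁ * h⁻¹ = y₂) → (y₁ : Matrix D.Idx D.Idx F) = y₂) := by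
  subst hM
  refine ⟨fun y hy => ?_, fun g hg h => ?_, fun y₁ _ y₂ _ a₁ a₂ ⟨h, hh, e⟩ => ?_⟩
  · obtain ⟨z, hz, e⟩ := List.mem_map.mp hy
    obtain rfl : (z : GL D.Idx F) = y := Units.ext e
    exact ⟨z.2, by rw [Subgroup.orderOf_coe, h1 z hz]⟩
  · obtain ⟨y, hy, e⟩ := h2 ⟨g, hg⟩ (by rwa [← Subgroup.orderOf_coe])
    obtain ⟨k, e⟩ := isConj_iff.mp e
    exact ⟨y, y.2, List.mem_map_of_mem hy, k, k.2, congrArg Subtype.val e⟩
  · obtain ⟨z₁, b₁, e₁⟩ := List.mem_map.mp a₁
    obtain ⟨z₂, b₂, e₂⟩ := List.mem_map.mp a₂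
    obtain rfl : (z₁ : GL D.Idx F) = y₁ := Units.ext e₁
    obtain rfl : (z₂ : GL D.Idx F) = y₂ := Units.ext e₂
    by_contra hne
    have : Std.Symm fun y z : D.group F => ¬ IsConj y z := ⟨fun _ _ h h' => h h'.symm⟩
    exact h3.forall b₁ b₂ (fun e => hne (by rw [e]))
      (isConj_iff.mpr ⟨⟨h, hh⟩, Subtype.ext e⟩)

theorem ncard_classes {G : Type*} [Group G] {Rs : List G} {p : G → Prop} (h1 : ∀ z ∈ Rs, p z)
    (h2 : ∀ z, p z → ∃ y ∈ Rs, IsConj z y) (h3 : Rs.Pairwise fun y z => ¬ IsConj y z) :
    (ConjClasses.mk '' {g | p g}).ncard = Rs.length := by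
  classical
  have e : ConjClasses.mk '' {g | p g} = ↑(Rs.map ConjClasses.mk).toFinset := by
    ext x
    simp only [Set.mem_image, Set.mem_ofPred_eq, List.coe_toFinset, List.mem_map]
    refine ⟨?_, fun ⟨z, hz, e⟩ => ⟨z, h1 z hz, e⟩⟩
    rintro ⟨z, hz, rfl⟩
    obtain ⟨y, hy, e⟩ := h2 z hz
    exact ⟨y, hy, ConjClasses.mk_eq_mk_iff_isConj.mpr e.symm⟩
  rw [e, Set.ncard_coe_finset, List.toFinset_card_of_nodup, List.length_map]
  exact List.pairwise_map.mpr (h3.imp fun h e => h (ConjClasses.mk_eq_mk_iff_isConj.mp e))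

/-- The involution classes from certificates. -/
theorem invol_of_check [PerfectField F] (hc : KeyOK D c) (ho : OT D F ot) (hoc : OC D F) {R : List (List ℕ × List ℕ)}
    {N : List (List ℕ × List (List ℕ × Option (List ℕ)) × Option (List ℕ))} {Γ : List ℕ}
    (h : treeB D c ot ([] :: R.map Prod.fst) (([], [], some Γ) :: N) = true) (h' : repsB D c ot R = true) :
    (∀ z ∈ (R.map Prod.fst).map (prN D F), orderOf z = 2) ∧
      (∀ z, orderOf z = 2 → ∃ y ∈ (R.map Prod.fst).map (prN D F), IsConj z y) ∧
      ((R.map Prod.fst).map (prN D F)).Pairwise fun y z => ¬ IsConj y z :=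
  ⟨List.forall_mem_map.mpr (reps_sound hc ho h').1, fun _ hz =>
    let ⟨B, hB, e⟩ := cover_of_check hc ho hoc h hz
    ⟨_, List.mem_map_of_mem hB, e⟩, List.pairwise_map.mpr (reps_sound hc ho h').2⟩

end Cfsg.Agent.ChevM
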