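import Mathlib
import Cfsg.Agent.Lib.Chev.Lang2
import Cfsg.Agent.Lib.Chev.AutC
import Cfsg.Agent.Lib.Chev.Char2

/-! Maximal tori of finite Chevalley groups: cyclic and self-centralising tori. -/

set_option autoImplicit false
set_option linter.unusedSectionVars false

namespace Cfsg.Agent.Chev
open Cfsg.Lie RSys PreRGD Matrix Cfsg.Agent.Generic
open ChevM (KeyOK fl reflB)

section companion
variable {M : Type*} [CommGroup M] {I : Type*} [Fintype I]

/-- Tuples with `a ^ q = A a`. -/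
def TA (M : Type*) [CommGroup M] (A : Matrix I I ℤ) (q : ℕ) : Subgroup (I → M) := (powMonoidHom q).eqLocus (mp A)

theorem mem_TA {A : Matrix I I ℤ} {q : ℕ} {a : I → M} : a ∈ TA M A q ↔ a ^ q = mp A a := Iff.rfl

/-- The one-parameter subgroup of an integer vector. -/
def zh (y : I → ℤ) : M →* (I → M) where
  toFun z i := z ^ y i
  map_one' := by ext; simp
  map_mul' a b := by ext; simp [mul_zpow]

omit [Fintype I] in
theorem zh_apply (y : I → ℤ) (z : M) : zh y z = fun i => z ^ y i := rfl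

/-- The companion matrix. -/
def cmp (l : ℕ) (f : ℕ → ℤ) : Matrix (Fin l) (Fin l) ℤ :=
  Matrix.of fun i j => if (i : ℕ) + 1 = l then -f j else if (j : ℕ) = i + 1 then 1 else 0

theorem mem_TA_cmp {l : ℕ} (hl : 0 < l) (f : ℕ → ℤ) (q : ℕ) {b : Fin l → M} :
    b ∈ TA M (cmp l f) q ↔ ∃ z : M, z ^ ((q : ℤ) ^ l + ∑ i : Fin l, f i * q ^ (i : ℕ)) = 1 ∧
      b = zh (fun i : Fin l => (q : ℤ) ^ (i : ℕ)) z := by
  have e1 : ∀ (b : Fin l → M) (i : Fin l) (h : (i : ℕ) + 1 < l), mp (cmp l f) b i = b ⟨i + 1, h⟩ := by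
    intro b i h
    rw [mp_apply, Finset.prod_eq_single ⟨i + 1, h⟩ (fun j _ hj => ?_) (by simp)]
    · simp [cmp, h.ne]
    · have : (j : ℕ) ≠ i + 1 := fun e => hj (Fin.ext e)
      simp [cmp, h.ne, this]
  have e2 : ∀ (z : M) (i : Fin l), (i : ℕ) + 1 = l → mp (cmp l f) (zh (fun i : Fin l => (q : ℤ) ^ (i : ℕ)) z) i =
      z ^ (-∑ i : Fin l, f i * q ^ (i : ℕ)) := by
    intro z i h
    rw [zh_apply, mp_zpow]
    simp [cmp, h, mulVec, dotProduct]
  rw [mem_TA]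
  constructor
  · intro h
    have hb : b = zh (fun i : Fin l => (q : ℤ) ^ (i : ℕ)) (b ⟨0, hl⟩) := by
      ext ⟨i, hi⟩
      induction i with
      | zero => simp [zh_apply]
      | succ i ih =>
        rw [← e1 b ⟨i, by omega⟩ hi, ← h, Pi.pow_apply, ih (by omega)]
        simp [zh_apply, pow_succ, _root_.zpow_mul]
    refine ⟨_, ?_, hb⟩
    have := congrFun h ⟨l - 1, by omega⟩
    rw [hb, e2 _ _ (by simp; omega), Pi.pow_apply, zh_apply, ← zpow_natCast, ← _root_.zpow_mul, ← pow_succ,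
      show l - 1 + 1 = l by omega] at this
    rw [_root_.zpow_add, this, ← _root_.zpow_add]; simp
  · rintro ⟨z, hz, rfl⟩
    ext i
    by_cases h : (i : ℕ) + 1 = l
    · rw [e2 _ _ h, Pi.pow_apply, zh_apply, ← zpow_natCast, ← _root_.zpow_mul, ← pow_succ, h, _root_.zpow_neg,
        eq_inv_iff_mul_eq_one, ← _root_.zpow_add, hz]
    · rw [e1 _ _ (by have := i.2; omega)]
      simp [zh_apply, pow_succ, _root_.zpow_mul]

theorem exists_primitive {k : Type*} [Field k] [IsAlgClosed k] {n : ℕ} (hn : (n : k) ≠ 0) :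
    ∃ z : kˣ, orderOf z = n ∧ ∀ v : kˣ, v ^ n = 1 → v ∈ Subgroup.zpowers z := by
  have : NeZero (n : k) := ⟨hn⟩
  have : NeZero n := ⟨by rintro rfl; simp at hn⟩
  obtain ⟨z, hz⟩ := HasEnoughRootsOfUnity.exists_primitiveRoot k n
  have hu := hz.isUnit (NeZero.ne n)
  have hz' : IsPrimitiveRoot hu.unit n := hz.isUnit_unit (NeZero.ne n)
  exact ⟨hu.unit, hz'.eq_orderOf.symm, fun v hv => hz'.zpowers_eq ▸ hv⟩

theorem TA_cyclic {k : Type*} [Field k] [IsAlgClosed k] {l : ℕ} (hl : 0 < l) {A P Q : Matrix (Fin l) (Fin l) ℤ}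
    {f : ℕ → ℤ} (hPQ : P * Q = 1) (hA : P * A = cmp l f * P) {q n : ℕ}
    (hn : (n : ℤ) = (q : ℤ) ^ l + ∑ i : Fin l, f i * q ^ (i : ℕ)) (hk : (n : k) ≠ 0) :
    ∃ z : kˣ, orderOf z = n ∧ orderOf (zh (Q *ᵥ fun i : Fin l => (q : ℤ) ^ (i : ℕ)) z) = n ∧
      TA kˣ A q = Subgroup.zpowers (zh (Q *ᵥ fun i : Fin l => (q : ℤ) ^ (i : ℕ)) z) := by
  obtain ⟨z, hz, hz'⟩ := exists_primitive hk
  have hQP : Q * P = 1 := mul_eq_one_comm.1 hPQ
  have e : ∀ v : kˣ, mp P (zh (Q *ᵥ fun i : Fin l => (q : ℤ) ^ (i : ℕ)) v) = zh (fun i : Fin l => (q : ℤ) ^ (i : ℕ)) v :=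
    fun v => by rw [zh_apply, mp_zpow, mulVec_mulVec, hPQ, one_mulVec, zh_apply]
  have hinj : Function.Injective (mp P : (Fin l → kˣ) → _) := fun a b h => by
    rw [← mp_one a, ← hQP, mp_mul, h, ← mp_mul, hQP, mp_one]
  refine ⟨z, hz, ?_, ?_⟩
  · rw [← hz]
    refine orderOf_injective _ ((injective_iff_map_eq_one _).2 fun v hv => ?_) z
    have := congrFun (e v) ⟨0, hl⟩
    rw [hv, map_one] at this
    simpa [zh_apply] using this.symm
  · ext a
    have : a ∈ TA kˣ A q ↔ mp P a ∈ TA kˣ (cmp l f) q := by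
      rw [mem_TA, mem_TA, ← mp_mul, ← hA, mp_mul, ← map_pow, hinj.eq_iff]
    rw [this, mem_TA_cmp hl, ← hn]
    constructor
    · rintro ⟨v, hv, h⟩
      obtain ⟨j, rfl⟩ := hz' v (by simpa using hv)
      exact ⟨j, hinj (by rw [h, ← e]; simp)⟩
    · rintro ⟨j, rfl⟩
      exact ⟨z ^ j, by rw [← _root_.zpow_mul, mul_comm, _root_.zpow_mul, zpow_natCast, ← hz, pow_orderOf_eq_one,
        _root_.one_zpow], by rw [← e]; simp⟩

theorem not_dvd_of_bound {l : ℕ} {f d : ℕ → ℤ} {M F q : ℤ} (hd : ∀ i < l, |d i| ≤ M) (hd0 : ∃ i < l, d i ≠ 0)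
    (hf : ∀ i < l, |f i| ≤ F) (hq : M + F + 1 ≤ q) (hF : 0 ≤ F) :
    ¬ (q ^ l + ∑ i : Fin l, f i * q ^ (i : ℕ)) ∣ ∑ i : Fin l, d i * q ^ (i : ℕ) := by
  have hM : 0 < M := by
    obtain ⟨i, hi, h⟩ := hd0
    exact (abs_pos.2 h).trans_le (hd i hi)
  have hq0 : 0 < q := by omega
  have key : ∀ (g : ℕ → ℤ) (c : ℤ) (l : ℕ), (∀ i < l, |g i| ≤ c) →
      (q - 1) * |∑ i : Fin l, g i * q ^ (i : ℕ)| ≤ c * (q ^ l - 1) := by
    intro g c l hg
    induction l with
    | zero => simp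
    | succ l ih =>
      rw [Fin.sum_univ_castSucc]
      have h1 := ih fun i hi => hg i (by omega)
      have h2 : |g l * q ^ l| ≤ c * q ^ l := by
        rw [abs_mul, abs_of_pos (pow_pos hq0 l)]
        exact mul_le_mul_of_nonneg_right (hg l (by omega)) (pow_pos hq0 l).le
      have h3 := abs_add_le (∑ i : Fin l, g i * q ^ (i : ℕ)) (g l * q ^ l)
      simp only [Fin.val_castSucc, Fin.val_last]
      rw [pow_succ]
      nlinarith
  have hne : ∀ l : ℕ, (∀ i < l, |d i| ≤ M) → (∃ i < l, d i ≠ 0) → ∑ i : Fin l, d i * q ^ (i : ℕ) ≠ 0 := by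
    intro l hd hd0
    induction l with
    | zero => simp at hd0
    | succ l ih =>
      rw [Fin.sum_univ_castSucc]
      simp only [Fin.val_castSucc, Fin.val_last]
      by_cases h : d l = 0
      · rw [h, zero_mul, add_zero]
        obtain ⟨i, hi, h'⟩ := hd0
        exact ih (fun i hi => hd i (by omega)) ⟨i, lt_of_le_of_ne (by omega) (by rintro rfl; exact h' h), h'⟩
      · intro e
        have h1 := key d M l fun i hi => hd i (by omega)
        rw [eq_neg_of_add_eq_zero_left e, abs_neg, abs_mul, abs_of_pos (pow_pos hq0 l)] at h1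
        have h2 : 1 ≤ |d l| := abs_pos.2 h
        have h3 := pow_pos hq0 l
        nlinarith [mul_le_mul_of_nonneg_right h2 h3.le]
  intro hdvd
  have h1 := key d M l hd
  have h2 := key f F l hf
  have h3 := Int.le_of_dvd (abs_pos.2 (hne l hd hd0)) ((dvd_abs _ _).2 hdvd)
  have h4 := neg_abs_le (∑ i : Fin l, f i * q ^ (i : ℕ))
  have h5 := pow_pos hq0 l
  nlinarith

end companion

variable {D : ChevalleyDatum} [Tab D] {K : Type*} [Field K] {G G' : Type*} [Group G] [Group G']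
  {x : ℕ → K → G} {x' : ℕ → K → G'}

theorem Full.mem_H_of_commute (hx : Full D x) {S : Set (Fin D.rank → Kˣ)} (h1 : ∀ r, ∃ a ∈ S, chi D a r ≠ 1)
    (h2 : ∀ w ∈ (rs D).W, (∀ a ∈ S, ∀ r, chi D a (w r) = chi D a r) → w = 1) {g : G}
    (hg : ∀ a ∈ S, g * hx.tor a = hx.tor a * g) : g ∈ hx.P.H := by
  obtain ⟨w, hw, t, c, t', rfl⟩ := hx.exists_co g
  have h := fun a ha => (hx.conj_tor_iff hw (hx.tor_mem c)).1 (hg a ha)
  obtain rfl := h2 w hw fun a ha r => by
    rw [← hx.chi_eq_of_tor_eq (h a ha).1, chi_cw ((rs D).W_le_Aut hw)]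
  rw [hx.co_congr (s := 0) (s' := 0) (fun r hr => ?_) fun r hr => ?_]
  · have e : ∀ S, hx.pS S 0 = 1 := fun S => by
      have := hx.pS_mem_of (S := S) (T := ∅) (t := 0) fun _ _ => Or.inr rfl
      simpa [USub] using this
    rw [Full.co, e, e, one_mul, mul_one]
    exact mul_mem (hx.tor_mem _) hx.P.nW_one_mem
  · obtain ⟨a, ha, h'⟩ := h1 r
    exact ((h a ha).2.1 r hr).resolve_left h'
  · obtain ⟨a, ha, h'⟩ := h1 r
    exact ((h a ha).2.2 r hr).resolve_left h'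

theorem eq_one_of_regular {a : Fin D.rank → Kˣ} (ha : IsOfFinOrder a) (h : ∀ r, chi D a r ≠ 1)
    {v : Equiv.Perm (Fin D.nroots)} (hv : v ∈ (rs D).W) (e : mp ((rs D).cw v) a = a) : v = 1 :=
  (cData_psi ha).conn v ⟨hv, e⟩ fun r hr => (h r hr).elim

theorem ExpC.eq_one_of_chi {d : ℕ} (hd : ExpC D d) {a : Fin D.rank → Kˣ} (ha : IsOfFinOrder a)
    (h : ∀ r, chi D a r ^ d ≠ 1) {v : Equiv.Perm (Fin D.nroots)} (hv : v ∈ (rs D).W)
    (e : ∀ r, chi D a (v r) = chi D a r) : v = 1 := by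
  refine eq_one_of_regular ha.pow (fun r => by rw [chi_pow]; exact h r) hv ?_
  have : ChevM.cm D (mp ((rs D).cw v) a * a⁻¹) = 1 := by
    ext1 i
    rw [← ChevM.chi_simple, chi_mul, chi_inv, ← v.apply_symm_apply ((rs D).simple i), chi_cw ((rs D).W_le_Aut hv), e]
    simp
  have := hd.pow_eq_one this
  rwa [mul_pow, inv_pow, mul_inv_eq_one, ← map_pow] at this

variable (D) in
/-- The product of the reflections in a list of roots. -/
noncomputable def wR (l : List ℕ) : Equiv.Perm (Fin D.nroots) := ((fl D l).map (rs D).refl).prod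

theorem wR_mem (l : List ℕ) : wR D l ∈ (rs D).W :=
  list_prod_mem fun _ h => by obtain ⟨r, -, rfl⟩ := List.mem_map.1 h; exact (rs D).refl_mem_W r

/-- The action of a product of reflections on root indices. -/
def wB (D : ChevalleyDatum) (c : TabCert) (l : List ℕ) (s : ℕ) : ℕ := List.rec s (fun r _ ih => reflB D c r ih) l

theorem _root_.Cfsg.Agent.ChevM.KeyOK.wB_eq {c : TabCert} (hc : KeyOK D c) {l : List ℕ} (hl : ∀ r ∈ l, r < D.nroots) (s : Fin D.nroots) :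
    wB D c l s = wR D l s := by
  induction l with
  | nil => rfl
  | cons r l ih =>
    have h : r < D.nroots := hl r (by simp)
    have : wR D (r :: l) = (rs D).refl ⟨r, h⟩ * wR D l := by simp [wR, fl, h]
    rw [this, Equiv.Perm.mul_apply, ← hc.reflB_eq, ← ih fun r hr => hl r (by simp [hr])]
    rfl

theorem _root_.Cfsg.Agent.ChevM.KeyOK.cw_wR {c : TabCert} (hc : KeyOK D c) {l : List ℕ} (hl : ∀ r ∈ l, r < D.nroots) (j i : Fin D.rank) :
    (rs D).cw (wR D l) j i = c.cor (wB D c l (D.simple i)) j := by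
  rw [← rs_simple_val, hc.wB_eq hl, ← hc.cor _ (Fin.is_lt _) _ j.2]; rfl

/-- An entry of a list of rows. -/
def en (A : List (List ℤ)) (i j : ℕ) : ℤ := (A.getD i []).getD j 0

/-- A matrix from a list of rows. -/
def mx (n : ℕ) (A : List (List ℤ)) : Matrix (Fin n) (Fin n) ℤ := Matrix.of fun i j => en A i j

/-- Check that the torus of a Weyl group element is cyclic. -/
def cycB (D : ChevalleyDatum) (c : TabCert) (l : List ℕ) (f : List ℤ) (P Q : List (List ℤ)) : Bool :=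
  l.all (fun r => decide (r < D.nroots)) && allLt D.rank fun i => allLt D.rank fun j =>
    decide (sumLt D.rank (fun m => en P i m * en Q m j) = if i = j then 1 else 0) &&
    decide (sumLt D.rank (fun m => en P i m * c.cor (wB D c l (D.simple j)) m) =
      sumLt D.rank fun m => (if i + 1 = D.rank then -f.getD m 0 else if m = i + 1 then 1 else 0) * en P m j)

theorem _root_.Cfsg.Agent.ChevM.KeyOK.cyc {c : TabCert} (hc : KeyOK D c) {l : List ℕ} {f : List ℤ} {P Q : List (List ℤ)}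
    (h : cycB D c l f P Q = true) : mx D.rank P * mx D.rank Q = 1 ∧
      mx D.rank P * (rs D).cw (wR D l) = cmp D.rank (fun i => f.getD i 0) * mx D.rank P := by
  simp only [cycB, Bool.and_eq_true, allLt_iff, decide_eq_true_eq, List.all_eq_true, sumLt_eq_fin] at h
  constructor <;> ext i j
  · rw [mul_apply, one_apply]; simpa [Fin.ext_iff, mx] using (h.2 i i.2 j j.2).1
  · simp only [mul_apply, hc.cw_wR h.1]; exact (h.2 i i.2 j j.2).2

/-- The coefficients of a root on a cyclic torus. -/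
def evc (D : ChevalleyDatum) (c : TabCert) (Q : List (List ℤ)) (r i : ℕ) : ℤ := sumLt D.rank fun j => en Q j i * c.car j r

theorem Agree.cof_mx {c : TabCert} (hc : Agree D c) (Q : List (List ℤ)) (q : ℤ) (r : Fin D.nroots) :
    (rs D).cof (mx D.rank Q *ᵥ fun i : Fin D.rank => q ^ (i : ℕ)) ((rs D).rc r) =
      ∑ i : Fin D.rank, evc D c Q r i * q ^ (i : ℕ) := by
  simp only [cof_rc, hc.pair_simple, evc, sumLt_eq_fin, Finset.sum_mul, mulVec, dotProduct]
  rw [Finset.sum_comm]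
  exact Finset.sum_congr rfl fun i _ => Finset.sum_congr rfl fun j _ => by simp only [mx, of_apply]; ring

/-- Check that the `d`-th power of a generator of a cyclic torus is regular. -/
def regB (D : ChevalleyDatum) (c : TabCert) (f : List ℤ) (Q : List (List ℤ)) (d M q₀ : ℕ) : Bool :=
  (allLt D.rank fun i => decide (|f.getD i 0| ≤ 1)) && allLt D.nroots fun r =>
    (allLt D.rank fun i => decide (|d * evc D c Q r i| ≤ M)) && (anyLt D.rank fun i => decide (d * evc D c Q r i ≠ 0)) &&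
    allLt (M + 2) fun q => decide (q < q₀) || decide (sumLt D.rank (fun i => d * evc D c Q r i * q ^ i) %
      (q ^ D.rank + sumLt D.rank fun i => f.getD i 0 * q ^ i) ≠ 0)

omit [Tab D] in
theorem not_dvd_of_regB {c : TabCert} {f : List ℤ} {Q : List (List ℤ)} {d M q₀ : ℕ} (h : regB D c f Q d M q₀ = true)
    {q : ℕ} (hq : q₀ ≤ q) (r : Fin D.nroots) : ¬ ((q : ℤ) ^ D.rank + ∑ i : Fin D.rank, f.getD i 0 * q ^ (i : ℕ)) ∣
      ∑ i : Fin D.rank, d * evc D c Q r i * q ^ (i : ℕ) := by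
  simp only [regB, Bool.and_eq_true, allLt_iff, anyLt_iff, decide_eq_true_eq, Bool.or_eq_true, sumLt_eq_fin] at h
  obtain ⟨⟨h1, h2⟩, h3⟩ := h.2 r r.2
  by_cases h4 : q < M + 2
  · exact fun e => (h3 q h4).resolve_left (by omega) (Int.emod_eq_zero_of_dvd e)
  · exact not_dvd_of_bound (d := fun i => d * evc D c Q r i) (f := fun i => f.getD i 0) h1 h2 h.1 (by omega) zero_le_one

theorem exists_selfcent (hx : Full D x) (hx' : Full D x') {π : G →* G'}
    (hπ : ∀ (r : Fin D.nroots) t, π (x r t) = x' r t) {σ : G →* G} (hL : Lang ⊤ σ) {Γ : Type*} [Group Γ] {j : Γ →* G'}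
    (hj : Function.Injective j) (hr : ∀ g, g ∈ j.range ↔ ∃ g', σ g' = g' ∧ π g' = g) {n : G} {T₀ : Subgroup G}
    (hT : ∀ g, g ∈ T₀ ↔ g ∈ hx.P.H ∧ tw n σ g = g) (h1 : ∀ r, ∃ a, hx.tor a ∈ T₀ ∧ chi D a r ≠ 1)
    (h2 : ∀ w ∈ (rs D).W, (∀ a, hx.tor a ∈ T₀ → ∀ r, chi D a (w r) = chi D a r) → w = 1) :
    ∃ H : Subgroup Γ, Subgroup.centralizer (H : Set Γ) = H ∧ Nonempty (H ≃* T₀.map π) := by
  obtain ⟨z, -, rfl⟩ := hL n trivial
  have hπ' : ∀ (r : Fin D.nroots) t, π (x r t) = x' r (RingHom.id K t) := hπ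
  let T₁ := (T₀.map π).map (MulAut.conj (π z)).toMonoidHom
  have hT₁ : T₁ ≤ j.range := by
    rintro _ ⟨_, ⟨g, hg, rfl⟩, rfl⟩
    exact (hr _).2 ⟨z * g * z⁻¹, conj_fixed_iff.2 ((hT g).1 hg).2, by simp⟩
  refine ⟨T₁.comap j, le_antisymm (fun g hg => ?_) fun g hg => ?_, ⟨?_⟩⟩
  · obtain ⟨g', hg1, hg2⟩ := (hr _).1 ⟨g, rfl⟩
    have h3 : π (z⁻¹ * g' * z) ∈ hx'.P.H := hx'.mem_H_of_commute (S := {a | hx.tor a ∈ T₀}) h1 h2 fun a ha => by
      obtain ⟨h, hh⟩ := hT₁ ⟨_, ⟨_, ha, rfl⟩, rfl⟩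
      have := congrArg j (hg h (show j h ∈ T₁ from hh ▸ ⟨_, ⟨_, ha, rfl⟩, rfl⟩))
      rw [map_mul, map_mul, hh, ← hg2, hx.map_tor hx' hπ'] at this
      change π z * hx'.tor a * (π z)⁻¹ * π g' = π g' * (π z * hx'.tor a * (π z)⁻¹) at this
      simp only [map_mul, map_inv]
      calc (π z)⁻¹ * π g' * π z * hx'.tor a = (π z)⁻¹ * (π g' * (π z * hx'.tor a * (π z)⁻¹)) * π z := by group
        _ = _ := by rw [← this]; group
    have h4 : z⁻¹ * g' * z ∈ T₀ := (hT _).2 ⟨hx.mem_H_of_map_mem hx' hπ' h3, conj_fixed_iff.1 (by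
      simpa [mul_assoc] using hg1)⟩
    exact ⟨_, ⟨_, h4, rfl⟩, by simp [← hg2, mul_assoc]⟩
  · intro h hh
    obtain ⟨_, ⟨a, ha, rfl⟩, e1⟩ := hg
    obtain ⟨_, ⟨b, hb, rfl⟩, e2⟩ := hh
    refine hj ?_
    rw [map_mul, map_mul, ← e1, ← e2, ← map_mul, ← map_mul, ← map_mul, ← map_mul,
      (hx.commute_H ((hT _).1 hb).1 ((hT _).1 ha).1).eq]
  · exact ((T₁.comap j).equivMapOfInjective j hj).trans ((MulEquiv.subgroupCongr
      (Subgroup.map_comap_eq_self hT₁)).trans ((T₀.map π).equivMapOfInjective _ (MulAut.conj (π z)).injective).symm)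

theorem Frob.tw_tor_iff (hx : Full D x) {q : ℕ} (hq : 1 < q) {σ : G →* G} (h : Frob D x q σ)
    {w : Equiv.Perm (Fin D.nroots)} (hw : w ∈ (rs D).W) (a : Fin D.rank → Kˣ) :
    tw (hx.P.nW w)⁻¹ σ (hx.tor a) = hx.tor a ↔ hx.tor (a ^ q) = hx.tor (mp ((rs D).cw w) a) := by
  rw [tw_apply, h.map_tor hx hq, ← hx.nW_conj_tor hw, inv_inv]
  constructor
  · intro e; rw [← e]; group
  · intro e; rw [e]; group

section finite
variable {F : Type*} [Field F] [Fintype F]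

local notation "k" => AlgebraicClosure F

theorem exists_frob_closure (F : Type*) [Field F] [Fintype F] :
    ∃ φ : AlgebraicClosure F →+* AlgebraicClosure F, ∀ t, φ t = t ^ Nat.card F :=
  ⟨(FiniteField.frobeniusAlgHom F (AlgebraicClosure F)).toRingHom, fun t => by simp [Nat.card_eq_fintype_card]⟩

theorem spi_fixed_iff (h : TorInj D k) {φ : k →+* k} (hφ : ∀ t, φ t = t ^ Nat.card F) (g : D.group k) :
    g ∈ (ChevM.fm D (algebraMap F k)).range ↔ ∃ g', sm D φ g' = g' ∧ spi D k g' = g := by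
  have hf := fun g => (frob_sm hφ).fixed_iff (full_st D k) Finite.one_lt_card (full_st D F) (sm_x (algebraMap F k)) rfl
    h.inj (g := g)
  constructor
  · rintro ⟨g, rfl⟩
    obtain ⟨g, rfl⟩ := spi_surjective g
    exact ⟨_, (hf _).2 ⟨g, rfl⟩, spi_sm _ _⟩
  · rintro ⟨g', h1, rfl⟩
    obtain ⟨g, rfl⟩ := (hf _).1 h1
    exact ⟨_, (spi_sm _ _).symm⟩

theorem exists_selfcent_st (h : TorInj D k) {w : Equiv.Perm (Fin D.nroots)} (hw : w ∈ (rs D).W)
    (h1 : ∀ r, ∃ a ∈ TA kˣ ((rs D).cw w) (Nat.card F), chi D a r ≠ 1)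
    (h2 : ∀ v ∈ (rs D).W, (∀ a ∈ TA kˣ ((rs D).cw w) (Nat.card F), ∀ r, chi D a (v r) = chi D a r) → v = 1) :
    ∃ H : Subgroup (D.group F), Subgroup.centralizer (H : Set (D.group F)) = H ∧
      Nonempty (H ≃* (TA kˣ ((rs D).cw w) (Nat.card F)).map (ChevM.hG D)) ∧
      Nat.card H * Nat.card (ChevM.cm D (F := F)).ker = Nat.card (TA kˣ ((rs D).cw w) (Nat.card F)) := by
  obtain ⟨φ, hφ⟩ := exists_frob_closure F
  have hq : 1 < Nat.card F := Finite.one_lt_card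
  set T := TA kˣ ((rs D).cw w) (Nat.card F)
  have hm : ∀ a, (full_st D k).tor a ∈ T.map (full_st D k).tor ↔ a ∈ T := fun a => Subgroup.mem_map_iff_mem h.inj
  obtain ⟨H, hH, ⟨e⟩⟩ := exists_selfcent (full_st D k) (full_xG D k) spi_x (langAll_st h _ _ hq (frob_sm hφ))
    (ChevM.fm_injective (algebraMap F k)) (spi_fixed_iff h hφ) (n := ((full_st D k).P.nW w)⁻¹)
    (T₀ := T.map (full_st D k).tor) (fun g => by
      constructor
      · rintro ⟨a, ha, rfl⟩
        exact ⟨Full.tor_mem _ _, ((frob_sm hφ).tw_tor_iff _ hq hw a).2 (congrArg _ ha)⟩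
      · rintro ⟨h1, h2⟩
        obtain ⟨a, rfl⟩ := (full_st D k).mem_H_iff.1 h1
        exact ⟨a, h.inj (((frob_sm hφ).tw_tor_iff _ hq hw a).1 h2), rfl⟩)
    (by simpa only [hm] using h1) (by simpa only [hm] using h2)
  have e1 : (T.map (full_st D k).tor).map (spi D k) = T.map (ChevM.hG D) := by
    rw [Subgroup.map_map]; congr 1; ext1 a; exact spi_tor a
  rw [e1] at e
  refine ⟨H, hH, ⟨e⟩, ?_⟩
  rw [Nat.card_congr e.toEquiv, ← Subgroup.relIndex_ker, mul_comm, ← Subgroup.card_mul_index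
    ((ChevM.hG D).ker.subgroupOf T)]
  congr 1
  have e2 : (ChevM.cm D (F := F)).ker.map (um (algebraMap F k)) = (ChevM.hG D).ker ⊓ T := by
    have hc : ∀ b, ChevM.cm D (um (algebraMap F k) b) = 1 ↔ ChevM.cm D b = 1 := fun b => by
      rw [cm_eq_mp, ← um_mp, ← cm_eq_mp, map_eq_one_iff _ (um_injective _)]
    have hw1 : ∀ a, ChevM.hG D a = 1 → mp ((rs D).cw w) a = a := fun a ha => h.inj (by
      have := Subgroup.mem_center_iff.1 (spi_ker_le_center (show (full_st D k).tor a ∈ (spi D k).ker by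
        rw [MonoidHom.mem_ker, spi_tor, ha])) ((full_st D k).P.nW w)
      rw [← (full_st D k).nW_conj_tor hw, this, mul_inv_cancel_right])
    ext a
    constructor
    · rintro ⟨b, hb, rfl⟩
      have h3 := ChevM.hG_eq_one_iff.2 ((hc b).2 hb)
      refine ⟨h3, mem_TA.2 ?_⟩
      rw [hw1 _ h3, ← map_pow]
      congr 1; ext i; simp [FiniteField.pow_card]
    · rintro ⟨h3, h4⟩
      replace h4 := mem_TA.1 h4
      rw [hw1 _ h3] at h4
      obtain ⟨b, rfl⟩ := Frob.exists_um_eq (ι := algebraMap F k) rfl h4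
      exact ⟨b, (hc b).1 (ChevM.hG_eq_one_iff.1 h3), rfl⟩
  rw [← Subgroup.inf_subgroupOf_right, Nat.card_congr (Subgroup.subgroupOfEquivOfLe inf_le_right).toEquiv, ← e2,
    Subgroup.card_map_of_injective (um_injective _)]

theorem exists_selfcent_cyclic {c : TabCert} (hc : KeyOK D c) (h : TorInj D k) {d : ℕ} (hd : ExpC D d) {l : List ℕ}
    {f : List ℤ} {P Q : List (List ℤ)} (h1 : cycB D c l f P Q = true) {M q₀ : ℕ} (h2 : regB D c f Q d M q₀ = true)
    (hl : 0 < D.rank) (hf : f.getD 0 0 = 1) (hq : q₀ ≤ Fintype.card F) {n : ℕ}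
    (hn : (n : ℤ) = (Fintype.card F : ℤ) ^ D.rank + ∑ i : Fin D.rank, f.getD i 0 * (Fintype.card F : ℤ) ^ (i : ℕ)) :
    ∃ H : Subgroup (D.group F), IsCyclic H ∧ Nat.card H * Nat.card (ChevM.cm D (F := F)).ker = n ∧
      Subgroup.centralizer (H : Set (D.group F)) = H := by
  have hk : (n : k) ≠ 0 := by
    have h0 : ((Fintype.card F : ℕ) : k) = 0 := by rw [← map_natCast (algebraMap F k), FiniteField.cast_card_eq_zero, map_zero]
    have := congrArg (Int.cast : ℤ → k) hn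
    push_cast at this
    rw [this, h0, zero_pow hl.ne', zero_add, Finset.sum_eq_single ⟨0, hl⟩ (fun i _ hi => ?_) (by simp)]
    · rw [hf]; simp
    · rw [zero_pow fun e => hi (Fin.ext e), mul_zero]
  obtain ⟨z, hz1, hz2, hz3⟩ := TA_cyclic hl (hc.cyc h1).1 (hc.cyc h1).2 hn hk
  have hn0 : 0 < n := Nat.pos_of_ne_zero (by rintro rfl; simp at hk)
  set a := zh (mx D.rank Q *ᵥ fun i : Fin D.rank => (Fintype.card F : ℤ) ^ (i : ℕ)) z with ha
  have hr : ∀ r, chi D a r ^ d ≠ 1 := fun r e => by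
    rw [ha, zh_apply, chi_zpow, hc.cof_mx, ← zpow_natCast, ← _root_.zpow_mul, ← orderOf_dvd_iff_zpow_eq_one, hz1, hn,
      mul_comm, Finset.mul_sum] at e
    exact not_dvd_of_regB h2 hq r (by simpa only [mul_assoc] using e)
  rw [← Nat.card_eq_fintype_card] at hz3
  have hm : a ∈ TA kˣ ((rs D).cw (wR D l)) (Nat.card F) := hz3 ▸ Subgroup.mem_zpowers a
  obtain ⟨H, h3, ⟨e⟩, h4⟩ := exists_selfcent_st h (wR_mem l) (fun r => ⟨a, hm, fun e => hr r (by rw [e, one_pow])⟩)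
    fun v hv e => hd.eq_one_of_chi (orderOf_pos_iff.1 (hz2 ▸ hn0)) hr hv (e a hm)
  rw [hz3, MonoidHom.map_zpowers] at e
  exact ⟨H, isCyclic_of_surjective e.symm e.symm.surjective, by rw [h4, hz3, Nat.card_zpowers, hz2], h3⟩

end finite

end Cfsg.Agent.Chev
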