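import Mathlib
import Cfsg.Agent.Lib.Chev.Tori
import Cfsg.Agent.Lib.Chev.Misc

/-! Elements of order prime to the characteristic are conjugate into the torus. -/

set_option autoImplicit false
set_option linter.unusedSectionVars false

namespace Cfsg.Agent.Chev
open Cfsg.Lie RSys PreRGD Matrix Cfsg.Agent.Generic

section abstract

theorem pow_dvd_card_fixed {X : Type*} {f s : X → X} (hc : Function.Commute f s) {P : X → Prop}
    (hP : ∀ y, P y → P (f y)) {l a m : ℕ} (hl : l.Prime) (hs : ∀ y, s^[l ^ a] y = y) (hfree : ∀ y, P y → s y ≠ y)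
    [Finite {y // P y ∧ s (f^[l ^ m] y) = y}] : l ^ (m + 1) ∣ Nat.card {y // P y ∧ s (f^[l ^ m] y) = y} := by
  classical
  let Y := {y // P y ∧ s (f^[l ^ m] y) = y}
  let g : Y → Y := fun y => ⟨f y, hP _ y.2.1, by
    rw [← Function.iterate_succ_apply, Function.iterate_succ_apply', ← hc.eq, y.2.2]⟩
  have hg : ∀ n (y : Y), (g^[n] y : X) = f^[n] y := fun n y => by
    induction n with
    | zero => rfl
    | succ n ih => rw [Function.iterate_succ_apply', Function.iterate_succ_apply', ← ih]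
  have h1 : ∀ (y : Y) j, s^[j] (f^[l ^ m * j] y) = y := fun y j => by
    induction j with
    | zero => rfl
    | succ j ih => rw [Function.iterate_succ_apply, Nat.mul_succ, Function.iterate_add_apply,
        ← (hc.iterate_left _).eq, y.2.2, ih]
  have h2 : ∀ y : Y, g^[l ^ (m + a)] y = y := fun y => Subtype.ext (by rw [hg, pow_add, ← hs (f^[_] _), h1])
  have h3 : Function.Injective g := by
    have : l ^ (m + a) = l ^ (m + a) - 1 + 1 := (Nat.sub_add_cancel (pow_pos hl.pos _)).symm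
    rw [this] at h2
    exact Function.LeftInverse.injective (g := g^[l ^ (m + a) - 1]) h2
  let π : Equiv.Perm Y := Equiv.ofBijective g (Finite.injective_iff_bijective.1 h3)
  have := Fintype.ofFinite (MulAction.orbitRel.Quotient (Subgroup.zpowers π) Y)
  rw [Nat.card_congr (MulAction.selfEquivSigmaOrbits (Subgroup.zpowers π) Y), Nat.card_sigma]
  refine Finset.dvd_sum fun ω _ => ?_
  generalize ω.out = y
  have := Fintype.ofFinite (MulAction.orbit (Subgroup.zpowers π) y)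
  rw [Nat.card_eq_fintype_card, ← MulAction.minimalPeriod_eq_card]
  change _ ∣ Function.minimalPeriod g y
  obtain ⟨j, -, hj⟩ := (Nat.dvd_prime_pow hl).1 (Function.IsPeriodicPt.minimalPeriod_dvd (h2 y))
  rw [hj]
  refine pow_dvd_pow _ (Nat.lt_of_not_ge fun h => hfree y y.2.1 ?_)
  have h4 : g^[l ^ m] y = y := Function.isPeriodicPt_iff_minimalPeriod_dvd.2 (hj ▸ pow_dvd_pow _ h)
  have h5 := y.2.2
  rwa [← hg, h4] at h5

theorem mul_pow_mul_inv_mem {G : Type*} [Group G] {U : Subgroup G} {c u : G} (hn : ∀ u ∈ U, c * u * c⁻¹ ∈ U)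
    (hu : u ∈ U) (n : ℕ) : (u * c) ^ n * (c ^ n)⁻¹ ∈ U := by
  induction n with
  | zero => simp
  | succ n ih =>
    have : (u * c) ^ (n + 1) * (c ^ (n + 1))⁻¹ = u * (c * ((u * c) ^ n * (c ^ n)⁻¹) * c⁻¹) := by
      rw [pow_succ', pow_succ']; group
    rw [this]
    exact mul_mem hu (hn _ ih)

theorem modEq_pow_pow {Q l : ℕ} (h : Q ≡ 1 [MOD l]) (m : ℕ) : Q ^ l ^ m ≡ 1 [MOD l ^ (m + 1)] := by
  have := dvd_sub_pow_of_dvd_sub (Nat.modEq_iff_dvd.1 h) m
  exact Nat.modEq_iff_dvd.2 (by simpa using this)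

theorem exists_conj_of_pow {G : Type*} [Group G] {U : Subgroup G} [Finite U] {s t : G} {N : ℕ}
    (hn : ∀ u ∈ U, s * u * s⁻¹ ∈ U) (hs : s ^ N = s) (ht : t ^ N = t) (hU : ∀ u ∈ U, u ^ N = 1)
    (hts : t * s⁻¹ ∈ U) : ∃ u ∈ U, t = u * s * u⁻¹ := by
  let C : Subgroup U := (Subgroup.centralizer ({s} : Set G)).subgroupOf U
  have hC : ∀ c : U, c ∈ C ↔ Commute (c : G) s := fun c => by
    simp only [C, Subgroup.mem_subgroupOf, Subgroup.mem_centralizer_singleton_iff]; rfl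
  have hpow : ∀ (u : U) (c : C), ((u : G) * (c.1.1 * s) * (u : G)⁻¹) ^ N = u * s * (u : G)⁻¹ := fun u c => by
    rw [conj_pow, ((hC _).mp c.2).mul_pow, hs, hU _ c.1.2, one_mul]
  let Φ : (U ⧸ C) × C → U := fun p => ⟨p.1.out * (p.2.1.1 * s) * (p.1.out : G)⁻¹ * s⁻¹, by
    have : (p.1.out : G) * (p.2.1.1 * s) * (p.1.out : G)⁻¹ * s⁻¹ =
      p.1.out * p.2.1.1 * (s * (p.1.out : G)⁻¹ * s⁻¹) := by group
    rw [this]
    exact mul_mem (mul_mem p.1.out.2 p.2.1.2) (hn _ (inv_mem p.1.out.2))⟩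
  have hinj : Function.Injective Φ := by
    rintro ⟨q, c⟩ ⟨q', c'⟩ e
    have e : (q.out : G) * (c.1.1 * s) * (q.out : G)⁻¹ = q'.out * (c'.1.1 * s) * (q'.out : G)⁻¹ :=
      mul_right_cancel (congrArg Subtype.val e)
    have e2 := hpow q.out c
    rw [e, hpow] at e2
    have h1 : q = q' := by
      rw [← q.out_eq', ← q'.out_eq', QuotientGroup.eq, hC]
      change (q.out : G)⁻¹ * q'.out * s = s * ((q.out : G)⁻¹ * q'.out)
      calc _ = (q.out : G)⁻¹ * (q'.out * s * (q'.out : G)⁻¹) * q'.out := by group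
        _ = _ := by rw [e2]; group
    subst h1
    have : c.1.1 = c'.1.1 := mul_right_cancel (mul_left_cancel (mul_right_cancel e))
    rw [Subtype.ext (Subtype.ext this : c.1 = c'.1)]
  have hsurj : Function.Surjective Φ :=
    ((Nat.bijective_iff_injective_and_card Φ).mpr ⟨hinj, by
      rw [Nat.card_prod, ← Subgroup.card_eq_card_quotient_mul_card_subgroup]⟩).2
  obtain ⟨⟨q, c⟩, e⟩ := hsurj ⟨_, hts⟩
  have e : (q.out : G) * (c.1.1 * s) * (q.out : G)⁻¹ = t := mul_right_cancel (congrArg Subtype.val e)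
  refine ⟨q.out, q.out.2, ?_⟩
  rw [← hpow q.out c, e, ht]

/-- The map on cosets induced by an endomorphism. -/
def qm {G : Type*} [Group G] {B : Subgroup G} {τ : G →* G} (h : ∀ b ∈ B, τ b ∈ B) : G ⧸ B → G ⧸ B :=
  Quotient.map' τ fun a b e => by
    rw [QuotientGroup.leftRel_apply] at e ⊢
    simpa using h _ e

theorem qm_mk {G : Type*} [Group G] {B : Subgroup G} {τ : G →* G} (h : ∀ b ∈ B, τ b ∈ B) (g : G) :
    qm h (g : G ⧸ B) = (τ g : G ⧸ B) := rfl

theorem qm_smul {G : Type*} [Group G] {B : Subgroup G} {τ : G →* G} (h : ∀ b ∈ B, τ b ∈ B) (g : G) (y : G ⧸ B) :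
    qm h (g • y) = τ g • qm h y := by
  induction y using QuotientGroup.induction_on with
  | H z => simp [qm_mk]

theorem qm_iterate {G : Type*} [Group G] {B : Subgroup G} {τ : G →* G} (h : ∀ b ∈ B, τ b ∈ B) (n : ℕ)
    (h' : ∀ b ∈ B, itr τ n b ∈ B) (y : G ⧸ B) : (qm h)^[n] y = qm h' y := by
  induction y using QuotientGroup.induction_on with
  | H z =>
    rw [qm_mk, itr_apply]
    clear h'
    induction n with
    | zero => rfl
    | succ n ih => rw [Function.iterate_succ_apply', ih, qm_mk, Function.iterate_succ_apply']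

theorem card_pow_eq {k : Type*} [Field k] [IsAlgClosed k] (p : ℕ) [CharP k p] {q : ℕ} (hq : 1 < q) (hp : p ∣ q) :
    Nat.card {t : k // t ^ q = t} = q := by
  classical
  have h := Polynomial.card_rootSet_eq_natDegree (K := k) (galois_poly_separable (K := k) p q hp)
    (IsAlgClosed.splits _)
  rw [FiniteField.X_pow_card_sub_X_natDegree_eq k hq, ← Nat.card_eq_fintype_card] at h
  refine (Nat.card_congr (Equiv.subtypeEquivRight fun t => ?_)).trans h
  rw [Polynomial.mem_rootSet_of_ne (FiniteField.X_pow_card_sub_X_ne_zero k hq)]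
  simp [sub_eq_zero]

end abstract

variable {D : ChevalleyDatum} [Tab D] {K : Type*} [Field K] {G : Type*} [Group G] {x : ℕ → K → G}

namespace Full
variable (hx : Full D x)

theorem pow_eq_one_of_mem_U (p : ℕ) [hp : Fact p.Prime] [CharP K p] : ∃ e, ∀ u ∈ hx.P.U, u ^ p ^ e = 1 := by
  obtain ⟨e, he⟩ : ∃ e : ℕ, ∀ r : Fin D.nroots, 2 * (rs D).ht r < (p ^ e : ℕ) := by
    obtain ⟨M, hM⟩ := Finite.exists_le fun r : Fin D.nroots => 2 * (rs D).ht r
    refine ⟨M.toNat, fun r => (hM r).trans_lt ((Int.self_le_toNat M).trans_lt ?_)⟩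
    exact_mod_cast Nat.lt_pow_self hp.out.one_lt
  refine ⟨e, fun u hu => ?_⟩
  obtain ⟨t, rfl⟩ := hx.exists_pS halfSpace_pos closed_pos hu
  have h1 := (full_st D K).map_pS hx (φ := RingHom.id K) (StRel.liftSt_stGen hx.chv.rel hx.r3) {r | (rs D).IsPos r} t
  have h2 := (full_st D K).pS_mem {r | (rs D).IsPos r} t
  have h3 := ChevM.pow_eq_one_of_mem_U p he ((full_st D K).map_mem_US (full_xG D K) (φ := RingHom.id K) spi_x h2)
  rw [← map_pow, ← map_one (spi D K)] at h3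
  have := (full_st D K).map_inj_US (full_xG D K) (φ := RingHom.id K) spi_x halfSpace_pos closed_pos (pow_mem h2 _)
    (one_mem _) h3
  exact h1 ▸ by rw [← map_pow, this, map_one]

/-- The coset with given coordinates. -/
noncomputable def cs (w : Equiv.Perm (Fin D.nroots)) (t : Fin D.nroots → K) : G ⧸ hx.P.B :=
  ((hx.P.nW w * hx.pS ((rs D).nn w) t)⁻¹ : G)

theorem exists_cs (y : G ⧸ hx.P.B) : ∃ w ∈ (rs D).W, ∃ t, y = hx.cs w t := by
  induction y using QuotientGroup.induction_on with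
  | H g =>
    obtain ⟨w, hw, t, a, t', e⟩ := hx.exists_coord g⁻¹
    refine ⟨w, hw, t', QuotientGroup.eq.2 ?_⟩
    rw [e, mul_assoc _ (hx.P.nW w), mul_inv_cancel_right]
    exact mul_mem (hx.P.U_le_B (hx.pS_mem _ _)) (hx.P.H_le_B (hx.tor_mem _))

theorem cs_eq_iff {w w' : Equiv.Perm (Fin D.nroots)} (hw : w ∈ (rs D).W) (hw' : w' ∈ (rs D).W)
    {t t' : Fin D.nroots → K} : hx.cs w t = hx.cs w' t' ↔ w = w' ∧ ∀ r ∈ (rs D).nn w, t r = t' r := by
  constructor
  · intro e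
    obtain ⟨u, hu, h, hh, e⟩ := hx.P.mem_B_iff.1 (QuotientGroup.eq.1 e)
    rw [inv_inv, mul_inv_eq_iff_eq_mul, ← mul_assoc, ← one_mul (hx.P.nW w), ← one_mul 1] at e
    obtain ⟨rfl, -, -, h3⟩ := hx.nd.obruhat_unique hw hw' (one_mem _) hu (one_mem _) hh (hx.pS_mem _ _)
      (hx.pS_mem _ _) e
    exact ⟨rfl, hx.pS_unique (halfSpace_nn w) h3⟩
  · rintro ⟨rfl, h⟩
    rw [cs, hx.pS_congr h, cs]

theorem tor_smul_cs (a : Fin D.rank → Kˣ) (w : Equiv.Perm (Fin D.nroots)) (t : Fin D.nroots → K) :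
    hx.tor a • hx.cs w t = hx.cs w fun r => chi D a r * t r := by
  refine QuotientGroup.eq.2 ?_
  rw [← hx.tor_conj_pS]
  have := hx.P.H_le_B (hx.P.nW_conj_H w (inv_mem (hx.tor_mem a)))
  convert this using 1
  simp only [smul_eq_mul]; group

theorem qm_cs {q : ℕ} (hq : 1 < q) {σ : G →* G} (h : Frob D x q σ) (h' : ∀ b ∈ hx.P.B, σ b ∈ hx.P.B)
    (w : Equiv.Perm (Fin D.nroots)) (t : Fin D.nroots → K) : qm h' (hx.cs w t) = hx.cs w fun r => t r ^ q := by
  rw [cs, qm_mk, map_inv, map_mul, h.map_nW hx hq, h.map_pS hx hq, cs]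

open Classical in
theorem card_fixed_cosets [IsAlgClosed K] (p : ℕ) [CharP K p] {q : ℕ} (hq : 1 < q) (hp : p ∣ q) {σ : G →* G}
    (h : Frob D x q σ) (h' : ∀ b ∈ hx.P.B, σ b ∈ hx.P.B) (a : Fin D.rank → Kˣ) :
    Nat.card {y : G ⧸ hx.P.B // hx.tor a • y = y ∧ qm h' y = y} =
      ∑ w : (rs D).W, ∏ r, if r ∈ (rs D).nn w ∧ chi D a r = 1 then q else 1 := by
  let Z := Σ w : (rs D).W, ∀ r, {t : K // ((r ∈ (rs D).nn w ∧ chi D a r = 1) ∨ t = 0) ∧ t ^ q = t}
  let e : Z → {y : G ⧸ hx.P.B // hx.tor a • y = y ∧ qm h' y = y} := fun z => ⟨hx.cs z.1 fun r => z.2 r, by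
    rw [tor_smul_cs, hx.qm_cs hq h, hx.cs_eq_iff z.1.2 z.1.2, hx.cs_eq_iff z.1.2 z.1.2]
    exact ⟨⟨rfl, fun r _ => by rcases (z.2 r).2.1 with h | h <;> simp [h]⟩, rfl, fun r _ => (z.2 r).2.2⟩⟩
  have hc : ∀ (w : (rs D).W) r, Nat.card {t : K // ((r ∈ (rs D).nn w ∧ chi D a r = 1) ∨ t = 0) ∧ t ^ q = t} =
      if r ∈ (rs D).nn w ∧ chi D a r = 1 then q else 1 := fun w r => by
    split_ifs with h1
    · simpa [h1] using card_pow_eq p hq hp
    · simp only [h1, false_or]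
      exact Nat.card_eq_one_iff_exists.2 ⟨⟨0, rfl, zero_pow (by omega)⟩, fun y => Subtype.ext y.2.1⟩
  have : ∀ (w : (rs D).W) r, Finite {t : K // ((r ∈ (rs D).nn w ∧ chi D a r = 1) ∨ t = 0) ∧ t ^ q = t} :=
    fun w r => Nat.finite_of_card_ne_zero (by rw [hc]; split_ifs <;> omega)
  rw [← Nat.card_congr (Equiv.ofBijective e ⟨?_, ?_⟩), Nat.card_sigma]
  · simp only [Nat.card_pi, hc]
  · rintro ⟨w, t⟩ ⟨w', t'⟩ h1
    obtain ⟨h2, h3⟩ := (hx.cs_eq_iff w.2 w'.2).1 (congrArg Subtype.val h1)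
    obtain rfl := Subtype.ext h2
    congr 1
    ext r
    by_cases hr : r ∈ (rs D).nn w
    · exact h3 r hr
    · rw [(t r).2.1.resolve_left fun h => hr h.1, (t' r).2.1.resolve_left fun h => hr h.1]
  · rintro ⟨y, h1, h2⟩
    obtain ⟨w, hw, t, rfl⟩ := hx.exists_cs y
    rw [tor_smul_cs, hx.cs_eq_iff hw hw] at h1
    rw [hx.qm_cs hq h, hx.cs_eq_iff hw hw] at h2
    refine ⟨⟨⟨w, hw⟩, fun r => ⟨if r ∈ (rs D).nn w then t r else 0, ?_⟩⟩,
      Subtype.ext ((hx.cs_eq_iff hw hw).2 ⟨rfl, fun r hr => if_pos hr⟩)⟩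
    split_ifs with hr
    · refine ⟨or_iff_not_imp_right.2 fun h0 => ⟨hr, Units.ext (mul_right_cancel₀ h0 ?_)⟩, h2.2 r hr⟩
      simpa using h1.2 r hr
    · exact ⟨Or.inr rfl, zero_pow (by omega)⟩

end Full

variable (D x) in
/-- A Chevalley group over an algebraic closure of a finite field, with connected centralisers. -/
structure Alg (p q : ℕ) (σ : G →* G) : Prop where
  full : Full D x
  closed : IsAlgClosed K
  prime : p.Prime
  char : CharP K p
  pw : ∃ e, 0 < e ∧ q = p ^ e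
  loc : LocFin K q
  frob : Frob D x q σ
  lang : ∀ a, LangAll D x (Subgroup.centralizer {full.tor a})

namespace Alg
variable {p q : ℕ} {σ : G →* G} (h : Alg D x p q σ)

include h in
theorem one_lt : 1 < q := by
  obtain ⟨e, he, rfl⟩ := h.pw
  exact Nat.one_lt_pow he.ne' h.prime.one_lt

include h in
theorem dvd : p ∣ q := by
  obtain ⟨e, he, rfl⟩ := h.pw
  exact dvd_pow_self _ he.ne'

include h in
theorem coprime {n : ℕ} (hn : p.Coprime n) : q.Coprime n := by
  obtain ⟨e, -, rfl⟩ := h.pw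
  exact hn.pow_left e

include h in
theorem itr {n : ℕ} (hn : 0 < n) : Alg D x p (q ^ n) (itr σ n) :=
  ⟨h.full, h.closed, h.prime, h.char, h.pw.elim fun e he => ⟨e * n, Nat.mul_pos he.1 hn, by rw [he.2, pow_mul]⟩,
    h.loc.pow n, h.frob.itr n, h.lang⟩

theorem exists_fixed_coset {a : Fin D.rank → Kˣ} {s : G} (hs : Commute s (h.full.tor a)) {l n : ℕ} (hl : l.Prime)
    (hlq : p.Coprime l) (hn : s ^ l ^ n = 1) : ∃ y : G ⧸ h.full.P.B, h.full.tor a • y = y ∧ s • y = y := by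
  classical
  by_contra! hfree
  have := h.closed
  have := h.char
  obtain ⟨j, hj, hj'⟩ := h.frob.periodic_finite h.full h.loc (S := {s, h.full.tor a}) (by simp)
  have hj0 : 0 < j * l.totient := Nat.mul_pos hj (Nat.totient_pos.2 hl.pos)
  have h1 := h.itr hj0
  set Q := q ^ (j * l.totient)
  set τ := Chev.itr σ (j * l.totient)
  have hτ : ∀ g ∈ ({s, h.full.tor a} : Set G), τ g = g := fun g hg => by
    rw [itr_apply, Function.iterate_mul, Function.iterate_fixed (hj' g hg)]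
  have hQ : Q ≡ 1 [MOD l] := by
    simpa only [one_pow, ← pow_mul, mul_comm] using (Nat.ModEq.pow_totient (h.coprime hlq)).pow j
  have hB : ∀ b ∈ h.full.P.B, τ b ∈ h.full.P.B := fun _ => h1.frob.map_mem_B h.full h1.one_lt
  have key : ∀ m, l ^ (m + 1) ∣ Nat.card (rs D).W := fun m => by
    have h2 := h1.itr (pow_pos hl.pos m)
    have hB' : ∀ b ∈ h.full.P.B, Chev.itr τ (l ^ m) b ∈ h.full.P.B := fun _ => h2.frob.map_mem_B h.full h2.one_lt
    obtain ⟨z, hz, e⟩ := h.lang a _ _ h2.one_lt h2.frob s (Subgroup.mem_centralizer_singleton_iff.2 hs)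
    rw [Subgroup.mem_centralizer_singleton_iff] at hz
    have h3 := h.full.card_fixed_cosets p h2.one_lt h2.dvd h2.frob hB' a
    have h4 := Nat.card_congr ((MulAction.toPerm z).subtypeEquiv
      (p := fun y : G ⧸ h.full.P.B => h.full.tor a • y = y ∧ s • (qm hB)^[l ^ m] y = y)
      (q := fun y => h.full.tor a • y = y ∧ qm hB' y = y) fun y => by
        simp only [MulAction.toPerm_apply]
        rw [qm_iterate hB _ hB', qm_smul, smul_smul, ← hz, ← smul_smul, smul_left_cancel_iff, e, mul_smul,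
          inv_smul_eq_iff])
    have h5 : Q ^ l ^ m ≡ 1 [MOD l ^ (m + 1)] := modEq_pow_pow hQ m
    have h6 : (∑ w : (rs D).W, ∏ r, if r ∈ (rs D).nn w ∧ chi D a r = 1 then Q ^ l ^ m else 1) ≡ Nat.card (rs D).W
        [MOD l ^ (m + 1)] := by
      rw [Nat.card_eq_fintype_card, ← Finset.card_univ, Finset.card_eq_sum_ones]
      refine Nat.ModEq.sum fun w _ => ?_
      exact (Nat.ModEq.prod (g := fun _ => 1) fun r _ => by split_ifs; exacts [h5, rfl]).trans (by simp [Nat.ModEq])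
    have : Finite {y : G ⧸ h.full.P.B // h.full.tor a • y = y ∧ s • (qm hB)^[l ^ m] y = y} :=
      Nat.finite_of_card_ne_zero (by
        rw [h4, h3]
        exact (Finset.sum_pos (fun w _ => Finset.prod_pos fun r _ => by have := h2.one_lt; split_ifs <;> omega)
          Finset.univ_nonempty).ne')
    have h7 := pow_dvd_card_fixed (f := qm hB) (s := (s • ·)) (P := fun y => h.full.tor a • y = y) (a := n) (m := m)
      (fun y => by rw [qm_smul, hτ s (by simp)]) (fun y hy => by rw [← hτ (h.full.tor a) (by simp), ← qm_smul, hy]) hl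
      (fun y => by rw [smul_iterate_apply, hn, one_smul]) hfree
    rw [h4, h3] at h7
    exact (h6.dvd_iff dvd_rfl).1 h7
  exact absurd (Nat.le_of_dvd Nat.card_pos (key (Nat.card (rs D).W)))
    (not_le.2 ((Nat.lt_succ_self _).trans (Nat.lt_pow_self hl.one_lt)))

theorem exists_conj_of_mem_B {s : G} (hs : s ∈ h.full.P.B) {n : ℕ} (hn : p.Coprime n) (e : s ^ n = 1) :
    ∃ u ∈ h.full.P.U, ∃ a, s = u * h.full.tor a * u⁻¹ := by
  have := h.char
  have := Fact.mk h.prime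
  obtain ⟨u, hu, c, hc, rfl⟩ := h.full.P.mem_B_iff.1 hs
  have hcU : ∀ v ∈ h.full.P.U, c * v * c⁻¹ ∈ h.full.P.U := fun v hv => h.full.P.H_conj_US hc hv
  have h1 : c ^ n = 1 := by
    have := mul_pow_mul_inv_mem hcU hu n
    rw [e, one_mul] at this
    exact h.full.nd.eq_one_of_mem_U_H (inv_mem_iff.1 this) (pow_mem hc n)
  obtain ⟨j, hj, hj'⟩ := h.frob.periodic_finite h.full h.loc (S := {u, c}) (by simp)
  obtain ⟨k, hk⟩ := h.full.pow_eq_one_of_mem_U p
  have h2 := h.itr hj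
  let U' := h.full.P.U ⊓ (Chev.itr σ j).eqLocus (MonoidHom.id G)
  have : Finite U' := (h2.frob.finite_fixed h.full h2.one_lt).subset fun g hg => hg.2
  have hn0 : 0 < n := Nat.pos_of_ne_zero (by rintro rfl; simp [h.prime.ne_one] at hn)
  have h3 : ∀ g : G, g ^ n = 1 → g ^ p ^ (n.totient * k) = g := fun g hg => by
    have := (Nat.ModEq.pow_totient hn).pow k
    rw [← pow_mul, one_pow] at this
    rw [pow_eq_pow_mod _ hg, this, ← pow_eq_pow_mod _ hg, pow_one]
  obtain ⟨a, rfl⟩ := h.full.mem_H_iff.1 hc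
  obtain ⟨v, hv, e⟩ := exists_conj_of_pow (U := U') (fun v hv => ⟨hcU v hv.1, by
      have h4 : Chev.itr σ j v = v := hv.2
      have h5 : Chev.itr σ j (h.full.tor a) = h.full.tor a := hj' _ (by simp)
      change Chev.itr σ j _ = _
      rw [map_mul, map_mul, map_inv, h4, h5]; rfl⟩) (h3 _ h1) (h3 _ e)
    (fun v hv => by
      rw [show n.totient * k = k + (n.totient - 1) * k by
        rw [Nat.sub_one_mul, Nat.add_sub_cancel' (Nat.le_mul_of_pos_left _ (Nat.totient_pos.2 hn0))], pow_add, pow_mul,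
        hk v hv.1, one_pow])
    (by rw [mul_inv_cancel_right]; exact ⟨hu, hj' u (by simp)⟩)
  exact ⟨v, hv.1, a, e⟩

theorem exists_conj_tor {n : ℕ} (hn : p.Coprime n) {s : G} (e : s ^ n = 1) :
    ∃ g a, s = g * h.full.tor a * g⁻¹ := by
  induction n using Nat.recOnPrimePow generalizing s with
  | zero => simp [h.prime.ne_one] at hn
  | one => exact ⟨1, 1, by simpa using e⟩
  | prime_pow_mul m l n hl hm hn0 ih =>
    have hc : (l ^ n).Coprime m := ((Nat.Prime.coprime_iff_not_dvd hl).2 hm).pow_left n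
    have e1 : s = (s ^ (l ^ n).gcdA m) ^ l ^ n * (s ^ (l ^ n).gcdB m) ^ m := by
      rw [← zpow_natCast, ← zpow_natCast, ← _root_.zpow_mul, ← _root_.zpow_mul, ← _root_.zpow_add, mul_comm,
        mul_comm _ (m : ℤ), ← Nat.gcd_eq_gcd_ab, hc]; simp
    have e2 : ∀ j : ℤ, (s ^ j) ^ (l ^ n * m) = 1 := fun j => by
      rw [← zpow_natCast, ← _root_.zpow_mul, mul_comm, _root_.zpow_mul, zpow_natCast, e, _root_.one_zpow]
    obtain ⟨g, a, e3⟩ := ih (hn.coprime_dvd_right (dvd_mul_left _ _)) (s := (s ^ (l ^ n).gcdA m) ^ l ^ n)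
      (by rw [← pow_mul, e2])
    have e4 : h.full.tor a = g⁻¹ * (s ^ (l ^ n).gcdA m) ^ l ^ n * g := by rw [e3]; group
    obtain ⟨y, h1, h2⟩ := h.exists_fixed_coset (a := a) (s := g⁻¹ * (s ^ (l ^ n).gcdB m) ^ m * g) (by
        rw [e4]
        simpa using (((Commute.refl s).zpow_zpow _ _).pow_pow _ _).map (MulAut.conj g⁻¹)) hl
      (hn.coprime_dvd_right (Dvd.dvd.mul_right (dvd_pow_self l hn0.ne') m)) (n := n) (by
        have := conj_pow (a := g⁻¹) (b := (s ^ (l ^ n).gcdB m) ^ m) (i := l ^ n)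
        rw [inv_inv] at this
        rw [this, ← pow_mul, mul_comm m, e2]; simp)
    induction y using QuotientGroup.induction_on with
    | H z =>
      have h3 : (g⁻¹ * s * g) • (z : G ⧸ h.full.P.B) = z := by
        rw [e1, show ∀ u v : G, g⁻¹ * (u * v) * g = (g⁻¹ * u * g) * (g⁻¹ * v * g) from fun u v => by group, ← e4,
          mul_smul, h2, h1]
      obtain ⟨u, -, b, e5⟩ := h.exists_conj_of_mem_B (QuotientGroup.eq.1 h3.symm) hn (by
        have := conj_pow (a := (g * z)⁻¹) (b := s) (i := l ^ n * m)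
        rw [e] at this
        simpa [mul_assoc] using this)
      refine ⟨g * z * u, b, ?_⟩
      calc s = g * z * (z⁻¹ * (g⁻¹ * s * g * z)) * (g * z)⁻¹ := by group
        _ = _ := by rw [← smul_eq_mul (g⁻¹ * s * g), e5]; group

end Alg

end Cfsg.Agent.Chev
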