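import Mathlib
import Cfsg.Agent.Lib.Chev.Semis

/-! The number of semisimple classes of a finite Chevalley group. -/

set_option autoImplicit false
set_option linter.unusedSectionVars false

namespace Cfsg.Agent.Chev
open Cfsg.Lie RSys PreRGD Matrix Cfsg.Agent.Generic

section lattice
variable {I : Type*} [Fintype I] [DecidableEq I]

theorem card_quot_range {A : Matrix I I ℤ} (hA : A.det ≠ 0) :
    Nat.card ((I → ℤ) ⧸ LinearMap.range A.mulVecLin) = A.det.natAbs := by
  have hi : Function.Injective A.mulVecLin := (injective_iff_map_eq_zero _).2 fun _ => eq_zero_of_mulVec_eq_zero hA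
  rw [← Submodule.natAbs_det_equiv _ (LinearEquiv.ofInjective _ hi), ← LinearMap.det_toLin']
  rfl

/-- The kernel of a monomial map is dual to the cokernel of the transposed matrix. -/
noncomputable def kerMpEquiv (M : Type*) [CommGroup M] (A : Matrix I I ℤ) :
    (Multiplicative ((I → ℤ) ⧸ LinearMap.range Aᵀ.mulVecLin) →* M) ≃* (mp A : (I → M) →* (I → M)).ker :=
  have key : ∀ (φ : Multiplicative ((I → ℤ) ⧸ LinearMap.range Aᵀ.mulVecLin) →* M) (y : I → ℤ),
      φ (.ofAdd (Submodule.Quotient.mk y)) = ∏ i, φ (.ofAdd (Submodule.Quotient.mk (Pi.single i 1))) ^ y i := by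
    intro φ y
    conv_lhs => rw [pi_eq_sum_univ' y, ← Submodule.mkQ_apply, map_sum, ofAdd_sum, map_prod]
    simp only [map_zsmul, ofAdd_zsmul, map_zpow, Submodule.mkQ_apply]
  let g : (Multiplicative ((I → ℤ) ⧸ LinearMap.range Aᵀ.mulVecLin) →* M) →* (mp A : (I → M) →* (I → M)).ker :=
    MonoidHom.mk' (fun φ => ⟨fun i => φ (.ofAdd (Submodule.Quotient.mk (Pi.single i 1))), by
      refine funext fun j => ?_
      rw [mp_apply, ← key φ (A j), (Submodule.Quotient.mk_eq_zero _).2 (LinearMap.mem_range.2 ⟨Pi.single j 1, by ext; simp⟩)]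
      simp⟩) fun _ _ => rfl
  MulEquiv.ofBijective g ⟨fun φ ψ e => MonoidHom.ext fun y => by
      obtain ⟨y, rfl⟩ := (Multiplicative.ofAdd.surjective.comp (Submodule.Quotient.mk_surjective _)) y
      rw [Function.comp_apply, key, key]
      exact Finset.prod_congr rfl fun i _ => congrArg (· ^ y i) (show (g φ).1 i = (g ψ).1 i by rw [e]), fun a => by
      let f : (I → ℤ) →+ Additive M := AddMonoidHom.mk' (fun y => .ofMul (∏ i, a.1 i ^ y i)) fun y z => by
        simp [_root_.zpow_add, Finset.prod_mul_distrib]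
      refine ⟨AddMonoidHom.toMultiplicativeLeft ((LinearMap.range Aᵀ.mulVecLin).liftQ f.toIntLinearMap ?_).toAddMonoidHom,
        Subtype.ext (funext fun i => ?_)⟩
      · rintro _ ⟨y, rfl⟩
        have : ∏ j, mp A a.1 j ^ y j = 1 := by rw [show mp A a.1 = 1 from a.2]; simp
        simp only [mp_apply, ← Finset.prod_zpow, ← _root_.zpow_mul] at this
        rw [Finset.prod_comm] at this
        change ∏ i, a.1 i ^ (Aᵀ *ᵥ y) i = 1
        simpa [mulVec, dotProduct, zpow_finsum] using this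
      · change ∏ j, a.1 j ^ (Pi.single i 1 : I → ℤ) j = _
        rw [Finset.prod_eq_single i (fun j _ h => by simp [h]) (by simp)]; simp⟩

theorem ker_mp_equiv {k : Type*} [Field k] [IsAlgClosed k] {A : Matrix I I ℤ} (hA : (A.det : k) ≠ 0) :
    Nonempty ((mp A : (I → kˣ) →* (I → kˣ)).ker ≃* Multiplicative ((I → ℤ) ⧸ LinearMap.range Aᵀ.mulVecLin)) := by
  have h0 : Aᵀ.det ≠ 0 := by rw [det_transpose]; rintro h; simp [h] at hA
  have h1 : Nat.card (Multiplicative ((I → ℤ) ⧸ LinearMap.range Aᵀ.mulVecLin)) = A.det.natAbs := by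
    rw [← det_transpose, ← card_quot_range h0]; rfl
  have : Finite (Multiplicative ((I → ℤ) ⧸ LinearMap.range Aᵀ.mulVecLin)) :=
    Nat.finite_of_card_ne_zero (by rw [h1, ← det_transpose]; simpa using h0)
  have : NeZero ((A.det.natAbs : ℕ) : k) := ⟨by
    rcases Int.natAbs_eq A.det with e | e <;> rw [e] at hA <;> simpa using hA⟩
  have : NeZero A.det.natAbs := .of_neZero_natCast k
  have : HasEnoughRootsOfUnity k (Monoid.exponent (Multiplicative ((I → ℤ) ⧸ LinearMap.range Aᵀ.mulVecLin))) :=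
    .of_dvd k (h1 ▸ Group.exponent_dvd_nat_card)
  exact ⟨(kerMpEquiv kˣ A).symm.trans (CommGroup.monoidHom_mulEquiv_of_hasEnoughRootsOfUnity _ k).some⟩

theorem card_ker_mp {k : Type*} [Field k] [IsAlgClosed k] {A : Matrix I I ℤ} (hA : (A.det : k) ≠ 0) :
    Nat.card (mp A : (I → kˣ) →* (I → kˣ)).ker = A.det.natAbs := by
  rw [Nat.card_congr (ker_mp_equiv hA).some.toEquiv, ← det_transpose, ← card_quot_range]
  · rfl
  · rw [det_transpose]; rintro h; simp [h] at hA

theorem TA_eq_ker {M : Type*} [CommGroup M] (A : Matrix I I ℤ) (q : ℕ) :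
    TA M A q = (mp ((q : ℤ) • (1 : Matrix I I ℤ) - A)).ker := by
  ext a
  rw [mem_TA, MonoidHom.mem_ker, mp_sub, mp_smul, mp_one, mul_inv_eq_one, zpow_natCast]

theorem det_sub_pos {A : Matrix I I ℤ} {m : ℕ} (hm : 0 < m) (hA : A ^ m = 1) {q : ℤ} (hq : 1 < q) :
    0 < (q • (1 : Matrix I I ℤ) - A).det := by
  let B := A.map (Int.castRingHom ℝ)
  have hB : B ^ m = 1 := by
    have := congrArg (Int.castRingHom ℝ).mapMatrix hA
    rwa [map_pow, map_one] at this
  let f : ℝ → ℝ := fun s => ((q : ℝ) • (1 : Matrix I I ℝ) - s • B).det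
  have hf : Continuous f := Continuous.matrix_det (by fun_prop)
  have hq' : (1 : ℝ) < q := by exact_mod_cast hq
  have h0 : 0 < f 0 := by simp only [f, zero_smul, sub_zero, det_smul, det_one, mul_one]; positivity
  have h1 : ∀ s ∈ Set.Icc (0 : ℝ) 1, f s ≠ 0 := fun s hs e => by
    have := congrArg det ((((Commute.one_left B).smul_left (q : ℝ)).smul_right s).mul_geom_sum₂ m)
    rw [det_mul, show det ((q : ℝ) • (1 : Matrix I I ℝ) - s • B) = 0 from e, zero_mul, smul_pow, smul_pow, one_pow, hB, ← sub_smul, det_smul, det_one,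
      mul_one] at this
    have h2 : s ^ m < (q : ℝ) ^ m := pow_lt_pow_left₀ (by linarith [hs.2]) hs.1 hm.ne'
    exact (pow_pos (sub_pos.2 h2) _).ne this
  have h2 : 0 < f 1 := by
    by_contra! h
    obtain ⟨s, hs, e⟩ := intermediate_value_Icc' zero_le_one hf.continuousOn ⟨h, h0.le⟩
    exact h1 s hs e
  have : f 1 = ((q • (1 : Matrix I I ℤ) - A).det : ℝ) := by
    have := (Int.castRingHom ℝ).map_det (q • (1 : Matrix I I ℤ) - A)
    simp only [eq_intCast] at this
    rw [this]
    simp only [f, B, one_smul]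
    congr 1
    ext i j
    by_cases h : i = j <;> simp [h, Matrix.intCast_apply]
  exact_mod_cast this ▸ h2

theorem det_sub_cast_ne_zero {k : Type*} [Field k] {A : Matrix I I ℤ} {m : ℕ} (hm : 0 < m) (hA : A ^ m = 1) {q : ℤ}
    (hq : (q : k) = 0) : (((q • (1 : Matrix I I ℤ) - A).det : ℤ) : k) ≠ 0 := by
  have h1 := (Int.castRingHom k).map_det (q • (1 : Matrix I I ℤ) - A)
  have h2 := congrArg (fun B => (Int.castRingHom k B.det)) hA
  simp only [det_pow, det_one, map_pow, map_one, RingHom.map_det] at h2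
  rw [eq_intCast, map_sub, map_zsmul, map_one, ← Int.cast_smul_eq_zsmul k q (1 : Matrix I I k), hq, zero_smul, zero_sub,
    det_neg] at h1
  rw [h1]
  exact mul_ne_zero (pow_ne_zero _ (by simp)) fun e => by rw [e] at h2; simp [hm.ne'] at h2

end lattice

theorem card_sigma_eq {W T : Type*} [Group W] [MulAction W T] {f : T → T} (hf : ∀ (w : W) a, f (w • a) = w • f a) :
    ∃ X : SubMulAction W T, (∀ a, a ∈ X ↔ ∃ w : W, f a = w • a) ∧
      Nat.card (Σ w : W, {a // f a = w • a}) = Nat.card (MulAction.orbitRel.Quotient W X) * Nat.card W := by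
  let X : SubMulAction W T := ⟨{a | ∃ w : W, f a = w • a}, fun v a ⟨w, hw⟩ => ⟨v * w * v⁻¹, by
    rw [hf, hw]; simp [mul_smul]⟩⟩
  refine ⟨X, fun _ => Iff.rfl, ?_⟩
  choose c hc using fun a : X => a.2
  rw [← Nat.card_prod, ← Nat.card_congr (MulAction.sigmaFixedByEquivOrbitsProdGroup W X)]
  exact Nat.card_congr ⟨fun z => ⟨(c ⟨z.2, z.1, z.2.2⟩)⁻¹ * z.1, ⟨z.2, z.1, z.2.2⟩, Subtype.ext (by
      change (_ * z.1) • z.2.1 = z.2.1
      rw [mul_smul, ← z.2.2, inv_smul_eq_iff]; exact hc ⟨z.2, z.1, z.2.2⟩)⟩,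
    fun z => ⟨c z.2 * z.1, z.2, by rw [mul_smul, hc]; exact congrArg _ (congrArg Subtype.val z.2.2).symm⟩,
    fun z => Sigma.subtype_ext (mul_inv_cancel_left _ _) rfl, fun z => Sigma.subtype_ext (inv_mul_cancel_left _ _) rfl⟩

namespace RSys
variable {ι I : Type*} [Fintype I] [DecidableEq I] {R : RSys ι I} [Fintype ι] [DecidableEq ι]

theorem exists_cw_pow {w : Equiv.Perm ι} (hw : w ∈ R.Aut) : ∃ m, 0 < m ∧ R.cw w ^ m = 1 :=
  ⟨orderOf w, orderOf_pos w, by rw [← cw_pow hw, pow_orderOf_eq_one, cw_one]⟩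

open Classical in
theorem sum_det (q : ℤ) : ∑ w : R.W, (q • (1 : Matrix I I ℤ) - R.cw w).det = Nat.card R.W * q ^ Fintype.card I := by
  let M : Finset I → R.W → Matrix I I ℤ := fun S w =>
    Matrix.of (S.piecewise (fun i => -R.cc (w.1 (R.simple i))) fun i => Pi.single i q)
  have e : ∀ w : R.W, (q • (1 : Matrix I I ℤ) - R.cw w).det = ∑ S, (M S w).det := fun w => by
    rw [← det_transpose]
    refine Eq.trans ?_ (detRowAlternating.map_add_univ _ _)
    congr 1
    ext i j
    by_cases h : i = j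
    · simp [h, cw, Matrix.intCast_apply]; ring
    · simp [h, cw, Ne.symm h, Matrix.intCast_apply]
  simp only [e]
  rw [Finset.sum_comm, Finset.sum_eq_single ∅ (fun S _ hS => ?_) (by simp)]
  · have : ∀ w, (M ∅ w).det = q ^ Fintype.card I := fun w => by
      rw [← Finset.card_univ, ← Finset.prod_const, ← det_diagonal]
      congr 1
      ext i j
      simp [M, diagonal, Pi.single_apply, eq_comm]
    simp [this]
  · obtain ⟨j, hj⟩ := Finset.nonempty_iff_ne_empty.2 hS
    have h1 : ∀ w : R.W, (M S (w * ⟨_, R.sref_mem_W j⟩)).det = -(M S w).det := fun w => by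
      have hw := R.W_le_Aut w.2
      rw [← neg_one_mul, ← (M S w).updateRow_eq_self j, ← det_updateRow_smul]
      refine det_eq_of_forall_row_eq_smul_add_const (fun i => if i ∈ S ∧ i ≠ j then R.C i j else 0) j (by simp)
        fun i l => ?_
      have : R.cc (w.1 (R.sref j (R.simple i))) = R.cc (w.1 (R.simple i)) - R.C i j • R.cc (w.1 (R.simple j)) := by
        rw [← refl_simple, Aut.refl_apply R hw, cc_refl, Aut.pair_apply hw, pair_simple_simple]
      by_cases h : i = j
      · subst h; rw [updateRow_self]; simp [M, hj, this, C_self]; ring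
      · rw [updateRow_self, updateRow_ne h]
        by_cases hi : i ∈ S
        · simp [M, hj, hi, h, this]; ring
        · simp [M, hi, h]
    have h2 := Equiv.sum_comp (Equiv.mulRight (⟨_, R.sref_mem_W j⟩ : R.W)) fun w => (M S w).det
    simp only [Equiv.coe_mulRight, h1, Finset.sum_neg_distrib] at h2
    omega

theorem card_TA {k : Type*} [Field k] [IsAlgClosed k] {w : Equiv.Perm ι} (hw : w ∈ R.Aut) {q : ℕ} (hq : 1 < q)
    (h0 : (q : k) = 0) : (Nat.card (TA kˣ (R.cw w) q) : ℤ) = ((q : ℤ) • (1 : Matrix I I ℤ) - R.cw w).det := by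
  obtain ⟨m, hm, e⟩ := exists_cw_pow hw
  rw [TA_eq_ker, card_ker_mp (det_sub_cast_ne_zero hm e (by simpa using h0)), Int.natCast_natAbs,
    abs_of_pos (det_sub_pos hm e (by exact_mod_cast hq))]

variable (R) in
/-- The action of the Weyl group on the torus. -/
@[reducible] def wact (M : Type*) [CommGroup M] : MulAction R.W (I → M) where
  smul w a := mp (R.cw w) a
  one_smul a := by change mp (R.cw 1) a = a; rw [cw_one, mp_one]
  mul_smul v w a := by
    change mp (R.cw (v * w)) a = mp _ (mp _ a)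
    rw [cw_mul (R.W_le_Aut v.2) (R.W_le_Aut w.2), mp_mul]

end RSys

variable {D : ChevalleyDatum} [Tab D] {K : Type*} [Field K] {G : Type*} [Group G] {x : ℕ → K → G}

namespace Alg
variable {p q : ℕ} {σ : G →* G} (h : Alg D x p q σ) {τ : G →* G} {m : ℕ} (hm0 : 0 < m) (hm : ∀ g, τ^[m] g = σ g)
include h

theorem cast_eq_zero : (q : K) = 0 := have := h.char; (CharP.cast_eq_zero_iff K p q).2 h.dvd

theorem coprime_orderOf_tor (a : Fin D.rank → Kˣ) : p.Coprime (orderOf (h.full.tor a)) := by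
  obtain ⟨n, hn, e⟩ := h.frob.periodic h.full h.loc (h.full.tor a)
  have h1 := h.itr hn
  rw [← itr_apply, h1.frob.map_tor h.full h1.one_lt, map_pow] at e
  have h2 : h.full.tor a ^ (q ^ n - 1) = 1 := by
    rw [← mul_left_inj (h.full.tor a), ← pow_succ, Nat.sub_add_cancel h1.one_lt.le, e, one_mul]
  refine Nat.Coprime.coprime_dvd_right (orderOf_dvd_of_pow_eq_one h2) (Nat.Coprime.coprime_dvd_left h1.dvd ?_)
  exact (Nat.coprime_self_sub_right h1.one_lt.le).2 (by simp)

include hm0 hm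

theorem lang_top : Lang ⊤ τ := by
  have := h.lang 1
  rw [map_one, show Subgroup.centralizer {(1 : G)} = ⊤ by ext; simp [Subgroup.mem_centralizer_singleton_iff]] at this
  exact this.twist h.full h.one_lt h.loc h.frob (fun _ _ => trivial) (fun g _ => hm g) fun _ _ => trivial

theorem lang_centralizer {s : G} (hs : τ s = s) {n : ℕ} (hn : p.Coprime n) (e : s ^ n = 1) :
    Lang (Subgroup.centralizer {s}) τ := by
  obtain ⟨g, a, rfl⟩ := h.exists_conj_tor hn e
  obtain ⟨j, hj, hj'⟩ := h.frob.periodic h.full h.loc (h.full.tor a)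
  have h1 := h.itr hj
  have key : ∀ {f : G →* G}, f (h.full.tor a) = h.full.tor a → ∀ g ∈ Subgroup.centralizer {h.full.tor a},
      f g ∈ Subgroup.centralizer {h.full.tor a} := fun {f} hf g hg => by
    rw [Subgroup.mem_centralizer_singleton_iff] at hg ⊢
    rw [← hf, ← map_mul, hg, map_mul]
  have h2 := (h.lang a).tw h.full h1.one_lt h1.loc h1.frob (τ := τ) (Nat.mul_pos hm0 hj)
    (fun g => by rw [Function.iterate_mul, funext hm, itr_apply]) (key (conj_fixed_iff.1 hs)) (key hj')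
  intro c hc
  rw [Subgroup.mem_centralizer_singleton_iff] at hc
  obtain ⟨z, hz, e⟩ := h2 (g⁻¹ * c * g) (Subgroup.mem_centralizer_singleton_iff.2 (by
    calc _ = g⁻¹ * (c * (g * h.full.tor a * g⁻¹)) * g := by group
      _ = _ := by rw [hc]; group))
  rw [Subgroup.mem_centralizer_singleton_iff] at hz
  refine ⟨g * z * g⁻¹, Subgroup.mem_centralizer_singleton_iff.2 (by
    calc _ = g * (z * h.full.tor a) * g⁻¹ := by group
      _ = _ := by rw [hz]; group), ?_⟩
  calc c = g * (g⁻¹ * c * g) * g⁻¹ := by group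
    _ = _ := by rw [e, tw_apply, map_mul, map_mul, map_inv]; group

theorem exists_fixed_conj {s g : G} (hs : τ s = s) (hg : τ (g * s * g⁻¹) = g * s * g⁻¹) {n : ℕ} (hn : p.Coprime n)
    (e : s ^ n = 1) : ∃ c, τ c = c ∧ c * s * c⁻¹ = g * s * g⁻¹ := by
  obtain ⟨z, hz, e⟩ := h.lang_centralizer hm0 hm hs hn e (g⁻¹ * τ g) (Subgroup.mem_centralizer_singleton_iff.2 (by
    have := conj_fixed_iff.1 hg
    rwa [tw_apply, hs, mul_inv_eq_iff_eq_mul] at this))
  rw [Subgroup.mem_centralizer_singleton_iff] at hz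
  refine ⟨g * z⁻¹, ?_, ?_⟩
  · rw [map_mul, map_inv, inv_mul_eq_iff_eq_mul.1 e]; group
  · calc _ = g * (z⁻¹ * (s * z)) * g⁻¹ := by group
      _ = _ := by rw [← hz]; group

end Alg

theorem Alg.card_classes {p q : ℕ} {σ : G →* G} (h : Alg D x p q σ) (hi : Function.Injective h.full.tor) {Γ : Type*}
    [Group Γ] {j : Γ →* G} (hj : Function.Injective j) (hr : ∀ g, σ g = g ↔ g ∈ j.range) :
    Nat.card {c : ConjClasses Γ // ∃ g, ConjClasses.mk g = c ∧ (orderOf g).Coprime p} = q ^ D.rank := by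
  classical
  have := h.closed
  let _ := (rs D).wact Kˣ
  obtain ⟨X, hX, e⟩ := card_sigma_eq (W := (rs D).W) (T := Fin D.rank → Kˣ) (f := (· ^ q)) fun w a =>
    (map_pow (mp _) a q).symm
  have e1 : ∀ w : (rs D).W, (Nat.card {a : Fin D.rank → Kˣ // a ^ q = w • a} : ℤ) = _ := fun w =>
    card_TA ((rs D).W_le_Aut w.2) h.one_lt h.cast_eq_zero
  have : ∀ w : (rs D).W, Finite {a : Fin D.rank → Kˣ // a ^ q = w • a} := fun w => Nat.finite_of_card_ne_zero (by
    obtain ⟨m, hm, e⟩ := exists_cw_pow ((rs D).W_le_Aut w.2)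
    have := det_sub_pos hm e (q := q) (by exact_mod_cast h.one_lt)
    rw [← e1] at this; omega)
  rw [Nat.card_sigma] at e
  have e2 := sum_det (R := rs D) q
  simp only [← e1, Fintype.card_fin] at e2
  rw [← Nat.cast_sum, e, mul_comm] at e2
  rw [← Nat.mul_left_cancel Nat.card_pos (by exact_mod_cast e2 : _ * _ = _ * q ^ D.rank)]
  have key : ∀ a : X, ∃ g : Γ, IsConj (h.full.tor a) (j g) := fun a => by
    obtain ⟨w, hw⟩ := (hX _).1 a.2
    obtain ⟨z, -, hz⟩ := h.lang_top one_pos (fun _ => rfl) (h.full.P.nW w)⁻¹ trivial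
    obtain ⟨g, hg⟩ := (hr _).1 (conj_fixed_iff.2
      (hz ▸ (h.frob.tw_tor_iff h.full h.one_lt w.2 a).2 (congrArg _ hw)))
    exact ⟨g, isConj_iff.2 ⟨z, hg.symm⟩⟩
  choose s hs using key
  have ho : ∀ a, (orderOf (s a)).Coprime p := fun a => by
    obtain ⟨c, hc⟩ := isConj_iff.1 (hs a)
    rw [← orderOf_injective j hj, ← hc, ← MulAut.conj_apply, MulEquiv.orderOf_eq]
    exact (h.coprime_orderOf_tor _).symm
  have hc : ∀ g g' : Γ, (orderOf g).Coprime p → IsConj (j g) (j g') → IsConj g g' := fun g g' h1 h2 => by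
    obtain ⟨c, hc⟩ := isConj_iff.1 h2
    obtain ⟨c', h3, h4⟩ := h.exists_fixed_conj one_pos (fun _ => rfl) ((hr _).2 ⟨g, rfl⟩) (hc ▸ (hr _).2 ⟨g', rfl⟩)
      h1.symm (by rw [← map_pow, pow_orderOf_eq_one, map_one])
    obtain ⟨c, rfl⟩ := (hr _).1 h3
    exact isConj_iff.2 ⟨c, hj (by simp [h4, hc])⟩
  refine Nat.card_congr (Equiv.ofBijective (fun o : MulAction.orbitRel.Quotient (rs D).W X =>
    ⟨ConjClasses.mk (s o.out), _, rfl, ho _⟩) ⟨fun o o' e => ?_, ?_⟩).symm
  · obtain ⟨c, hc⟩ := isConj_iff.1 ((hs _).trans ((j.map_isConj (ConjClasses.mk_eq_mk_iff_isConj.1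
      (congrArg Subtype.val e))).trans (hs _).symm))
    obtain ⟨w, hw, h1⟩ := h.full.exists_W_conj c
    have h2 : (⟨w, hw⟩ : (rs D).W) • o.out = o'.out := Subtype.ext (hi (h1 _ _ hc))
    exact (Quotient.out_equiv_out.1 (MulAction.orbitRel_apply.2 ⟨_, h2⟩)).symm
  · rintro ⟨_, g, rfl, hg⟩
    obtain ⟨c, a, e⟩ := h.exists_conj_tor hg.symm (s := j g) (by rw [← map_pow, pow_orderOf_eq_one, map_one])
    have ha : a ∈ X := by
      have h1 := conj_fixed_iff.1 (e ▸ (hr _).2 ⟨g, rfl⟩)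
      rw [tw_apply, h.frob.map_tor h.full h.one_lt, mul_inv_eq_iff_eq_mul] at h1
      obtain ⟨w, hw, h2⟩ := h.full.exists_W_conj (c⁻¹ * σ c)⁻¹
      exact (hX _).2 ⟨⟨w, hw⟩, hi (h2 _ _ (by rw [inv_inv, mul_assoc, ← h1, inv_mul_cancel_left])).symm⟩
    refine ⟨Quotient.mk _ ⟨a, ha⟩, Subtype.ext (ConjClasses.mk_eq_mk_iff_isConj.2 (hc _ _ (ho _) ?_))⟩
    obtain ⟨w, hw⟩ := Quotient.mk_out (s := MulAction.orbitRel (rs D).W X) ⟨a, ha⟩
    refine (hs _).symm.trans (IsConj.trans ?_ (isConj_iff.2 ⟨c, e.symm⟩))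
    rw [← hw]
    exact (isConj_iff.2 ⟨_, h.full.nW_conj_tor w.2 a⟩).symm

section finite
variable {F : Type*} [Field F] [Finite F]

local notation "k" => AlgebraicClosure F

theorem alg_st (h : TorInj D k) (p : ℕ) [hp : Fact p.Prime] [CharP F p] {φ : k →+* k} (hφ : ∀ t, φ t = t ^ Nat.card F) :
    Alg D (D.stGen k) p (Nat.card F) (sm D φ) where
  full := full_st D k
  closed := inferInstance
  prime := hp.out
  char := inferInstance
  pw := by
    have := Fintype.ofFinite F
    obtain ⟨n, -, e⟩ := FiniteField.card F p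
    exact ⟨n, n.2, by rw [Nat.card_eq_fintype_card, e]⟩
  loc := locFin_of_algebraic F k
  frob := frob_sm hφ
  lang a := langAll_st_centralizer h ((locFin_of_algebraic F k).isOfFinOrder Finite.one_lt_card a)

theorem exists_emb_st (h : TorInj D k) (hc : Function.Injective (ChevM.cm D (F := F))) :
    ∃ j : D.group F →* D.SteinbergGroup k, Function.Injective j ∧
      ∀ (r : Fin D.nroots) t, j (ChevM.xG D F r t) = D.stGen k r (algebraMap F k t) := by
  let e := MulEquiv.ofBijective (spi D F) ⟨(full_st D F).map_injective (full_xG D F) (φ := RingHom.id F) spi_x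
    ((full_xG D F).tor_injective_of_cm hc), spi_surjective⟩
  have he : ∀ (r : Fin D.nroots) t, ((sm D (algebraMap F k)).comp e.symm.toMonoidHom) (ChevM.xG D F r t) =
      D.stGen k r (algebraMap F k t) := fun r t => by
    rw [← spi_x, ← sm_x]; exact congrArg (sm D (algebraMap F k)) (e.symm_apply_apply (D.stGen F r t))
  exact ⟨_, (full_xG D F).map_injective _ he h.inj, he⟩

theorem card_semisimple_classes (h : TorInj D k) (hc : Function.Injective (ChevM.cm D (F := F))) (p : ℕ) [Fact p.Prime]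
    [CharP F p] : Nat.card {c : ConjClasses (D.group F) // ∃ g, ConjClasses.mk g = c ∧ (orderOf g).Coprime p} =
      Nat.card F ^ D.rank := by
  have := Fintype.ofFinite F
  obtain ⟨φ, hφ⟩ := exists_frob_closure F
  obtain ⟨j, hj, hj'⟩ := exists_emb_st h hc
  exact (alg_st h p hφ).card_classes h.inj hj fun g =>
    (frob_sm hφ).fixed_iff (full_st D k) Finite.one_lt_card (full_xG D F) hj' rfl h.inj

end finite

end Cfsg.Agent.Chev
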