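import Mathlib
import Cfsg.Agent.Lib.Chev.Semis2
import Cfsg.Agent.Lib.Chev.Poincare

/-! Sylow subgroups for primes not dividing the order of the Weyl group. -/

set_option autoImplicit false
set_option linter.unusedSectionVars false

namespace Cfsg.Agent.Chev
open Cfsg.Lie RSys PreRGD Matrix Cfsg.Agent.Generic

section abstract

theorem dvd_pow_sub_one_iff {q r n : ℕ} : (r : ℤ) ∣ (q : ℤ) ^ n - 1 ↔ orderOf (q : ZMod r) ∣ n := by
  rw [← ZMod.intCast_zmod_eq_zero_iff_dvd, orderOf_dvd_iff_pow_eq_one, ← sub_eq_zero (b := 1)]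
  push_cast; rfl

theorem orderOf_dvd_pred {q r : ℕ} [hr : Fact r.Prime] (hrq : ¬ r ∣ q) : orderOf (q : ZMod r) ∣ r - 1 :=
  orderOf_dvd_of_pow_eq_one (ZMod.pow_card_sub_one_eq_one (by rwa [Ne, ZMod.natCast_eq_zero_iff]))

theorem padic_pow_sub_one {q r : ℕ} [hr : Fact r.Prime] (hq : 1 < q) {e : ℕ} (he : ¬ r ∣ e) :
    padicValInt r ((q : ℤ) ^ e - 1) = if orderOf (q : ZMod r) ∣ e then
      padicValNat r ((Polynomial.cyclotomic (orderOf (q : ZMod r)) ℤ).eval (q : ℤ)).natAbs else 0 := by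
  split_ifs with h
  · obtain ⟨n, rfl⟩ := h
    set d := orderOf (q : ZMod r) with hd
    have hp : Prime (r : ℤ) := Nat.prime_iff_prime_int.1 hr.out
    have hd0 : 0 < d := Nat.pos_of_ne_zero fun e => by simp [e] at he
    have h1 := congrArg (Polynomial.eval (q : ℤ)) (Polynomial.prod_cyclotomic_eq_X_pow_sub_one hd0 ℤ)
    rw [← Nat.cons_self_properDivisors hd0.ne', Finset.prod_cons] at h1
    simp only [Polynomial.eval_mul, Polynomial.eval_prod, Polynomial.eval_sub, Polynomial.eval_pow, Polynomial.eval_X,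
      Polynomial.eval_one] at h1
    have h2 : ¬ (r : ℤ) ∣ ∏ i ∈ d.properDivisors, (Polynomial.cyclotomic i ℤ).eval (q : ℤ) := by
      rw [hp.dvd_finsetProd_iff]
      rintro ⟨i, hi, h⟩
      have := h.trans (Polynomial.eval_dvd (x := (q : ℤ)) (Polynomial.cyclotomic.dvd_X_pow_sub_one i ℤ))
      simp only [Polynomial.eval_sub, Polynomial.eval_pow, Polynomial.eval_X, Polynomial.eval_one,
        dvd_pow_sub_one_iff] at this
      exact (Nat.mem_properDivisors.1 hi).2.not_ge (Nat.le_of_dvd (Nat.pos_of_mem_properDivisors hi) this)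
    have h3 := not_dvd_geom_sum₂ hp (x := (q : ℤ) ^ d) (y := 1) (n := n) (dvd_pow_sub_one_iff.2 dvd_rfl)
      (fun h => hp.not_dvd_one (by simpa using dvd_sub h ((dvd_pow_sub_one_iff (q := q) (n := d)).2 dvd_rfl)))
      (fun h => he (Dvd.dvd.mul_left (by exact_mod_cast h) _))
    have h4 := geom_sum₂_mul ((q : ℤ) ^ d) 1 n
    have h5 : (q : ℤ) ^ d - 1 ≠ 0 := sub_ne_zero.2 (one_lt_pow₀ (by exact_mod_cast hq) hd0.ne').ne'
    rw [one_pow, ← pow_mul, ← h1] at h4
    rw [← h1] at h5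
    rw [← h4, padicValInt.mul (fun h => h3 (by rw [h]; exact dvd_zero _)) h5, padicValInt.mul (left_ne_zero_of_mul h5)
      (right_ne_zero_of_mul h5), padicValInt.eq_zero_of_not_dvd h2, padicValInt.eq_zero_of_not_dvd h3]
    simp [padicValInt]
  · exact padicValInt.eq_zero_of_not_dvd (mt dvd_pow_sub_one_iff.1 h)

theorem padic_list_prod {q r : ℕ} [hr : Fact r.Prime] (hq : 1 < q) {l : List ℕ} (hl : ¬ r ∣ l.prod) :
    (l.map fun e => (q : ℤ) ^ e - 1).prod ≠ 0 ∧ padicValInt r (l.map fun e => (q : ℤ) ^ e - 1).prod =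
      padicValNat r ((Polynomial.cyclotomic (orderOf (q : ZMod r)) ℤ).eval (q : ℤ)).natAbs *
        (l.filter (fun e => orderOf (q : ZMod r) ∣ e)).length := by
  induction l with
  | nil => simp
  | cons e l ih =>
    rw [List.prod_cons, hr.out.dvd_mul, not_or] at hl
    have h1 : (q : ℤ) ^ e - 1 ≠ 0 :=
      sub_ne_zero.2 (one_lt_pow₀ (by exact_mod_cast hq) (by rintro rfl; simp at hl)).ne'
    rw [List.map_cons, List.prod_cons, padicValInt.mul h1 (ih hl.2).1, (ih hl.2).2, padic_pow_sub_one hq hl.1]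
    refine ⟨mul_ne_zero h1 (ih hl.2).1, ?_⟩
    by_cases h : orderOf (q : ZMod r) ∣ e <;> simp [h, mul_add, add_comm]

theorem homocyclic {A : Type*} [CommGroup A] [Finite A] {r v : ℕ} (hr : r.Prime) (h1 : ∀ a : A, a ^ r ^ v = 1)
    (h2 : ∀ a : A, a ^ r = 1 → ∃ b, b ^ r ^ (v - 1) = a) {n : ℕ} (h3 : Nat.card A = r ^ (v * n)) :
    Nonempty (A ≃* (Fin n → Multiplicative (ZMod (r ^ v)))) := by
  classical
  obtain ⟨ι, _, m, hm, ⟨e⟩⟩ := CommGroup.equiv_prod_multiplicative_zmod_of_finite A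
  have h4 : ∀ i, m i = r ^ v := fun i => by
    have h5 : ∀ (a : A) (n : ℕ), (e (a ^ n) i).toAdd = n * (e a i).toAdd := fun a n => by simp
    have h6 := h5 (e.symm (Pi.mulSingle i (.ofAdd 1))) (r ^ v)
    simp only [h1, map_one, Pi.one_apply, toAdd_one, MulEquiv.apply_symm_apply, Pi.mulSingle_eq_same, toAdd_ofAdd,
      mul_one] at h6
    obtain ⟨j, hj, h7⟩ := (Nat.dvd_prime_pow hr).1 ((ZMod.natCast_eq_zero_iff _ _).1 h6.symm)
    obtain ⟨j, rfl⟩ : ∃ i, j = i + 1 := ⟨j - 1, by have := hm i; rcases j with _ | j <;> simp_all⟩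
    obtain ⟨b, hb⟩ := h2 (e.symm (Pi.mulSingle i (.ofAdd (r ^ j : ℕ)))) (by
      rw [← map_pow, ← Pi.mulSingle_pow, ← ofAdd_nsmul, nsmul_eq_mul, ← Nat.cast_mul, ← pow_succ', ← h7]; simp)
    have h8 := h5 b (r ^ (v - 1))
    simp only [hb, MulEquiv.apply_symm_apply, Pi.mulSingle_eq_same, toAdd_ofAdd] at h8
    by_contra h9
    rw [(ZMod.natCast_eq_zero_iff (r ^ (v - 1)) _).2 (h7 ▸ pow_dvd_pow _ (by
      have : j + 1 ≠ v := fun e => h9 (e ▸ h7); omega)), zero_mul, ZMod.natCast_eq_zero_iff, h7,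
      Nat.pow_dvd_pow_iff_le_right hr.one_lt] at h8
    omega
  obtain rfl : m = fun _ => r ^ v := funext h4
  rcases Nat.eq_zero_or_pos v with rfl | hv
  · have : Subsingleton A := ⟨fun a b => by simpa using (h1 a).trans (h1 b).symm⟩
    have : Subsingleton (ZMod (r ^ 0)) := by rw [pow_zero]; infer_instance
    have : Unique A := uniqueOfSubsingleton 1
    have : Unique (Fin n → Multiplicative (ZMod (r ^ 0))) := uniqueOfSubsingleton 1
    exact ⟨MulEquiv.ofUnique⟩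
  · rw [Nat.card_congr e.toEquiv] at h3
    simp only [Nat.card_pi, Nat.card_congr Multiplicative.toAdd, Nat.card_zmod, Finset.prod_const, Finset.card_univ, ← pow_mul,
      Nat.pow_right_inj hr.one_lt, Nat.mul_right_inj hv.ne'] at h3
    exact ⟨e.trans (MulEquiv.arrowCongr (Fintype.equivFinOfCardEq h3) (MulEquiv.refl _))⟩

theorem exists_fixed_of_card {G Y : Type*} [Group G] [MulAction G Y] {r : ℕ} [Fact r.Prime] {P : Subgroup G}
    (hP : IsPGroup r P) {S : Set Y} (hS : ∀ s ∈ P, ∀ y ∈ S, s • y ∈ S) (hc : ¬ r ∣ Nat.card S) :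
    ∃ y ∈ S, ∀ s ∈ P, s • y = y := by
  let X : SubMulAction P Y := ⟨S, fun s y hy => hS s s.2 y hy⟩
  obtain ⟨y, hy⟩ := hP.nonempty_fixed_point_of_prime_not_dvd_card X hc
  exact ⟨y, y.2, fun s hs => congrArg Subtype.val (hy ⟨s, hs⟩)⟩

theorem exists_root_TA {k : Type*} [Field k] [IsAlgClosed k] {I : Type*} [Fintype I] [DecidableEq I]
    {A : Matrix I I ℤ} {n : ℕ} (hA : A ^ n = 1) {q m m' : ℕ} (hm : 0 < m) (hm' : 0 < m') (hn : n.Coprime (m * m'))
    (hn0 : 0 < n) (hq : q ^ n ≡ 1 [MOD m * m']) {a : I → kˣ} (ha : a ∈ TA kˣ A q) (h : a ^ m = 1) :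
    ∃ b ∈ TA kˣ A q, b ^ m' = a := by
  have h1 : ∀ i, ∃ c : kˣ, c ^ m' = a i := fun i => by
    obtain ⟨c, hc⟩ := IsAlgClosed.exists_pow_nat_eq (a i : k) hm'
    exact ⟨Units.mk0 c (by rintro rfl; exact (a i).ne_zero (by rw [← hc, zero_pow hm'.ne'])), Units.ext hc⟩
  choose c hc using h1
  replace hc : c ^ m' = a := funext hc
  let ψ : (I → kˣ) →* (I → kˣ) := (mp (A ^ (n - 1))).comp (powMonoidHom q)
  have h2 : ∀ b, ψ b = b ↔ b ∈ TA kˣ A q := fun b => by
    have e1 : A * A ^ (n - 1) = 1 := by rw [← pow_succ', Nat.sub_add_cancel hn0, hA]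
    have e2 : A ^ (n - 1) * A = 1 := by rw [← pow_succ, Nat.sub_add_cancel hn0, hA]
    refine ⟨fun h => mem_TA.2 ?_, fun h => ?_⟩
    · rw [← mp_one (b ^ q), ← e1, mp_mul]; exact congrArg _ h
    · change mp _ (b ^ q) = b
      rw [mem_TA.1 h, ← mp_mul, e2, mp_one]
  have h3 : ∀ i b, ψ^[i] b = mp (A ^ ((n - 1) * i)) (b ^ q ^ i) := fun i b => by
    induction i with
    | zero => simp [mp_one]
    | succ i ih =>
      rw [Function.iterate_succ_apply', ih]
      change mp _ (_ ^ q) = _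
      rw [← map_pow, ← mp_mul, ← pow_add, ← pow_mul, ← pow_succ, mul_add, mul_one, add_comm]
  have h4 : c ^ (m * m') = 1 := by rw [mul_comm, pow_mul, hc, h]
  have h5 : ψ^[n] c = c := by
    rw [h3, mul_comm, pow_mul, hA, one_pow, mp_one, pow_eq_pow_mod _ h4, hq, ← pow_eq_pow_mod _ h4, pow_one]
  have h6 : ψ (∏ i ∈ Finset.range n, ψ^[i] c) = ∏ i ∈ Finset.range n, ψ^[i] c := by
    have := (Finset.prod_range_succ' (fun i => ψ^[i] c) n).symm.trans (Finset.prod_range_succ _ _)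
    simpa [h5, Function.iterate_succ_apply', map_prod] using this
  obtain ⟨j, hj⟩ := Nat.exists_mul_mod_eq_of_coprime 1 (hn.coprime_dvd_right (dvd_mul_right _ _)) hm.ne'
  refine ⟨(∏ i ∈ Finset.range n, ψ^[i] c) ^ j, pow_mem ((h2 _).1 h6) _, ?_⟩
  rw [pow_right_comm, ← Finset.prod_pow, Finset.prod_congr rfl fun i _ => show ψ^[i] c ^ m' = a by
    rw [← itr_apply, ← map_pow, hc, itr_apply, Function.iterate_fixed ((h2 a).2 ha)], Finset.prod_const,
    Finset.card_range, ← pow_mul, pow_eq_pow_mod _ h, hj.2, ← pow_eq_pow_mod _ h, pow_one]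

end abstract

variable {D : ChevalleyDatum} [Tab D] {K : Type*} [Field K] {G : Type*} [Group G] {x : ℕ → K → G}

namespace Full
variable (hx : Full D x) (p : ℕ) [hp : Fact p.Prime] [CharP K p] {q : ℕ} (hq : 1 < q) (hpq : p ∣ q) (hk : LocFin K q)
  {σ : G →* G} (h : Frob D x q σ) {r : ℕ} [hr : Fact r.Prime] (hrq : ¬ r ∣ q) {P : Subgroup G} [Finite P]
  (hP : IsPGroup r P)
include hq hpq hk h hrq hP

theorem exists_conj_le_B [IsAlgClosed K] (hW : ¬ r ∣ Nat.card (rs D).W) : ∃ g, ∀ s ∈ P, g⁻¹ * s * g ∈ hx.P.B := by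
  classical
  obtain ⟨j, hj, hj'⟩ := h.periodic_finite hx hk (S := P) (Set.toFinite _)
  have hj0 : 0 < j * r.totient := Nat.mul_pos hj (Nat.totient_pos.2 hr.out.pos)
  have h1 := h.itr (j * r.totient)
  have h2 : 1 < q ^ (j * r.totient) := Nat.one_lt_pow hj0.ne' hq
  have hQ : q ^ (j * r.totient) ≡ 1 [MOD r] := by
    simpa only [one_pow, ← pow_mul, mul_comm] using
      (Nat.ModEq.pow_totient ((Nat.Prime.coprime_iff_not_dvd hr.out).2 hrq).symm).pow j
  have hB : ∀ b ∈ hx.P.B, itr σ (j * r.totient) b ∈ hx.P.B := fun _ => h1.map_mem_B hx h2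
  obtain ⟨y, -, hy⟩ := exists_fixed_of_card hP (S := {y : G ⧸ hx.P.B | hx.tor 1 • y = y ∧ qm hB y = y})
    (fun s hs y hy => ⟨by simp, by
      rw [qm_smul, hy.2, itr_apply, Function.iterate_mul, Function.iterate_fixed (hj' s hs)]⟩) (by
    erw [hx.card_fixed_cosets p h2 (hpq.trans (dvd_pow_self q hj0.ne')) h1 hB 1]
    refine fun e => hW ((Nat.ModEq.dvd_iff ?_ dvd_rfl).1 e)
    rw [Nat.card_eq_fintype_card, ← Finset.card_univ, Finset.card_eq_sum_ones]
    refine Nat.ModEq.sum fun w _ => ?_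
    exact (Nat.ModEq.prod (g := fun _ => 1) fun r _ => by split_ifs; exacts [hQ, rfl]).trans (by simp [Nat.ModEq]))
  induction y using QuotientGroup.induction_on with
  | H g => exact ⟨g, fun s hs => by simpa [mul_assoc] using QuotientGroup.eq.1 (hy s hs).symm⟩

theorem exists_conj_le_H_of_le (hB : P ≤ hx.P.B) : ∃ g, ∀ s ∈ P, g⁻¹ * s * g ∈ hx.P.H := by
  choose u hu c hc e using fun s : P => hx.P.mem_B_iff.1 (hB s.2)
  obtain ⟨j, hj, hj'⟩ := h.periodic_finite hx hk (S := P ∪ Set.range u) ((Set.toFinite _).union (Set.finite_range _))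
  let U' := hx.P.U ⊓ (itr σ j).eqLocus (MonoidHom.id G)
  have : Finite U' := ((h.itr j).finite_fixed hx (Nat.one_lt_pow hj.ne' hq)).subset fun g hg => hg.2
  obtain ⟨e₀, he⟩ := hx.pow_eq_one_of_mem_U p
  obtain ⟨n, hn⟩ := IsPGroup.iff_card.1 (show IsPGroup p U' from fun v => ⟨e₀, Subtype.ext (he v v.2.1)⟩)
  obtain ⟨_, ⟨v, -, rfl⟩, hy⟩ := exists_fixed_of_card hP (S := ((↑) : G → G ⧸ hx.P.H) '' U') (by
    rintro s hs _ ⟨v, hv, rfl⟩
    refine ⟨s * v * s⁻¹ * u ⟨s, hs⟩, ⟨mul_mem (B_conj_U (hB hs) hv.1) (hu _), ?_⟩, QuotientGroup.eq.2 ?_⟩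
    · have h4 : itr σ j v = v := hv.2
      have h5 : itr σ j s = s := (itr_apply ..).trans (hj' _ (Or.inl hs))
      have h6 : itr σ j (u ⟨s, hs⟩) = u ⟨s, hs⟩ := (itr_apply ..).trans (hj' _ (Or.inr ⟨_, rfl⟩))
      change itr σ j _ = _
      rw [map_mul, map_mul, map_mul, map_inv, h4, h5, h6]; rfl
    · convert hc ⟨s, hs⟩ using 1
      simp only [smul_eq_mul]
      rw [eq_comm, ← mul_right_inj (u ⟨s, hs⟩), ← e]; group) (by
    rw [Nat.card_image_of_injOn fun a ha b hb e => by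
      exact inv_mul_eq_one.1 (hx.nd.eq_one_of_mem_U_H (mul_mem (inv_mem ha.1) hb.1) (QuotientGroup.eq.1 e))]
    erw [hn]
    exact fun e => hrq (((Nat.prime_dvd_prime_iff_eq hr.out hp.out).1 (hr.out.dvd_of_dvd_pow e)) ▸ hpq))
  exact ⟨v, fun s hs => by simpa [mul_assoc] using QuotientGroup.eq.1 (hy s hs).symm⟩

theorem exists_conj_le_H [IsAlgClosed K] (hW : ¬ r ∣ Nat.card (rs D).W) : ∃ g, ∀ s ∈ P, g⁻¹ * s * g ∈ hx.P.H := by
  obtain ⟨g, hg⟩ := hx.exists_conj_le_B p hq hpq hk h hrq hP hW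
  have : Finite (P.map (MulAut.conj g⁻¹).toMonoidHom) := Finite.Set.finite_image _ _
  obtain ⟨v, hv⟩ := hx.exists_conj_le_H_of_le p hq hpq hk h hrq (hP.map (MulAut.conj g⁻¹).toMonoidHom) (by
    rintro _ ⟨s, hs, rfl⟩; simpa using hg s hs)
  exact ⟨g * v, fun s hs => by simpa [mul_assoc] using hv _ ⟨s, hs, rfl⟩⟩

end Full

theorem sylow_homocyclic {F : Type*} [Field F] [Fintype F] {dg : List ℕ} (hD : Degrees D dg) {d : ℕ} (hd : ExpC D d)
    (hdW : d ∣ dg.prod) {r : ℕ} [hr : Fact r.Prime] (hrq : ¬ r ∣ Nat.card F) (hrW : ¬ r ∣ dg.prod)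
    (P : Sylow r (D.group F)) : Nonempty ((P : Subgroup (D.group F)) ≃*
      (Fin (dg.filter (fun e => orderOf (Nat.card F : ZMod r) ∣ e)).length → Multiplicative (ZMod (r ^ padicValNat r
        ((Polynomial.cyclotomic (orderOf (Nat.card F : ZMod r)) ℤ).eval (Nat.card F : ℤ)).natAbs)))) := by
  let k := AlgebraicClosure F
  obtain ⟨φ, hφ⟩ := exists_frob_closure F
  obtain ⟨p, hp⟩ := CharP.exists F
  have := Fact.mk (CharP.char_is_prime F p)
  have hpq : p ∣ Nat.card F := by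
    rw [← CharP.cast_eq_zero_iff F, Nat.card_eq_fintype_card, FiniteField.cast_card_eq_zero]
  have hq : 1 < Nat.card F := Finite.one_lt_card
  have h1 := padic_list_prod hq hrW
  have h2 := hD.card_group F
  have hn : ¬ r ∣ orderOf (Nat.card F : ZMod r) * dg.prod := by
    rw [hr.out.dvd_mul, not_or]
    have := hr.out.two_le
    exact ⟨fun h => by have := Nat.le_of_dvd (by omega) (h.trans (orderOf_dvd_pred hrq)); omega, hrW⟩
  have h3 := padic_pow_sub_one hq hn
  rw [if_pos (dvd_mul_right _ _)] at h3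
  obtain ⟨n, hn'⟩ : ∃ n, orderOf (Nat.card F : ZMod r) * dg.prod = n := ⟨_, rfl⟩
  rw [hn'] at hn h3
  generalize padicValNat r _ = v at *
  generalize List.length _ = m at *
  have hf := frob_fm (D := D) hφ
  have hdr : ∀ i, d.Coprime (r ^ i) := fun i =>
    ((Nat.Prime.coprime_iff_not_dvd hr.out).2 fun h => hrW (h.trans hdW)).symm.pow_right i
  have hG : padicValNat r (Nat.card (D.group F)) = v * m := by
    have h4 : ¬ r ∣ Nat.card (ChevM.cm D (F := F)).ker := fun h => by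
      obtain ⟨a, ha⟩ := exists_prime_orderOf_dvd_card' r h
      exact hrW ((ha ▸ orderOf_dvd_of_pow_eq_one (Subtype.ext (hd.pow_eq_one a.2))).trans hdW)
    have h5 := congrArg (padicValInt r) h2
    rwa [padicValInt.mul (by simp [Nat.card_pos.ne']) (Nat.cast_ne_zero.2 Nat.card_pos.ne'),
      padicValInt.mul (by simp [Nat.card_pos.ne']) h1.1, h1.2, ← Nat.cast_pow, padicValInt.of_nat, padicValInt.of_nat,
      padicValInt.of_nat, padicValNat.eq_zero_of_not_dvd h4,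
      padicValNat.eq_zero_of_not_dvd fun h => hrq (hr.out.dvd_of_dvd_pow h), zero_add, add_zero] at h5
  have hP : ∀ P : Sylow r (D.group F), Nat.card P = r ^ (v * m) := fun P => by
    rw [P.card_eq_multiplicity, Nat.factorization_def _ hr.out, hG]
  set q := Nat.card F with hq'
  set j := ChevM.fm D (algebraMap F k)
  set σ := ChevM.fm D φ
  have hj : Function.Injective j := ChevM.fm_injective _
  have hx := full_xG D k
  have : Finite ((P : Subgroup (D.group F)).map j) := Finite.Set.finite_image _ _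
  obtain ⟨g, hg⟩ := hx.exists_conj_le_H p hq hpq (locFin_of_algebraic F k) hf hrq (P.2.map j) (hD.card ▸ hrW)
  obtain ⟨w, hw, hw'⟩ := hx.exists_W_conj ((σ g)⁻¹ * g)
  have hn0 : 0 < n := Nat.pos_of_ne_zero fun e => hn (e ▸ dvd_zero r)
  have hA : (rs D).cw w ^ n = 1 := by
    rw [← cw_pow ((rs D).W_le_Aut hw), ← hn', mul_comm, pow_mul, ← hD.card, show w ^ Nat.card (rs D).W = 1 from
      congrArg Subtype.val (pow_card_eq_one' (x := (⟨w, hw⟩ : (rs D).W))), one_pow, cw_one]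
  have h4 : ∀ i, r ^ i ∣ q ^ n - 1 ↔ i ≤ v := fun i => by
    have : 1 < q ^ n := Nat.one_lt_pow hn0.ne' hq
    rw [padicValNat_dvd_iff_le (by omega), ← h3, ← padicValInt.of_nat]
    push_cast [this.le]; rfl
  let A := TA kˣ ((rs D).cw w) q ⊓ (powMonoidHom (r ^ v)).ker
  have hA' : ∀ a ∈ TA kˣ ((rs D).cw w) q, ∀ i, a ^ r ^ i = 1 → a ∈ A := fun a ha i h => by
    have h5 : ∀ i, a ^ q ^ i = mp ((rs D).cw w ^ i) a := fun i => by
      induction i with
      | zero => simp [mp_one]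
      | succ i ih => rw [pow_succ, pow_mul, ih, ← map_pow, mem_TA.1 ha, ← mp_mul, pow_succ]
    have h6 : a ^ (q ^ n - 1) = 1 := by
      rw [pow_sub _ (Nat.one_le_pow _ _ (by omega)), h5, hA, mp_one, pow_one, mul_inv_cancel]
    obtain ⟨i, -, e⟩ := (Nat.dvd_prime_pow hr.out).1 (orderOf_dvd_of_pow_eq_one h)
    exact ⟨ha, orderOf_dvd_iff_pow_eq_one.1 (e ▸ pow_dvd_pow _ ((h4 i).1 (e ▸ orderOf_dvd_of_pow_eq_one h6)))⟩
  have hi : ∀ a b i, a ^ r ^ i = 1 → b ^ r ^ i = 1 → hx.tor a = hx.tor b → a = b := fun a b i ha hb e =>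
    mul_inv_eq_one.1 ((pow_eq_one_iff_of_coprime (hdr i)).1 ⟨hd.pow_eq_one (by
      rw [map_mul, map_inv, hx.cm_eq_of_tor_eq e, mul_inv_cancel]), by rw [mul_pow, inv_pow, ha, hb]; simp⟩)
  let f : A →* D.group k := hx.tor.comp A.subtype
  have hf' : Function.Injective f := fun a b e => Subtype.ext (hi _ _ v a.2.2 b.2.2 e)
  have : Finite A := (finite_pow_eq_one (pow_pos hr.out.pos v)).subset fun a ha => ha.2
  have h5 : Nat.card A ≤ Nat.card P := by
    obtain ⟨z, -, hz⟩ := lang_xG hq hφ (hx.P.nW w)⁻¹ trivial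
    have h6 : ∀ a : A, z * f a * z⁻¹ ∈ j.range := fun a => by
      have h7 := hf.pow_det_mem hx hq (full_xG D F) (fun r t => ChevM.fm_xG (algebraMap F k) r t) rfl
        (g := z * f a * z⁻¹)
        (conj_fixed_iff.2 (hz ▸ (hf.tw_tor_iff hx hq hw a).2 (congrArg _ a.2.1)))
      obtain ⟨i, -, hi⟩ := Nat.exists_mul_mod_eq_of_coprime 1 (((hdr v).pow_left D.rank).coprime_dvd_left hd.fund_dvd)
        (pow_pos hr.out.pos v).ne'
      have h8 : (z * f a * z⁻¹) ^ r ^ v = 1 := by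
        rw [conj_pow, ← map_pow, show a ^ r ^ v = 1 from Subtype.ext a.2.2]; simp
      have := pow_mem h7 i
      rw [fund] at hi
      rwa [← pow_mul, pow_eq_pow_mod _ h8, hi, ← pow_eq_pow_mod _ h8, pow_one] at this
    let f' : A →* D.group F := ((MonoidHom.ofInjective hj).symm.toMonoidHom.comp
      (((MulAut.conj z).toMonoidHom.comp f).codRestrict j.range h6))
    have h7 : Function.Injective f' := (MonoidHom.ofInjective hj).symm.injective.comp fun a b e =>
      hf' ((MulAut.conj z).injective (congrArg Subtype.val e))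
    obtain ⟨Q, hQ⟩ := (show IsPGroup r f'.range from (show IsPGroup r A from fun a =>
      ⟨v, Subtype.ext a.2.2⟩).of_surjective _ f'.rangeRestrict_surjective).exists_le_sylow
    rw [hP, ← hP Q, Nat.card_congr (MonoidHom.ofInjective h7).toEquiv]
    exact Subgroup.card_le_of_le hQ
  let j' := (MulAut.conj g⁻¹).toMonoidHom.comp j
  have hj' : Function.Injective j' := (MulAut.conj g⁻¹).injective.comp hj
  have h6 : (P : Subgroup (D.group F)).map j' = f.range := by
    have : Finite f.range := Finite.of_surjective _ f.rangeRestrict_surjective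
    refine Subgroup.eq_of_le_of_card_ge ?_ (by
      rwa [Subgroup.card_map_of_injective hj', ← Nat.card_congr (MonoidHom.ofInjective hf').toEquiv])
    rintro _ ⟨s, hs, rfl⟩
    obtain ⟨a, ha⟩ := hx.mem_H_iff.1 (hg _ ⟨s, hs, rfl⟩)
    obtain ⟨i, hi'⟩ := P.2 ⟨s, hs⟩
    have h7 : hx.tor a ^ r ^ i = 1 := by
      have := conj_pow (a := g⁻¹) (b := j s) (i := r ^ i)
      rw [inv_inv, ← map_pow, show s ^ r ^ i = 1 from congrArg Subtype.val hi'] at this
      simpa [ha] using this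
    obtain ⟨e, -, he⟩ := Nat.exists_mul_mod_eq_of_coprime 1 (hdr i) (pow_pos hr.out.pos i).ne'
    have h8 : hx.tor (a ^ (d * e)) = hx.tor a := by
      rw [map_pow, pow_eq_pow_mod _ h7, he, ← pow_eq_pow_mod _ h7, pow_one]
    have h9 : (a ^ (d * e)) ^ r ^ i = 1 := by
      rw [pow_right_comm, pow_mul, hd.pow_eq_one (by
        rw [hx.cm_eq_of_tor_eq (b := 1) (by rw [map_pow, h7, map_one]), map_one]), one_pow]
    refine ⟨⟨_, hA' _ (mem_TA.2 (hi _ _ i ?_ ?_ (hw' _ _ ?_).symm)) i h9⟩,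
      by simp only [f, j']; simp [h8, ha]⟩
    · rw [pow_right_comm, h9, one_pow]
    · rw [← map_pow, h9, map_one]
    · rw [← hf.map_tor hx hq, h8, ha, map_mul, map_mul, map_inv,
        show σ (j s) = j s from hf.map_fixed (full_xG D F) (fun r t => ChevM.fm_xG _ r t) rfl s]
      group
  have e : (P : Subgroup (D.group F)) ≃* A := (((P : Subgroup (D.group F)).equivMapOfInjective j' hj').trans
    (MulEquiv.subgroupCongr h6)).trans (MonoidHom.ofInjective hf').symm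
  obtain ⟨e'⟩ := homocyclic (A := A) (v := v) hr.out (fun a => Subtype.ext a.2.2) (fun a ha => by
    rcases Nat.eq_zero_or_pos v with rfl | hv
    · exact ⟨a, by simp⟩
    have h7 : r * r ^ (v - 1) = r ^ v := by rw [← pow_succ', Nat.sub_add_cancel hv]
    obtain ⟨b, hb, e⟩ := exists_root_TA hA hr.out.pos (pow_pos hr.out.pos (v - 1))
      (h7 ▸ ((Nat.Prime.coprime_iff_not_dvd hr.out).2 hn).symm.pow_right v) hn0
      (h7 ▸ ((Nat.modEq_iff_dvd' (Nat.one_le_pow _ _ (by omega))).2 ((h4 v).2 le_rfl)).symm) a.2.1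
      (congrArg Subtype.val ha)
    exact ⟨⟨b, hA' b hb v (by rw [← h7, mul_comm, pow_mul, e]; exact congrArg Subtype.val ha)⟩, Subtype.ext e⟩)
    (by rw [← Nat.card_congr e.toEquiv, hP])
  exact ⟨e.trans e'⟩

end Cfsg.Agent.Chev
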