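import Mathlib
import Cfsg.Agent.Lib.Chev.Tori
import Cfsg.Agent.Lib.Tw.Inst

/-! Twisted groups as fixed points over the algebraic closure; a self-centralising torus of the triality group. -/

set_option autoImplicit false
set_option linter.unusedSectionVars false

namespace Cfsg.Agent.Chev
open Cfsg.Lie RSys PreRGD Matrix Cfsg.Agent.Generic
open ChevM (KeyOK fl reflB)

theorem exists_fixed_mod {M : Type*} [CommGroup M] {F G : M →* M} {Z : Subgroup M} [Finite Z] (hF : ∀ z ∈ Z, F z ∈ Z)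
    (hG : ∀ z ∈ Z, G z = z) (h1 : ∀ z ∈ Z, F z = z → z = 1) {a : M} (ha : F a * (G a)⁻¹ ∈ Z) :
    ∃ z ∈ Z, F (a * z) = G (a * z) := by
  let L : Z →* Z := MonoidHom.mk' (fun z => ⟨z * (F z)⁻¹, mul_mem z.2 (inv_mem (hF _ z.2))⟩) fun a b =>
    Subtype.ext (by simp [mul_mul_mul_comm, mul_comm])
  have hL : Function.Injective L := (injective_iff_map_eq_one _).2 fun z hz =>
    Subtype.ext (h1 _ z.2 (mul_inv_eq_one.1 (congrArg Subtype.val hz)).symm)
  obtain ⟨z, hz⟩ := Finite.surjective_of_injective hL ⟨_, ha⟩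
  have hz : z * (F z)⁻¹ = F a * (G a)⁻¹ := congrArg Subtype.val hz
  refine ⟨z, z.2, ?_⟩
  rw [map_mul, map_mul, hG _ z.2, ← mul_inv_cancel_right (F a) (G a), mul_right_comm (F a), ← hz, mul_right_comm,
    inv_mul_cancel_right, mul_comm]

variable {D : ChevalleyDatum} [Tab D] {K : Type*} [Field K] {G : Type*} [Group G] {x : ℕ → K → G} {T : TwData}

theorem mp_cw_of_cm {a : Fin D.rank → Kˣ} (ha : ChevM.cm D a = 1) {w : Equiv.Perm (Fin D.nroots)} (hw : w ∈ (rs D).W) :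
    mp ((rs D).cw w) a = a := by
  obtain ⟨l, rfl⟩ := (rs D).mem_W_iff.1 hw
  induction l with
  | nil => rw [wordW_nil, cw_one, mp_one]
  | cons i l ih =>
    rw [wordW_cons, cw_mul ((rs D).sref_mem_Aut i) ((rs D).wordW_mem_Aut l), mp_mul, ih ((rs D).wordW_mem_W l)]
    ext1 j
    have : ∀ l, (rs D).cw ((rs D).sref i) j l = (Pi.single l 1 : _ → ℤ) j - (rs D).C l i * (Pi.single i 1 : _ → ℤ) j :=
      fun l => by rw [cw, of_apply, ← refl_simple, cc_refl, pair_simple_simple, cc_simple, cc_simple]; rfl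
    simp only [mp_apply, this, _root_.zpow_sub, _root_.zpow_mul, Finset.prod_mul_distrib, Finset.prod_inv_distrib,
      Finset.prod_zpow]
    rw [show ∏ l, a l ^ (rs D).C l i = 1 from congrFun ha i, Finset.prod_eq_single j (fun l _ h => by simp [h.symm])
      (by simp)]
    simp

theorem finite_ker_cm : Finite (ChevM.cm D (F := K)).ker :=
  (finite_pow_eq_one (k := K) (Int.natAbs_pos.2 (det_C_ne_zero (R := rs D))) (I := Fin D.rank)).subset fun a ha => by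
    have := zpow_det_eq_one (A := (Matrix.of (rs D).C)ᵀ) ha
    rwa [det_transpose, ← pow_natAbs_eq_one] at this

namespace IsTw
variable {φ : K →+* K} {σ : G →* G} (h : IsTw D T x φ σ) (hx : Full D x)

theorem map_tor (a : Fin D.rank → Kˣ) : σ (hx.tor a) = hx.tor (h.σT a) := by
  induction a using pi_induction with
  | h1 => simp
  | hm a b ha hb => simp [ha, hb]
  | hs i v => rw [σT_single, hx.tor_single, hx.tor_single, h.σ_hElt_simple]; rfl

theorem tw_tor_iff {w : Equiv.Perm (Fin D.nroots)} (hw : w ∈ (rs D).W) (a : Fin D.rank → Kˣ) :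
    Chev.tw (hx.P.nW w)⁻¹ σ (hx.tor a) = hx.tor a ↔ hx.tor (h.σT a) = hx.tor (mp ((rs D).cw w) a) := by
  rw [tw_apply, h.map_tor hx, ← hx.nW_conj_tor hw, inv_inv]
  constructor
  · intro e; rw [← e]; group
  · intro e; rw [e]; group

include hx in
theorem fixed_iff (ok : h.fold.OK) {F : Type*} [Field F] [Finite F] {G₀ : Type*} [Group G₀] {x₀ : ℕ → F → G₀}
    (hx₀ : Full D x₀) {φ₀ : F →+* F} {σ₀ : G₀ →* G₀} (h₀ : IsTw D T x₀ φ₀ σ₀) {ι : F →+* K} {f : G₀ →* G}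
    (hf : ∀ (r : Fin D.nroots) t, f (x₀ r t) = x r (ι t)) (hi : Function.Injective f) (hι : ∀ t, ι (φ₀ t) = φ (ι t))
    {σ' : G →* G} (hσ : Frob D x (Nat.card F) σ') {m : ℕ} (hm : ∀ g, σ^[m] g = σ' g) {Γ : Type*} [Group Γ]
    {j : Γ →* G₀} (E : h₀.fold.Emb j) (hH : ∀ a, σ (hx.tor a) = hx.tor a → hx.tor a ∈ (f.comp j).range) {g : G} :
    σ g = g ↔ g ∈ (f.comp j).range := by
  have e : ∀ g, f (σ₀ g) = σ (f g) := fun g => DFunLike.congr_fun (hx₀.hom_ext (f := f.comp σ₀) (g := σ.comp f)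
    fun r t => by
      rw [MonoidHom.comp_apply, MonoidHom.comp_apply, hf, h.σ_x, h₀.σ_x, hf]; simp [τ_apply, hι]) g
  refine ⟨fun hg => ?_, by rintro ⟨g, rfl⟩; rw [MonoidHom.comp_apply, ← e]; exact congrArg f (E.fix g)⟩
  obtain ⟨a, ha, c, hc, h1, rfl⟩ := ok.exists_gen_mul_H (hx.mem_full g) hg
  obtain ⟨b, rfl⟩ := hx.mem_H_iff.1 hc
  refine mul_mem ((Subgroup.closure_le _).2 ?_ ha) (hH b h1)
  have key : ∀ S, (rs D).HalfSpace S → (rs D).Closed S → ∀ u ∈ hx.P.US S, σ u = u →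
      ∃ v ∈ hx₀.P.US S, σ₀ v = v ∧ f v = u := fun S h1 h2 u hu h3 => by
    classical
    obtain ⟨t, rfl⟩ := hx.exists_pS h1 h2 hu
    have h4 := hm (hx.pS S t)
    rw [Function.iterate_fixed h3, hσ.map_pS hx Finite.one_lt_card] at h4
    have h5 : ∀ r, ∃ s, r ∈ S → ι s = t r := fun r => by
      by_cases hr : r ∈ S
      · exact (exists_algebraMap_eq ι (hx.pS_unique h1 h4 r hr).symm).imp fun _ h _ => h
      · exact ⟨0, fun h => (hr h).elim⟩
    choose s hs using h5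
    have h6 : f (hx₀.pS S s) = hx.pS S t := by rw [hx₀.map_pS hx hf, hx.pS_congr hs]
    exact ⟨_, hx₀.pS_mem _ _, hi (by rw [e, h6, h3]), h6⟩
  rintro u ⟨h2, i, h3 | h3⟩
  · obtain ⟨v, h4, h5, rfl⟩ := key _ halfSpace_pos closed_pos u (hx.P.UL_le_U _ h3) h2
    obtain ⟨v, rfl⟩ := E.exists_U h4 h5
    exact ⟨v, rfl⟩
  · obtain ⟨v, h4, h5, rfl⟩ := key _ halfSpace_neg closed_neg u (VL_le_V _ h3) h2
    obtain ⟨v, rfl⟩ := E.exists_V h4 h5
    exact ⟨v, rfl⟩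

theorem σT_eq_iff (h0 : T.p = 0) {q : ℕ} (hφ : ∀ t, φ t = t ^ q) (A : Matrix (Fin D.rank) (Fin D.rank) ℤ)
    (a : Fin D.rank → Kˣ) : h.σT a = mp A a ↔ a ∈ TA Kˣ (A.submatrix h.tw.νp id) q := by
  rw [mem_TA, funext_iff, funext_iff, h.tw.νp.forall_congr_right.symm]
  refine forall_congr' fun i => ?_
  rw [Units.ext_iff, σT_apply, τ_apply, h.tw.e_of_zero h0, pow_one, hφ, Units.ext_iff]
  simp [mp_apply]

end IsTw

/-- Check that a twisted torus is cyclic. -/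
def cycB' (D : ChevalleyDatum) (c : TabCert) (ν : ℕ → ℕ) (l : List ℕ) (f : List ℤ) (P Q : List (List ℤ)) : Bool :=
  l.all (fun r => decide (r < D.nroots)) && allLt D.rank fun i => allLt D.rank fun j =>
    decide (sumLt D.rank (fun m => en P i m * en Q m j) = if i = j then 1 else 0) &&
    decide (sumLt D.rank (fun m => en P i m * c.cor (wB D c l (D.simple j)) (ν m)) =
      sumLt D.rank fun m => (if i + 1 = D.rank then -f.getD m 0 else if m = i + 1 then 1 else 0) * en P m j)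

theorem cyc' {c : TabCert} (hc : KeyOK D c) (hT : Twist D T) {l : List ℕ} {f : List ℤ} {P Q : List (List ℤ)}
    (h : cycB' D c T.ν l f P Q = true) : mx D.rank P * mx D.rank Q = 1 ∧
      mx D.rank P * ((rs D).cw (wR D l)).submatrix hT.νp id = cmp D.rank (fun i => f.getD i 0) * mx D.rank P := by
  simp only [cycB', Bool.and_eq_true, allLt_iff, decide_eq_true_eq, List.all_eq_true, sumLt_eq_fin] at h
  constructor <;> ext i j
  · rw [mul_apply, one_apply]; simpa [Fin.ext_iff, mx] using (h.2 i i.2 j j.2).1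
  · simp only [mul_apply, submatrix_apply, hc.cw_wR h.1]; exact (h.2 i i.2 j j.2).2

section D4
variable {φ : K →+* K} {σ : G →* G} (h : IsTw chevD4 twD4a x φ σ)

theorem νp_D4 : h.tw.νp ⟨0, by decide⟩ = ⟨2, by decide⟩ ∧ h.tw.νp ⟨1, by decide⟩ = ⟨1, by decide⟩ ∧
    h.tw.νp ⟨2, by decide⟩ = ⟨3, by decide⟩ ∧ h.tw.νp ⟨3, by decide⟩ = ⟨0, by decide⟩ := ⟨rfl, rfl, rfl, rfl⟩

theorem center_fixed_D4 {z : Fin chevD4.rank → Kˣ} (h1 : ChevM.cm chevD4 z = 1) (h2 : h.σT z = z) : z = 1 := by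
  have h3 : ∀ i, z i ^ 2 = 1 := congrFun (expC_D4.pow_eq_one h1)
  have h4 : ∀ i, z (h.tw.νp i) = z i := fun i => Units.ext (by
    rw [← h2, h.σT_apply, h2, h.τ_eq per_D4]
    rcases sq_eq_one_iff.1 (show (z i : K) ^ 2 = 1 by simpa using congrArg Units.val (h3 i)) with e | e <;> simp [e])
  have hC : ∀ i j : Fin 4, (rs chevD4).C i j = !![2, -1, 0, 0; -1, 2, -1, -1; 0, -1, 2, 0; 0, -1, 0, 2] i j := by
    have : ∀ i < 4, ∀ j < 4, certD4.car i (chevD4.simple j) =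
      en [[2, -1, 0, 0], [-1, 2, -1, -1], [0, -1, 2, 0], [0, -1, 0, 2]] i j := by decide +kernel
    have e : ∀ i j : Fin chevD4.rank, (rs chevD4).C i j = certD4.car i (chevD4.simple j) := fun i j => by
      rw [← pair_simple_simple, agree_D4.pair_simple]; rfl
    refine fun i j => (e i j).trans ((this i i.2 j j.2).trans ?_)
    fin_cases i <;> fin_cases j <;> rfl
  have h5 : ∀ j : Fin 4, ∏ i : Fin 4, z i ^ (rs chevD4).C i j = 1 := congrFun h1
  have a0 : z (2 : Fin 4) = z (0 : Fin 4) := h4 (0 : Fin 4)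
  have a1 : z (3 : Fin 4) = z (2 : Fin 4) := h4 (2 : Fin 4)
  have b0 := h5 0
  have b1 := h5 1
  simp only [hC, Fin.prod_univ_four, a1, a0] at b0 b1
  simp [zpow_two, ← sq, h3] at b0 b1
  have c := h3 (0 : Fin 4)
  have c1 : z (1 : Fin 4) = 1 := by rwa [c, one_mul, inv_eq_one] at b0
  have c0 : z (0 : Fin 4) = 1 := by
    rwa [c1, one_pow, mul_one, ← mul_inv, ← sq, c, inv_one, one_mul, inv_eq_one] at b1
  refine funext fun i : Fin 4 => ?_
  fin_cases i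
  exacts [c0, c1, a0.trans c0, a1.trans (a0.trans c0)]

include h in
theorem iter_D4 (hx : Full chevD4 x) {q : ℕ} (hφ : ∀ t, φ t = t ^ q) : Frob chevD4 x (q ^ 3) (itr σ 3) := fun r t => by
  have : ∀ r < 24, twD4a.π^[3] r = r ∧ sgnP twD4a r 3 = 1 := by decide +kernel
  rw [itr_apply, h.iter_eq per_D4, h.tw.ρ_pow_val, (this r r.2).1, (this r r.2).2]
  simp [hφ, ← pow_mul, pow_succ]

end D4

section triality
variable {F : Type*} [Field F] [Fintype F] {q : ℕ}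

local notation "k" => AlgebraicClosure F

theorem fixed_iff_D4 (hF : Nat.card F = q ^ 3) {φ₀ : F →+* F} (hφ₀ : ∀ t, φ₀ t = t ^ q) {φ : k →+* k}
    (hφ : ∀ t, φ t = t ^ q) (g : chevD4.group k) :
    (twOK_D4a k).aut.toMonoidHom.comp (ChevM.fm chevD4 φ) g = g ↔
      g ∈ ((ChevM.fm chevD4 (algebraMap F k)).comp (wordIncl chevD4 (d4Words F q))).range := by
  have h3 : ∀ t, φ₀^[3] t = t := fun t => by
    have := FiniteField.pow_card t
    rw [← Nat.card_eq_fintype_card, hF] at this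
    simpa [hφ₀, ← pow_mul, pow_succ] using this
  have h := isTw_adj (twOK_D4a k) φ
  have h₀ := isTw_adj (twOK_D4a F) φ₀
  have E := emb_twistedD4 φ₀ hφ₀ h3
  refine h.fixed_iff (full_xG _ k) (h.ok per_D4) (full_xG _ F) h₀ (fun r t => ChevM.fm_xG _ r t) (ChevM.fm_injective _)
    (fun t => by simp [hφ₀, hφ]) (hF ▸ iter_D4 h (full_xG _ k) hφ) (fun _ => rfl) E fun a ha => ?_
  have := finite_ker_cm (D := chevD4) (K := k)
  rw [h.map_tor, tor_xG, tor_xG, ← mul_inv_eq_one, ← map_inv, ← map_mul, ChevM.hG_eq_one_iff] at ha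
  obtain ⟨z, hz, e⟩ := exists_fixed_mod (F := h.σT) (G := MonoidHom.id _) (Z := (ChevM.cm chevD4).ker)
    (fun z hz => ChevM.hG_eq_one_iff.1 (by rw [← tor_xG, ← h.map_tor, tor_xG, ChevM.hG_eq_one_iff.2 hz, map_one]))
    (fun _ _ => rfl) (fun z => center_fixed_D4 h) ha
  rw [tor_xG, ← mul_one (ChevM.hG chevD4 a), ← ChevM.hG_eq_one_iff.2 hz, ← map_mul]
  generalize a * z = b at e
  have e1 : ∀ i, (b (h.tw.νp i) : k) = b i ^ q := fun i => by
    rw [← MonoidHom.id_apply _ b, ← e, h.σT_apply, e, h.τ_eq per_D4, hφ]; rfl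
  obtain ⟨c, rfl⟩ := Frob.exists_um_eq (ι := algebraMap F k) hF (a := b) (funext fun i => Units.ext (by
    have : h.tw.νp (h.tw.νp (h.tw.νp i)) = i := by
      have : ∀ i < 4, twD4a.ν (twD4a.ν (twD4a.ν i)) = i := by decide +kernel
      exact Fin.ext (this i i.2)
    conv_rhs => rw [← this, e1, e1, e1]
    simp [← pow_mul, pow_succ]))
  have e2 : ∀ i, (c (h₀.tw.νp i) : F) = φ₀ (c i) := fun i => (algebraMap F k).injective (by
    simpa [hφ₀] using e1 i)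
  have k0 : kr twD4a 3 (chevD4.simple (⟨0, by decide⟩ : Fin chevD4.rank)) = 3 := by decide +kernel
  have k1 : kr twD4a 3 (chevD4.simple (⟨1, by decide⟩ : Fin chevD4.rank)) = 1 := by decide +kernel
  have h4 := h₀.tor_single_mem per_D4 E ⟨0, by decide⟩ (v := c ⟨0, by decide⟩) (mem_Fx.2 (by rw [k0]; exact h3 _))
  have h5 := h₀.tor_single_mem per_D4 E ⟨1, by decide⟩ (v := c ⟨1, by decide⟩)
    (mem_Fx.2 (by rw [k1]; exact (e2 ⟨1, by decide⟩).symm))
  rw [k0] at h4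
  rw [k1] at h5
  obtain ⟨g, hg⟩ := mul_mem h4 h5
  refine ⟨g, (MonoidHom.comp_apply _ _ _).trans ?_⟩
  erw [hg]
  rw [ ← map_mul, ← tor_xG, ← (full_xG _ F).map_tor (full_xG _ k) fun r t => ChevM.fm_xG _ r t]
  congr 2
  rw [dl_three, dl_one, h₀.σT_single, h₀.σT_single, h₀.τ_eq per_D4, h₀.τ_eq per_D4, (νp_D4 h₀).1, (νp_D4 h₀).2.2.1]
  have a0 : (c (2 : Fin 4) : F) = φ₀ (c (0 : Fin 4)) := e2 (0 : Fin 4)
  have a1 : (c (3 : Fin 4) : F) = φ₀ (c (2 : Fin 4)) := e2 (2 : Fin 4)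
  have key : ∀ (c : Fin 4 → Fˣ) (f : Fˣ → Fˣ), c 2 = f (c 0) → c 3 = f (c 2) → Pi.mulSingle 0 (c 0) *
      Pi.mulSingle 2 (f (c 0)) * Pi.mulSingle 3 (f (f (c 0))) * Pi.mulSingle 1 (c 1) = c := fun c f a0 a1 => by
    ext1 i; fin_cases i <;> simp [a0, a1]
  exact key c _ (Units.ext a0) (Units.ext a1)

theorem exists_selfcent_D4 (hq : IsPrimePow q) (hF : Fintype.card F = q ^ 3) :
    ∃ H : Subgroup (twistedD4 F q), IsCyclic H ∧ Nat.card H = (q ^ 3 - 1) * (q + 1) ∧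
      Subgroup.centralizer (H : Set (twistedD4 F q)) = H := by
  obtain ⟨p, _, _, hp, φ₀, hφ₀, -⟩ := exists_frob hq hF
  have hq1 : 1 < q := hq.one_lt
  obtain ⟨φ, hφ⟩ : ∃ φ : k →+* k, ∀ t, φ t = t ^ q := by
    obtain ⟨p', n, hp', -, rfl⟩ := (isPrimePow_nat_iff q).1 hq
    obtain rfl : p = p' := (Nat.prime_dvd_prime_iff_eq Fact.out hp').1 ((Fact.out : p.Prime).dvd_of_dvd_pow hp)
    exact ⟨iterateFrobenius k p n, iterateFrobenius_def p n⟩
  rw [← Nat.card_eq_fintype_card] at hF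
  have h := isTw_adj (twOK_D4a k) φ
  have hn : (((q ^ 3 - 1) * (q + 1) : ℕ) : ℤ) = (q : ℤ) ^ chevD4.rank +
      ∑ i : Fin chevD4.rank, [-1, -1, 0, 1].getD i 0 * (q : ℤ) ^ (i : ℕ) := by
    change _ = _ ^ 4 + ∑ i : Fin 4, _
    simp [Fin.sum_univ_succ, Nat.one_le_pow 3 q (by omega)]; ring
  have hk : (((q ^ 3 - 1) * (q + 1) : ℕ) : k) ≠ 0 := by
    simp [Nat.one_le_pow 3 q (by omega), (CharP.cast_eq_zero_iff k p q).2 hp]
  have hc := cyc' ChevM.keyOK_D4 h.tw (l := [14]) (f := [-1, -1, 0, 1])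
    (P := [[-1, 1, -1, 0], [1, -1, 0, 0], [-1, 1, 0, -1], [0, -1, 0, 1]])
    (Q := [[0, 0, -1, -1], [0, -1, -1, -1], [-1, -1, 0, 0], [0, -1, -1, 0]]) (by decide +kernel)
  obtain ⟨z, hz1, hz2, hz3⟩ := TA_cyclic (by decide) hc.1 hc.2 hn hk
  set a := zh (mx chevD4.rank [[0, 0, -1, -1], [0, -1, -1, -1], [-1, -1, 0, 0], [0, -1, -1, 0]] *ᵥ
    fun i : Fin chevD4.rank => (q : ℤ) ^ (i : ℕ)) z with ha
  have hr : ∀ r, chi chevD4 a r ^ 2 ≠ 1 := fun r e => by
    rw [ha, zh_apply, chi_zpow, agree_D4.cof_mx, ← zpow_natCast, ← _root_.zpow_mul, ← orderOf_dvd_iff_zpow_eq_one, hz1,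
      hn, mul_comm, Finset.mul_sum] at e
    exact not_dvd_of_regB (c := certD4) (f := [-1, -1, 0, 1])
      (Q := [[0, 0, -1, -1], [0, -1, -1, -1], [-1, -1, 0, 0], [0, -1, -1, 0]]) (d := 2) (M := 4) (q₀ := 2) (by decide +kernel) hq1 r
      (by simpa only [mul_assoc] using e)
  have hw := wR_mem (D := chevD4) [14]
  have hT : ∀ b, h.σT b = mp ((rs chevD4).cw (wR chevD4 [14])) b ↔ b ∈ Subgroup.zpowers a := fun b =>
    hz3 ▸ h.σT_eq_iff rfl hφ _ b
  have := finite_ker_cm (D := chevD4) (K := k)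
  have hm : (full_xG chevD4 k).tor a ∈ Subgroup.zpowers ((full_xG chevD4 k).tor a) := Subgroup.mem_zpowers _
  obtain ⟨H, h3, ⟨e⟩⟩ := exists_selfcent (full_xG _ k) (full_xG _ k) (π := MonoidHom.id _) (fun _ _ => rfl)
    (langAll_xG.twist (full_xG _ k) (Nat.one_lt_pow (by norm_num) hq1) (hF ▸ locFin_of_algebraic F k)
      (iter_D4 h (full_xG _ k) hφ) (fun _ _ => trivial) (fun _ _ => rfl) fun _ _ => trivial)
    (j := (ChevM.fm chevD4 (algebraMap F k)).comp (wordIncl chevD4 (d4Words F q)))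
    ((ChevM.fm_injective _).comp (Subgroup.inclusion_injective _))
    (fun g => by rw [← fixed_iff_D4 hF hφ₀ hφ]; simp) (n := ((full_xG _ k).P.nW (wR chevD4 [14]))⁻¹)
    (T₀ := Subgroup.zpowers ((full_xG chevD4 k).tor a)) (fun g => by
      rw [← MonoidHom.map_zpowers]
      constructor
      · rintro ⟨b, hb, rfl⟩
        exact ⟨Full.tor_mem _ _, (h.tw_tor_iff _ hw b).2 (congrArg _ ((hT b).2 hb))⟩
      · rintro ⟨h1, h2⟩
        obtain ⟨b, rfl⟩ := (full_xG _ k).mem_H_iff.1 h1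
        rw [h.tw_tor_iff _ hw, tor_xG, tor_xG, ← mul_inv_eq_one, ← map_inv, ← map_mul, ChevM.hG_eq_one_iff] at h2
        obtain ⟨z, hz, e⟩ := exists_fixed_mod (F := h.σT) (Z := (ChevM.cm chevD4).ker)
          (fun z hz => ChevM.hG_eq_one_iff.1 (by
            rw [← tor_xG, ← h.map_tor, tor_xG, ChevM.hG_eq_one_iff.2 hz, map_one]))
          (fun z hz => mp_cw_of_cm hz hw) (fun z => center_fixed_D4 h) h2
        exact ⟨_, (hT _).1 e, by rw [tor_xG, tor_xG, map_mul, ChevM.hG_eq_one_iff.2 hz, mul_one]⟩)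
    (fun r => ⟨a, hm, fun e => hr r (by rw [e, one_pow])⟩)
    fun v hv e => expC_D4.eq_one_of_chi (orderOf_pos_iff.1 (hz2 ▸ Nat.pos_of_ne_zero (by rintro h; simp [h] at hk)))
      hr hv (e a hm)
  rw [Subgroup.map_id] at e
  refine ⟨H, isCyclic_of_surjective e.symm e.symm.surjective, ?_, h3⟩
  refine (Nat.card_congr e.toEquiv).trans ?_
  rw [Nat.card_zpowers, ← hz2]
  refine orderOf_eq_orderOf_iff.2 fun n => ⟨fun h1 => ?_, fun h1 => by rw [← map_pow, h1, map_one]⟩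
  rw [← map_pow, tor_xG, ChevM.hG_eq_one_iff] at h1
  exact center_fixed_D4 h h1 (by rw [(hT _).2 (pow_mem (Subgroup.mem_zpowers a) n), mp_cw_of_cm h1 hw])

end triality

end Cfsg.Agent.Chev
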