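import Mathlib
import Cfsg.Agent.Lib.Chev.SylowH
import Cfsg.Agent.Lib.Chev.Tori2
import Cfsg.Agent.Lib.Tw.InstF4

/-! Normal forms of elements up to conjugacy; realising elements in the finite groups. -/

set_option autoImplicit false
set_option linter.unusedSectionVars false

namespace Cfsg.Agent.Chev
open Cfsg.Lie RSys PreRGD Matrix Cfsg.Agent.Generic

section abstract
variable {G : Type*} [Group G]

theorem exists_fixed_of_isConj {τ : G →* G} (hL : Lang ⊤ τ) {g c : G} (h : c * τ g * c⁻¹ = g) :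
    ∃ z, τ (z * g * z⁻¹) = z * g * z⁻¹ := by
  obtain ⟨z, -, rfl⟩ := hL c trivial
  exact ⟨z, conj_fixed_iff.2 h⟩

theorem exists_orderOf_of_isConj {τ : G →* G} (hL : Lang ⊤ τ) {Γ : Type*} [Group Γ] {j : Γ →* G}
    (hj : Function.Injective j) (hr : ∀ g, τ g = g → g ∈ j.range) {g c : G} (h : c * τ g * c⁻¹ = g) :
    ∃ γ : Γ, orderOf γ = orderOf g := by
  obtain ⟨z, hz⟩ := exists_fixed_of_isConj hL h
  obtain ⟨γ, e⟩ := hr _ hz
  exact ⟨γ, by rw [← orderOf_injective j hj, e]; exact (MulAut.conj z).orderOf_eq g⟩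

theorem exists_jordan_pow {g : G} (hg : IsOfFinOrder g) {p : ℕ} (hp : p.Prime) : ∃ i j e n : ℕ, p.Coprime n ∧
    (g ^ i) ^ n = 1 ∧ (g ^ j) ^ p ^ e = 1 ∧ g = g ^ i * g ^ j := by
  obtain ⟨e, n, hn, h⟩ := Nat.exists_eq_pow_mul_and_not_dvd hg.orderOf_pos.ne' p hp.ne_one
  have hc : p.Coprime n := (Nat.Prime.coprime_iff_not_dvd hp).2 hn
  have h0 : g ^ (p ^ e * n) = 1 := h ▸ pow_orderOf_eq_one g
  obtain ⟨a, -, ha⟩ := Nat.exists_mul_mod_eq_of_coprime 1 (k := p ^ e * n) (n := p ^ e + n)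
    (Nat.Coprime.mul_right (by simpa using (hc.pow_left e).symm) (by simpa using hc.pow_left e))
    (h ▸ hg.orderOf_pos.ne')
  refine ⟨p ^ e * a, n * a, e, n, hc, ?_, ?_, ?_⟩
  · rw [← pow_mul, mul_right_comm, pow_mul, h0, one_pow]
  · rw [← pow_mul, mul_right_comm, mul_comm n, pow_mul, h0, one_pow]
  · rw [← pow_add, ← add_mul, pow_eq_pow_mod _ h0, ha, ← pow_eq_pow_mod _ h0, pow_one]

end abstract

variable {D : ChevalleyDatum} [Tab D] {K : Type*} [Field K] {G : Type*} [Group G] {x : ℕ → K → G}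

namespace Full
variable (hx : Full D x)

open Classical in
theorem card_fixed_cosets' [IsAlgClosed K] (p : ℕ) [CharP K p] {q : ℕ} (hq : 1 < q) (hp : p ∣ q) {σ : G →* G}
    (h : Frob D x q σ) (h' : ∀ b ∈ hx.P.B, σ b ∈ hx.P.B) (a : Fin D.rank → Kˣ) (W' : Set (rs D).W) [Fintype W'] :
    Nat.card {y : G ⧸ hx.P.B // (∃ w ∈ W', ∃ t, y = hx.cs w t) ∧ hx.tor a • y = y ∧ qm h' y = y} =
      ∑ w : W', ∏ r, if r ∈ (rs D).nn w ∧ chi D a r = 1 then q else 1 := by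
  let Z := Σ w : W', ∀ r, {t : K // ((r ∈ (rs D).nn w ∧ chi D a r = 1) ∨ t = 0) ∧ t ^ q = t}
  let e : Z → {y : G ⧸ hx.P.B // (∃ w ∈ W', ∃ t, y = hx.cs w t) ∧ hx.tor a • y = y ∧ qm h' y = y} := fun z =>
    ⟨hx.cs z.1 fun r => z.2 r, ⟨_, z.1.2, _, rfl⟩, by
    rw [tor_smul_cs, hx.qm_cs hq h, hx.cs_eq_iff z.1.1.2 z.1.1.2, hx.cs_eq_iff z.1.1.2 z.1.1.2]
    exact ⟨⟨rfl, fun r _ => by rcases (z.2 r).2.1 with h | h <;> simp [h]⟩, rfl, fun r _ => (z.2 r).2.2⟩⟩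
  have hc : ∀ (w : W') r, Nat.card {t : K // ((r ∈ (rs D).nn w ∧ chi D a r = 1) ∨ t = 0) ∧ t ^ q = t} =
      if r ∈ (rs D).nn w ∧ chi D a r = 1 then q else 1 := fun w r => by
    split_ifs with h1
    · simpa [h1] using card_pow_eq p hq hp
    · simp only [h1, false_or]
      exact Nat.card_eq_one_iff_exists.2 ⟨⟨0, rfl, zero_pow (by omega)⟩, fun y => Subtype.ext y.2.1⟩
  have : ∀ (w : W') r, Finite {t : K // ((r ∈ (rs D).nn w ∧ chi D a r = 1) ∨ t = 0) ∧ t ^ q = t} :=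
    fun w r => Nat.finite_of_card_ne_zero (by rw [hc]; split_ifs <;> omega)
  rw [← Nat.card_congr (Equiv.ofBijective e ⟨?_, ?_⟩), Nat.card_sigma]
  · simp only [Nat.card_pi, hc]
  · rintro ⟨w, t⟩ ⟨w', t'⟩ h1
    obtain ⟨h2, h3⟩ := (hx.cs_eq_iff w.1.2 w'.1.2).1 (congrArg Subtype.val h1)
    obtain rfl := Subtype.ext (Subtype.ext h2)
    congr 1
    ext r
    by_cases hr : r ∈ (rs D).nn w
    · exact h3 r hr
    · rw [(t r).2.1.resolve_left fun h => hr h.1, (t' r).2.1.resolve_left fun h => hr h.1]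
  · rintro ⟨y, ⟨w, hw, t, rfl⟩, h1, h2⟩
    rw [tor_smul_cs, hx.cs_eq_iff w.2 w.2] at h1
    rw [hx.qm_cs hq h, hx.cs_eq_iff w.2 w.2] at h2
    refine ⟨⟨⟨w, hw⟩, fun r => ⟨if r ∈ (rs D).nn w then t r else 0, ?_⟩⟩,
      Subtype.ext ((hx.cs_eq_iff w.2 w.2).2 ⟨rfl, fun r hr => if_pos hr⟩)⟩
    split_ifs with hr
    · refine ⟨or_iff_not_imp_right.2 fun h0 => ⟨hr, Units.ext (mul_right_cancel₀ h0 ?_)⟩, h2.2 r hr⟩
      simpa using h1.2 r hr
    · exact ⟨Or.inr rfl, zero_pow (by omega)⟩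

theorem pS_zero (S : Set (Fin D.nroots)) : hx.pS S 0 = 1 :=
  Subgroup.mem_bot.1 (by simpa using hx.pS_mem_of (S := S) (T := ∅) (t := 0) fun _ _ => Or.inr rfl)

theorem exists_conj_iff (hi : Function.Injective hx.tor) {a b : Fin D.rank → Kˣ} {y : G ⧸ hx.P.B} :
    (∃ g, y = (g⁻¹ : G) ∧ g * hx.tor a = hx.tor b * g) ↔
      (∃ w ∈ {w : (rs D).W | mp ((rs D).cw w) a = b}, ∃ t, y = hx.cs w t) ∧ hx.tor a • y = y := by
  constructor
  · rintro ⟨g, rfl, e⟩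
    refine ⟨?_, QuotientGroup.eq.2 ?_⟩
    · obtain ⟨w, hw, t, c, t', rfl⟩ := hx.exists_coord g
      refine ⟨⟨w, hw⟩, hi ((hx.conj_tor_iff hw (hx.tor_mem c)).1 e).1, t', QuotientGroup.eq.2 ?_⟩
      rw [inv_inv, mul_assoc _ (hx.P.nW w), mul_inv_cancel_right]
      exact mul_mem (hx.P.U_le_B (hx.pS_mem _ _)) (hx.P.H_le_B (hx.tor_mem _))
    · convert hx.P.H_le_B (inv_mem (hx.tor_mem b)) using 1
      rw [eq_mul_inv_iff_mul_eq.2 e.symm]; simp only [smul_eq_mul]; group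
  · rintro ⟨⟨w, hw, t, rfl⟩, h⟩
    refine ⟨_, rfl, ?_⟩
    rw [tor_smul_cs, hx.cs_eq_iff w.2 w.2] at h
    have := (hx.conj_tor_iff (t := 0) (t' := t) w.2 (one_mem _)).2 ⟨congrArg hx.tor hw, fun _ _ => Or.inr rfl,
      fun r hr => or_iff_not_imp_right.2 fun h0 => Units.ext (mul_right_cancel₀ h0 (by simpa using h.2 r hr))⟩
    simpa [hx.pS_zero] using this

theorem mem_US_of_commute {a : Fin D.rank → Kˣ} {u : G} (hu : u ∈ hx.P.U) (h : Commute (hx.tor a) u) :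
    u ∈ hx.P.US {r | (rs D).IsPos r ∧ chi D a r = 1} := by
  obtain ⟨t, rfl⟩ := hx.exists_pS halfSpace_pos closed_pos hu
  have := hx.tor_conj_pS a {r | (rs D).IsPos r} t
  rw [h.eq, mul_inv_cancel_right] at this
  exact hx.pS_mem_of fun r hr => or_iff_not_imp_right.2 fun h0 => ⟨hr, Units.ext (mul_right_cancel₀ h0 (by
    simpa using (hx.pS_unique halfSpace_pos this r hr).symm))⟩

end Full

namespace Alg
variable {p q : ℕ} {σ : G →* G} (h : Alg D x p q σ) (hi : Function.Injective h.full.tor)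

theorem mem_U_of_mem_B {u : G} (hu : u ∈ h.full.P.B) {e : ℕ} (he : u ^ p ^ e = 1) : u ∈ h.full.P.U := by
  obtain ⟨v, hv, c, hc, rfl⟩ := h.full.P.mem_B_iff.1 hu
  have h1 := mul_pow_mul_inv_mem (U := h.full.P.U) (fun v hv => h.full.P.H_conj_US hc hv) hv (p ^ e)
  rw [he, one_mul] at h1
  have h2 := h.full.nd.eq_one_of_mem_U_H (inv_mem_iff.1 h1) (pow_mem hc _)
  obtain ⟨a, rfl⟩ := h.full.mem_H_iff.1 hc
  rwa [(pow_eq_one_iff_of_coprime ((h.coprime_orderOf_tor a).pow_left e)).1 ⟨h2, pow_orderOf_eq_one _⟩, mul_one]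

include hi

theorem exists_conj_unip {a : Fin D.rank → Kˣ} {u : G} (hu : Commute u (h.full.tor a)) {e : ℕ} (he : u ^ p ^ e = 1) :
    ∃ g b, g * h.full.tor a * g⁻¹ = h.full.tor b ∧ g * u * g⁻¹ ∈ h.full.P.US {r | (rs D).IsPos r ∧ chi D b r = 1} := by
  classical
  have := h.closed
  have := h.char
  have := Fact.mk h.prime
  obtain ⟨j, hj, hj'⟩ := h.frob.periodic h.full h.loc u
  have h1 := h.itr hj
  have hB : ∀ b ∈ h.full.P.B, Chev.itr σ j b ∈ h.full.P.B := fun _ => h1.frob.map_mem_B h.full h1.one_lt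
  set b := mp ((rs D).cw (rs D).w0) a with hb
  have hP : IsPGroup p (Subgroup.zpowers u) := fun v => ⟨e, Subtype.ext (by
    obtain ⟨_, n, rfl⟩ := v
    simp only [SubgroupClass.coe_pow, OneMemClass.coe_one]
    rw [← zpow_natCast, ← _root_.zpow_mul, mul_comm, _root_.zpow_mul, zpow_natCast, he, _root_.one_zpow])⟩
  obtain ⟨_, ⟨⟨g, rfl, hg⟩, -⟩, hy⟩ := exists_fixed_of_card hP
    (S := {y : G ⧸ h.full.P.B | (∃ g, y = (g⁻¹ : G) ∧ g * h.full.tor a = h.full.tor b * g) ∧ qm hB y = y}) (by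
      rintro _ ⟨n, rfl⟩ _ ⟨⟨g, rfl, hg⟩, h2⟩
      refine ⟨⟨g * (u ^ n)⁻¹, by simp [MulAction.Quotient.smul_mk], ?_⟩, ?_⟩
      · rw [mul_assoc, (hu.zpow_left n).inv_left.eq, ← mul_assoc, hg, mul_assoc]
      · rw [qm_smul, h2, map_zpow, itr_apply, hj']) (by
      simp only [h.full.exists_conj_iff hi, and_assoc]
      erw [h.full.card_fixed_cosets' p h1.one_lt h1.dvd h1.frob hB a]
      rw [← Finset.add_sum_erase _ _ (Finset.mem_univ ⟨⟨_, w0_mem⟩, rfl⟩), Finset.prod_eq_one fun r _ =>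
        if_neg fun hr => hr.1.2 (isPos_w0_iff.2 hr.1.1), Nat.dvd_add_left (Finset.dvd_sum fun w hw => ?_)]
      · exact h.prime.not_dvd_one
      · by_contra h3
        refine (Finset.mem_erase.1 hw).1 (Subtype.ext (Subtype.ext ?_))
        have h4 := (cData_psi (h.loc.isOfFinOrder h.one_lt a)).conn ((rs D).w0 * w) ⟨mul_mem w0_mem w.1.2, by
          rw [cw_mul ((rs D).W_le_Aut w0_mem) ((rs D).W_le_Aut w.1.2), mp_mul, show mp _ a = b from w.2, hb, ← mp_mul,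
            ← cw_mul ((rs D).W_le_Aut w0_mem) ((rs D).W_le_Aut w0_mem), w0_mul_self, cw_one, mp_one]⟩ fun r h5 h6 h7 =>
          h3 (h1.dvd.trans (by
            convert Finset.dvd_prod_of_mem _ (Finset.mem_univ r)
            exact (if_pos ⟨⟨h6, isPos_w0_iff.1 h7⟩, h5⟩).symm))
        exact mul_left_cancel (h4.trans w0_mul_self.symm))
  have e1 : g * h.full.tor a * g⁻¹ = h.full.tor b := by rw [hg, mul_inv_cancel_right]
  refine ⟨g, b, e1, h.full.mem_US_of_commute (h.mem_U_of_mem_B ?_ (e := e) (by rw [conj_pow, he]; simp)) ?_⟩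
  · simpa [mul_assoc] using QuotientGroup.eq.1 (hy u (Subgroup.mem_zpowers u)).symm
  · rw [← e1]; exact hu.symm.map (MulAut.conj g)

theorem exists_jordan (g : G) : ∃ (z : G) (a : Fin D.rank → Kˣ) (u : G) (i : ℕ),
    u ∈ h.full.P.US {r | (rs D).IsPos r ∧ chi D a r = 1} ∧ g = z * (h.full.tor a * u) * z⁻¹ ∧
      g ^ i = z * h.full.tor a * z⁻¹ := by
  obtain ⟨i, j, e, n, h1, h2, h3, h4⟩ := exists_jordan_pow (h.frob.isOfFinOrder h.full h.one_lt h.loc g) h.prime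
  obtain ⟨z, a, h5⟩ := h.exists_conj_tor h1 h2
  have h6 : h.full.tor a = z⁻¹ * g ^ i * z := by rw [h5]; group
  obtain ⟨c, b, h7, h8⟩ := h.exists_conj_unip hi (a := a) (u := z⁻¹ * g ^ j * z) (e := e) (by
    rw [h6]; simpa using ((Commute.refl g).pow_pow j i).map (MulAut.conj z⁻¹)) (by
    simpa [h3] using conj_pow (a := z⁻¹) (b := g ^ j) (i := p ^ e))
  refine ⟨z * c⁻¹, b, _, i, h8, ?_, ?_⟩
  · rw [← h7, h6]; conv_lhs => rw [h4]
    group
  · rw [← h7, h6]; group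

theorem exists_W_of_fixed {τ : G →* G} {s : (Fin D.rank → Kˣ) → Fin D.rank → Kˣ}
    (hs : ∀ a, τ (h.full.tor a) = h.full.tor (s a)) {z : G} {a : Fin D.rank → Kˣ}
    (e : τ (z * h.full.tor a * z⁻¹) = z * h.full.tor a * z⁻¹) : ∃ w ∈ (rs D).W, s a = mp ((rs D).cw w) a := by
  obtain ⟨w, hw, h1⟩ := h.full.exists_W_conj ((τ z)⁻¹ * z)
  refine ⟨w, hw, hi (h1 _ _ ?_).symm⟩
  rw [map_mul, map_mul, map_inv, hs] at e
  calc _ = (τ z)⁻¹ * (z * h.full.tor a * z⁻¹) * τ z := by group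
    _ = _ := by rw [← e]; group

theorem exists_simple_of_commute {s u : G} (hc : Commute u s) {n e : ℕ} (hn : p.Coprime n) (hs : s ^ n = 1)
    (hu : u ^ p ^ e = 1) (hu1 : u ≠ 1) :
    ∃ z a i, s = z * h.full.tor a * z⁻¹ ∧ chi D a ((rs D).simple i) = 1 := by
  obtain ⟨z, a, rfl⟩ := h.exists_conj_tor hn hs
  obtain ⟨c, b, h7, h8⟩ := h.exists_conj_unip hi (a := a) (u := z⁻¹ * u * z) (e := e) (by
    simpa [mul_assoc] using hc.map (MulAut.conj z⁻¹)) (by simpa [hu] using conj_pow (a := z⁻¹) (b := u) (i := p ^ e))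
  obtain ⟨r, hr⟩ : ∃ r, chi D b r = 1 := by
    by_contra! h9
    simp [h9, mul_inv_eq_one] at h8
    exact hu1 (by simpa [mul_eq_one_iff_eq_inv, inv_mul_eq_iff_eq_mul, mul_assoc] using h8)
  obtain ⟨w, hw, i, rfl⟩ := (rs D).exists_W_simple r
  have hA := (rs D).W_le_Aut hw
  have e1 : mp ((rs D).cw w) (mp ((rs D).cw w⁻¹) b) = b := by
    rw [← mp_mul, ← cw_mul hA (inv_mem hA), mul_inv_cancel, cw_one, mp_one]
  refine ⟨z * c⁻¹ * h.full.P.nW w, mp ((rs D).cw w⁻¹) b, i, ?_, by rw [← chi_cw hA, e1, hr]⟩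
  have := h.full.nW_conj_tor hw (mp ((rs D).cw w⁻¹) b)
  rw [e1, ← h7] at this
  calc _ = z * c⁻¹ * (c * h.full.tor a * c⁻¹) * (z * c⁻¹)⁻¹ := by group
    _ = _ := by rw [← this]; group

end Alg

section finite
variable {F : Type*} [Field F] [Finite F]

local notation "k" => AlgebraicClosure F

theorem tor_xG_injective (h : ExpC D 1) : Function.Injective (full_xG D K).tor :=
  (full_xG D K).tor_injective_of_cm (h.cm_injective fun v hv => by simpa using hv)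

theorem alg_xG (h : ExpC D 1) (p : ℕ) [hp : Fact p.Prime] [CharP F p] {φ : k →+* k} (hφ : ∀ t, φ t = t ^ Nat.card F) :
    Alg D (ChevM.xG D k) p (Nat.card F) (ChevM.fm D φ) :=
  have h1 := alg_st (torInj_of_one h k) p hφ
  ⟨full_xG D k, h1.closed, h1.prime, h1.char, h1.pw, h1.loc, frob_fm hφ, fun a q σ hq hσ g hg => by
    obtain ⟨ψ, hψ, -⟩ := hσ.exists_hom (full_xG D k) hq
    obtain rfl := hσ.unique (full_xG D k) (frob_fm hψ)
    obtain ⟨g, rfl⟩ := spi_surjective g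
    have hi := (full_st D k).map_injective (full_xG D k) (φ := RingHom.id k) spi_x (tor_xG_injective h)
    rw [Subgroup.mem_centralizer_singleton_iff, tor_xG, ← spi_tor, ← map_mul, ← map_mul, hi.eq_iff] at hg
    obtain ⟨z, hz, e⟩ := h1.lang a q _ hq (frob_sm hψ) g (Subgroup.mem_centralizer_singleton_iff.2 hg)
    rw [Subgroup.mem_centralizer_singleton_iff] at hz
    exact ⟨spi D k z, Subgroup.mem_centralizer_singleton_iff.2 (by rw [tor_xG, ← spi_tor, ← map_mul, ← map_mul]; erw [hz]),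
      by rw [e, map_mul, map_inv, spi_sm]⟩⟩

theorem fm_fixed_iff (h : ExpC D 1) {φ : k →+* k} (hφ : ∀ t, φ t = t ^ Nat.card F) {g : D.group k} :
    ChevM.fm D φ g = g ↔ g ∈ (ChevM.fm D (algebraMap F k)).range :=
  (frob_fm hφ).fixed_iff (full_xG D k) Finite.one_lt_card (full_xG D F) (fun r t => ChevM.fm_xG _ r t) rfl
    (tor_xG_injective h)

end finite

end Cfsg.Agent.Chev
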