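/-
The Borel–Tits theorem on normalisers of unipotent subgroups, by the optimal-direction argument of Kempf and Rousseau.
-/
import Cfsg.Agent.Lib.Chev.RGD2

set_option autoImplicit false

namespace Cfsg.Agent.Chev

open RSys

variable {ι I : Type*} [Fintype I] [DecidableEq I] {R : RSys ι I} {G : Type*} [Group G]

namespace RSys

variable (R) in
/-- The value on a root of the real linear form with values `φ i` on the fundamental roots. -/
def rval (φ : I → ℝ) (r : ι) : ℝ := ∑ i, φ i * (R.rc r i : ℝ)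

theorem rval_simple (φ : I → ℝ) (i : I) : R.rval φ (R.simple i) = φ i := by
  simp [rval, R.rc_simple, Pi.single_apply]

theorem rval_comb (φ : I → ℝ) {k r s : ι} {a b : ℤ} (h : R.rc k = a • R.rc r + b • R.rc s) :
    R.rval φ k = a * R.rval φ r + b * R.rval φ s := by
  simp only [rval, h, Pi.add_apply, Pi.smul_apply, smul_eq_mul, Finset.mul_sum, ← Finset.sum_add_distrib]
  refine Finset.sum_congr rfl fun i _ => ?_
  push_cast; ring

theorem rval_neg (φ : I → ℝ) (r : ι) : R.rval φ (R.neg r) = - R.rval φ r := by simp [rval, R.rc_neg]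

theorem rval_apply (φ : I → ℝ) {w : Equiv.Perm ι} (hw : w ∈ R.Aut) (r : ι) :
    R.rval (fun i => R.rval φ (w (R.simple i))) r = R.rval φ (w r) := by
  conv_rhs => rw [rval, Aut.rc_apply hw, lin_apply]
  simp only [rval, Finset.sum_apply, Pi.smul_apply, smul_eq_mul, Finset.sum_mul]
  push_cast
  simp only [Finset.mul_sum]
  rw [Finset.sum_comm]
  refine Finset.sum_congr rfl fun i _ => Finset.sum_congr rfl fun j _ => by ring

theorem rval_nonneg {φ : I → ℝ} (hφ : ∀ i, 0 ≤ φ i) {r : ι} (hr : R.IsPos r) : 0 ≤ R.rval φ r :=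
  Finset.sum_nonneg fun i _ => mul_nonneg (hφ i) (by exact_mod_cast hr i)

theorem rval_nonpos {φ : I → ℝ} (hφ : ∀ i, 0 ≤ φ i) {r : ι} (hr : ¬ R.IsPos r) : R.rval φ r ≤ 0 := by
  have := rval_nonneg hφ (isPos_neg_iff.2 hr)
  rw [rval_neg] at this; linarith

theorem inSub_iff_rval {φ : I → ℝ} (hφ : ∀ i, 0 ≤ φ i) {r : ι} : R.InSub {i | φ i = 0} r ↔ R.rval φ r = 0 := by
  have key : ∀ r, R.IsPos r → (R.InSub {i | φ i = 0} r ↔ R.rval φ r = 0) := by
    intro r hr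
    rw [rval, Finset.sum_eq_zero_iff_of_nonneg fun i _ => mul_nonneg (hφ i) (by exact_mod_cast hr i)]
    simp only [InSub, Set.mem_ofPred_eq, Finset.mem_univ, true_imp_iff, mul_eq_zero, Int.cast_eq_zero]
    exact forall_congr' fun i => by tauto
  by_cases hr : R.IsPos r
  · exact key r hr
  · rw [← inSub_neg, key _ (isPos_neg_iff.2 hr), rval_neg, neg_eq_zero]

theorem continuous_rval (r : ι) : Continuous fun φ : I → ℝ => R.rval φ r := by unfold rval; fun_prop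

theorem closed_rval (φ : I → ℝ) : R.Closed {r | 1 ≤ R.rval φ r} := by
  rintro r hr s hs k ⟨i, j, hi, hj, hk⟩
  have h1 : (1 : ℝ) ≤ i := by exact_mod_cast hi
  have h2 : (1 : ℝ) ≤ j := by exact_mod_cast hj
  simp only [Set.mem_ofPred_eq, rval_comb φ hk] at *
  push_cast; nlinarith

theorem ideal_rval {φ : I → ℝ} (hφ : ∀ i, 0 ≤ φ i) : R.Ideal {r | R.IsPos r} {r | 1 ≤ R.rval φ r} := by
  rintro r hr s hs k ⟨i, j, hi, hj, hk⟩
  have h1 : (1 : ℝ) ≤ i := by exact_mod_cast hi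
  have h2 : (1 : ℝ) ≤ j := by exact_mod_cast hj
  have h3 := rval_nonneg hφ hr
  simp only [Set.mem_ofPred_eq, rval_comb φ hk] at *
  push_cast; nlinarith

theorem isPos_of_rval {φ : I → ℝ} (hφ : ∀ i, 0 ≤ φ i) {r : ι} (h : 0 < R.rval φ r) : R.IsPos r := by
  by_contra h1
  have := rval_nonpos hφ h1
  linarith

variable [Fintype ι] [DecidableEq ι]

theorem exists_dominant (φ : I → ℝ) : ∃ w ∈ R.W, ∀ i, 0 ≤ R.rval φ (w (R.simple i)) := by
  classical
  obtain ⟨w, hw, hmax⟩ := Set.Finite.exists_minimalFor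
    (fun w : Equiv.Perm ι => (Finset.univ.filter fun r => R.IsPos r ∧ R.rval φ (w r) < 0).card)
    (R.W : Set (Equiv.Perm ι)) (Set.toFinite _) ⟨1, one_mem _⟩
  have hwA := R.W_le_Aut hw
  refine ⟨w, hw, fun i => ?_⟩
  by_contra h
  push Not at h
  have h1 : (Finset.univ.filter fun r => R.IsPos r ∧ R.rval φ ((w * R.sref i) r) < 0).card <
      (Finset.univ.filter fun r => R.IsPos r ∧ R.rval φ (w r) < 0).card := by
    rw [← Finset.card_map (R.sref i).toEmbedding]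
    refine Finset.card_lt_card ⟨fun r hr => ?_, fun hsub => ?_⟩
    · obtain ⟨s, hs, rfl⟩ := Finset.mem_map.mp hr
      replace hs := (Finset.mem_filter.mp hs).2
      rw [Equiv.Perm.mul_apply] at hs
      refine Finset.mem_filter.mpr ⟨Finset.mem_univ _, hs.1.sref ?_, hs.2⟩
      rintro rfl
      have := hs.2
      rw [sref_simple, Aut.neg_apply hwA, rval_neg] at this
      linarith
    · have := hsub (show R.simple i ∈ _ by simp [R.isPos_simple i, h])
      obtain ⟨s, hs, h2⟩ := Finset.mem_map.mp this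
      have h3 : s = R.neg (R.simple i) := by
        rw [← sref_simple, ← h2]; simp
      simp only [Finset.mem_filter, h3] at hs
      exact not_isPos_neg_simple i hs.2.1
  have h2 := hmax (j := w * R.sref i) (mul_mem hw (R.sref_mem_W i)) h1.le
  exact absurd h1 (not_lt.mpr h2)

variable (R) in
/-- An invariant positive definite quadratic form on the real linear forms. -/
def rQ (φ : I → ℝ) : ℝ := ∑ r, R.rval φ r ^ 2

omit [DecidableEq ι] in
theorem rQ_apply (φ : I → ℝ) {w : Equiv.Perm ι} (hw : w ∈ R.Aut) :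
    R.rQ (fun i => R.rval φ (w (R.simple i))) = R.rQ φ := by
  simp only [rQ, rval_apply φ hw]
  exact Equiv.sum_comp w fun r => R.rval φ r ^ 2

omit [DecidableEq ι] in
theorem sq_le_rQ (φ : I → ℝ) (i : I) : φ i ^ 2 ≤ R.rQ φ := by
  rw [← rval_simple (R := R) φ i]
  exact Finset.single_le_sum (f := fun r => R.rval φ r ^ 2) (fun _ _ => sq_nonneg _) (Finset.mem_univ _)

omit [DecidableEq ι] in
theorem exists_min_rQ {Ω : Set (I → ℝ)} (hc : IsClosed Ω) (hne : Ω.Nonempty) :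
    ∃ φ ∈ Ω, ∀ ψ ∈ Ω, R.rQ φ ≤ R.rQ ψ := by
  obtain ⟨φ0, h0⟩ := hne
  have hQ : Continuous R.rQ := continuous_finsetSum _ fun r _ => (continuous_rval r).pow 2
  have hK : IsCompact (Ω ∩ {φ | R.rQ φ ≤ R.rQ φ0}) := by
    refine Metric.isCompact_of_isClosed_isBounded (hc.inter (isClosed_le hQ continuous_const)) ?_
    have h1 : 0 ≤ R.rQ φ0 := Finset.sum_nonneg fun _ _ => sq_nonneg _
    refine isBounded_iff_forall_norm_le.2 ⟨R.rQ φ0 + 1, fun φ hφ => (pi_norm_le_iff_of_nonneg (by linarith)).2 fun i => ?_⟩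
    have h2 := (sq_le_rQ (R := R) φ i).trans hφ.2
    rw [Real.norm_eq_abs, abs_le]
    constructor <;> nlinarith
  obtain ⟨φ, hφ, hmin⟩ := hK.exists_isMinOn ⟨φ0, h0, le_refl (R.rQ φ0)⟩ hQ.continuousOn
  refine ⟨φ, hφ.1, fun ψ hψ => ?_⟩
  by_cases h : R.rQ ψ ≤ R.rQ φ0
  · exact hmin ⟨hψ, h⟩
  · exact le_trans hφ.2 (le_of_not_ge h)

omit [DecidableEq ι] in
theorem eq_of_rQ_le {φ ψ : I → ℝ} (h1 : R.rQ ψ = R.rQ φ) (h2 : R.rQ φ ≤ R.rQ (fun i => (φ i + ψ i) / 2)) (r : ι) :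
    R.rval ψ r = R.rval φ r := by
  have e : ∀ r, R.rval (fun i => (φ i + ψ i) / 2) r = (R.rval φ r + R.rval ψ r) / 2 := fun r => by
    simp only [rval, ← Finset.sum_add_distrib, Finset.sum_div]
    exact Finset.sum_congr rfl fun i _ => by ring
  have h3 : ∑ r, (R.rval ψ r - R.rval φ r) ^ 2 =
      2 * R.rQ φ + 2 * R.rQ ψ - 4 * R.rQ (fun i => (φ i + ψ i) / 2) := by
    simp only [rQ, e, Finset.mul_sum, ← Finset.sum_add_distrib, ← Finset.sum_sub_distrib]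
    exact Finset.sum_congr rfl fun i _ => by ring
  have h4 : (R.rval ψ r - R.rval φ r) ^ 2 ≤ ∑ r, (R.rval ψ r - R.rval φ r) ^ 2 :=
    Finset.single_le_sum (f := fun r => (R.rval ψ r - R.rval φ r) ^ 2) (fun _ _ => sq_nonneg _) (Finset.mem_univ _)
  have h5 : (R.rval ψ r - R.rval φ r) ^ 2 = 0 := le_antisymm (by linarith) (sq_nonneg _)
  exact sub_eq_zero.1 (pow_eq_zero_iff two_ne_zero |>.1 h5)

end RSys

namespace PreRGD.Nondeg

variable [Fintype ι] [DecidableEq ι] {P : PreRGD R G} (hP : P.Nondeg)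
include hP

/-- The Borel–Tits theorem, with the optimal linear form. -/
theorem exists_optimal {X : Set G} (hX : ∀ x ∈ X, x ∈ P.U) :
    ∃ g ∈ P.full, ∃ φ : I → ℝ, (∀ i, 0 ≤ φ i) ∧ (∀ x ∈ X, g⁻¹ * x * g ∈ P.US {r | 1 ≤ R.rval φ r}) ∧
      ∀ n ∈ P.full, (∀ x ∈ X, n⁻¹ * x * n ∈ P.US {r | 1 ≤ R.rval φ r}) → g⁻¹ * n ∈ P.PJ {i | φ i = 0} := by
  let Ω : Set (I → ℝ) := {φ | ∃ g ∈ P.full, ∀ x ∈ X, g⁻¹ * x * g ∈ P.US {r | 1 ≤ R.rval φ r}}
  have hc : IsClosed Ω := by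
    have : Ω = ⋃ S ∈ {S : Set ι | ∃ g ∈ P.full, ∀ x ∈ X, g⁻¹ * x * g ∈ P.US S}, ⋂ r ∈ S, {φ | 1 ≤ R.rval φ r} := by
      ext φ
      simp only [Set.mem_iUnion, Set.mem_iInter, Set.mem_ofPred_eq, Ω]
      exact ⟨fun h => ⟨_, h, fun _ h => h⟩, fun ⟨S, ⟨g, hg, h⟩, h'⟩ => ⟨g, hg, fun x hx => USub_mono h' (h x hx)⟩⟩
    rw [this]
    exact (Set.toFinite _).isClosed_biUnion fun S _ => isClosed_biInter fun r _ =>
      isClosed_le continuous_const (continuous_rval r)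
  have hne : Ω.Nonempty := ⟨fun _ => 1, 1, one_mem _, fun x hx => by
    rw [inv_one, one_mul, mul_one]
    refine USub_mono (fun r hr => ?_) (hX x hx)
    have h1 : (1 : ℤ) ≤ R.ht r := IsPos.ht_pos hr
    have h2 : R.rval (fun _ => 1) r = R.ht r := by simp [rval, ht, htv_apply]
    show (1 : ℝ) ≤ _
    rw [h2]; exact_mod_cast h1⟩
  obtain ⟨φ0, ⟨g0, hg0, h0⟩, hmin⟩ := exists_min_rQ (R := R) hc hne
  obtain ⟨w0, hw0, hdom⟩ := exists_dominant (R := R) φ0
  set φ : I → ℝ := fun i => R.rval φ0 (w0 (R.simple i)) with hφ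
  have hQ : R.rQ φ = R.rQ φ0 := rQ_apply φ0 (R.W_le_Aut hw0)
  have h1 : ∀ x ∈ X, (g0 * P.nW w0)⁻¹ * x * (g0 * P.nW w0) ∈ P.US {r | 1 ≤ R.rval φ r} := fun x hx => by
    have := P.nW_inv_conj_US hw0 (T := {r | 1 ≤ R.rval φ r}) (fun s hs => by
      show (1 : ℝ) ≤ _
      rw [hφ, rval_apply φ0 (R.W_le_Aut hw0)]; simpa using hs) (h0 x hx)
    simpa [mul_assoc] using this
  set g := g0 * P.nW w0 with hg
  have hgf : g ∈ P.full := mul_mem hg0 (P.nW_mem_full _)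
  refine ⟨g, hgf, φ, hdom, h1, fun n hn h2 => ?_⟩
  obtain ⟨w, hw, b, hb, c, hc, e⟩ := P.mem_full_iff.1 (mul_mem (inv_mem hgf) hn)
  refine P.cell_subset_PJ (w := w) ?_ ⟨b, hb, c, hc, e⟩
  have hA : ∀ r ∈ {r | 1 ≤ R.rval φ r}, R.IsPos r := fun r hr => isPos_of_rval hdom (lt_of_lt_of_le one_pos hr)
  have hwA := R.W_le_Aut hw
  set ψ : I → ℝ := fun i => R.rval φ (w⁻¹ (R.simple i)) with hψ
  have hψv : ∀ r, R.rval ψ r = R.rval φ (w⁻¹ r) := rval_apply φ (inv_mem hwA)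
  have h3 : (fun i => (φ i + ψ i) / 2) ∈ Ω := ⟨g * b, mul_mem hgf (P.B_le_full hb), fun x hx => by
    have a1 : (g * b)⁻¹ * x * (g * b) ∈ P.US {r | 1 ≤ R.rval φ r} := by
      simpa [mul_assoc] using B_conj_US (ideal_rval hdom) hA (inv_mem hb) (h1 x hx)
    have a2 : (g * b)⁻¹ * x * (g * b) ∈ P.US {r | 1 ≤ R.rval ψ r} := by
      have := P.nW_conj_US hw (T := {r | 1 ≤ R.rval ψ r}) (fun s hs => by
        show (1 : ℝ) ≤ _
        rw [hψv]; simpa using hs) (B_conj_US (ideal_rval hdom) hA hc (h2 x hx))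
      have e2 : n = g * (b * P.nW w * c) := by rw [← e]; simp
      rw [e2] at this
      simpa [mul_assoc] using this
    have a3 : (g * b)⁻¹ * x * (g * b) ∈ P.US {r | 1 ≤ R.rval φ r} ⊓ P.US {r | 1 ≤ R.rval ψ r} := ⟨a1, a2⟩
    rw [hP.US_inf' (closed_rval φ) (closed_rval ψ) hA ((halfSpace_pos.preimage (inv_mem hwA)).mono fun r hr =>
      hA _ (by simpa [hψv] using hr))] at a3
    refine USub_mono (fun r hr => ?_) a3
    have e : R.rval (fun i => (φ i + ψ i) / 2) r = (R.rval φ r + R.rval ψ r) / 2 := by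
      simp only [rval, ← Finset.sum_add_distrib, Finset.sum_div]
      exact Finset.sum_congr rfl fun i _ => by ring
    have b1 : 1 ≤ R.rval φ r := hr.1
    have b2 : 1 ≤ R.rval ψ r := hr.2
    show (1 : ℝ) ≤ _
    rw [e]; linarith⟩
  have h4 := eq_of_rQ_le (R := R) (rQ_apply φ (inv_mem hwA)) (hQ ▸ hmin _ h3)
  refine mem_WJ_of_invs hw fun r hr => (inSub_iff_rval hdom).2 ?_
  rw [mem_invs] at hr
  have h5 := h4 (w r)
  rw [rval_apply φ (inv_mem hwA)] at h5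
  simp only [Equiv.Perm.coe_inv, Equiv.symm_apply_apply] at h5
  exact le_antisymm (h5 ▸ rval_nonpos hdom hr.2) (rval_nonneg hdom hr.1)

/-- The Borel–Tits theorem. -/
theorem borel_tits {X : Set G} (hX : ∀ x ∈ X, x ∈ P.U) (hne : ∃ x ∈ X, x ≠ 1) :
    ∃ g ∈ P.full, ∃ J : Set I, J ≠ Set.univ ∧ (∀ x ∈ X, g⁻¹ * x * g ∈ P.UJ J) ∧
      ∀ n ∈ P.full, (∀ x ∈ X, n⁻¹ * x * n ∈ X) → g⁻¹ * n * g ∈ P.PJ J := by
  obtain ⟨g, hg, φ, hφ, h1, h2⟩ := hP.exists_optimal hX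
  have h3 : ∀ x ∈ X, g⁻¹ * x * g ∈ P.UJ {i | φ i = 0} := fun x hx =>
    USub_mono (T := {r | R.IsPos r ∧ ¬ R.InSub {i | φ i = 0} r}) (fun r hr =>
      ⟨isPos_of_rval hφ (lt_of_lt_of_le one_pos hr), fun h => by
        have h4 : 1 ≤ R.rval φ r := hr
        rw [(inSub_iff_rval hφ).1 h] at h4; linarith⟩) (h1 x hx)
  refine ⟨g, hg, _, fun h => ?_, h3, fun n hn h => ?_⟩
  · obtain ⟨x, hx, hx1⟩ := hne
    have := h3 x hx
    rw [h, UJ_univ, Subgroup.mem_bot] at this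
    exact hx1 (by simpa [mul_assoc, inv_mul_eq_one] using this)
  · rw [mul_assoc]
    exact h2 _ (mul_mem hn hg) fun x hx => by simpa [mul_assoc] using h1 _ (h x hx)

end PreRGD.Nondeg

end Cfsg.Agent.Chev
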