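/-
Roots of equal length are conjugate under the Weyl group; generation of a Chevalley group by `N` and one or two root
subgroups.
-/
import Cfsg.Agent.Lib.Chev.LiftCases
import Cfsg.Agent.Lib.Chev.Adjoint

set_option autoImplicit false
set_option maxRecDepth 100000

namespace Cfsg.Agent.Chev

open Cfsg.Lie RSys

variable {D : ChevalleyDatum}

/-- Check that the nodes of equal length are joined by single bonds, using a parent function and a depth. -/
def checkConn (D : ChevalleyDatum) (par dep : List ℕ) : Bool :=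
  (allLt D.rank fun i => decide (dep.getD i 0 = 0) ||
    (decide (par.getD i 0 < D.rank) && decide (D.cartan i (D.simple (par.getD i 0)) = -1) &&
      decide (D.cartan (par.getD i 0) (D.simple i) = -1) && decide (dep.getD (par.getD i 0) 0 < dep.getD i 0))) &&
  allLt D.rank fun i => allLt D.rank fun j => !decide (dep.getD i 0 = 0) || !decide (dep.getD j 0 = 0) ||
    !decide (len D (D.simple i) = len D (D.simple j)) || decide (i = j)

theorem exists_W_of_check [Good D] {par dep : List ℕ} (h : checkConn D par dep = true) {r s : Fin D.nroots}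
    (hl : (rs D).len r = (rs D).len s) : ∃ w ∈ (rs D).W, w r = s := by
  simp only [checkConn, Bool.and_eq_true, allLt_iff, Bool.or_eq_true, decide_eq_true_eq, Bool.not_eq_true',
    decide_eq_false_iff_not] at h
  have key : ∀ (n : ℕ) (i : Fin D.rank), dep.getD i 0 = n →
      ∃ w ∈ (rs D).W, ∃ j : Fin D.rank, dep.getD j 0 = 0 ∧ w ((rs D).simple j) = (rs D).simple i := by
    intro n
    induction n using Nat.strong_induction_on with
    | _ n ih =>
      intro i hi
      rcases h.1 i i.2 with h1 | ⟨⟨⟨h1, h2⟩, h3⟩, h4⟩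
      · exact ⟨1, one_mem _, i, h1, rfl⟩
      · obtain ⟨w, hw, j, hj, e⟩ := ih _ (hi ▸ h4) ⟨_, h1⟩ rfl
        refine ⟨(rs D).sref ⟨_, h1⟩ * (rs D).sref i * w, mul_mem (mul_mem (sref_mem_W _ _) (sref_mem_W _ _)) hw, j, hj, ?_⟩
        have e2 : (rs D).sref i ((rs D).simple ⟨_, h1⟩) = (rs D).sref ⟨_, h1⟩ ((rs D).simple i) := (rs D).rc_inj (by
          rw [rc_sref, rc_sref, pair_simple_simple, pair_simple_simple, rs_C, rs_C, h2, h3, RSys.rc_simple,
            RSys.rc_simple]
          simp [add_comm])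
        simp only [Equiv.Perm.mul_apply, e, e2, sref_sref]
  obtain ⟨w₁, hw₁, i, rfl⟩ := (rs D).exists_W_simple r
  obtain ⟨w₂, hw₂, j, rfl⟩ := (rs D).exists_W_simple s
  obtain ⟨v₁, hv₁, i', hi', e₁⟩ := key _ i rfl
  obtain ⟨v₂, hv₂, j', hj', e₂⟩ := key _ j rfl
  rw [← e₁, ← e₂, Aut.len_apply (W_le_Aut _ hw₁), Aut.len_apply (W_le_Aut _ hw₂), Aut.len_apply (W_le_Aut _ hv₁),
    Aut.len_apply (W_le_Aut _ hv₂)] at hl
  obtain rfl : i' = j' := by
    rcases h.2 i' i'.2 j' j'.2 with ((h1 | h1) | h1) | h1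
    · exact absurd hi' h1
    · exact absurd hj' h1
    · exact absurd hl h1
    · exact Fin.ext h1
  exact ⟨w₂ * v₂ * v₁⁻¹ * w₁⁻¹, mul_mem (mul_mem (mul_mem hw₂ hv₂) (inv_mem hv₁)) (inv_mem hw₁), by
    simp [← e₁, ← e₂]⟩

/-- Roots of equal length are conjugate under the Weyl group. -/
theorem exists_W_of_len_eq [h : Tab D] {r s : Fin D.nroots} (hl : (rs D).len r = (rs D).len s) :
    ∃ w ∈ (rs D).W, w r = s := by
  rcases h.isTab.cases with rfl | rfl | rfl | rfl | rfl | rfl | rfl
  · exact exists_W_of_check (par := []) (dep := []) (by decide +kernel) hl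
  · exact exists_W_of_check (par := []) (dep := []) (by decide +kernel) hl
  · exact exists_W_of_check (par := [0, 0, 1, 1]) (dep := [0, 1, 2, 2]) (by decide +kernel) hl
  · exact exists_W_of_check (par := [0, 0, 0, 2]) (dep := [0, 1, 0, 1]) (by decide +kernel) hl
  · exact exists_W_of_check (par := [0, 3, 0, 2, 3, 4]) (dep := [0, 3, 1, 2, 3, 4]) (by decide +kernel) hl
  · exact exists_W_of_check (par := [0, 3, 0, 2, 3, 4, 5]) (dep := [0, 3, 1, 2, 3, 4, 5]) (by decide +kernel) hl
  · exact exists_W_of_check (par := [0, 3, 0, 2, 3, 4, 5, 6]) (dep := [0, 3, 1, 2, 3, 4, 5, 6]) (by decide +kernel) hl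

variable {K : Type*} [Field K] {G : Type*} [Group G] [Tab D] {x : ℕ → K → G}

theorem StRel.XS_le_of_len (hx : StRel D x) {A : Subgroup G} (hN : hx.pre.N ≤ A) {r s : Fin D.nroots}
    (hl : (rs D).len r = (rs D).len s) (h : XS D x r ≤ A) : XS D x s ≤ A := by
  obtain ⟨w, hw, rfl⟩ := exists_W_of_len_eq hl
  intro g hg
  have h1 := hx.pre.nW_inv_conj_X hw _ hg
  rw [Equiv.Perm.inv_def, Equiv.symm_apply_apply] at h1
  have h2 := hN (hx.pre.nW_mem_N w)
  simpa [mul_assoc] using mul_mem (mul_mem h2 (h h1)) (inv_mem h2)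

theorem StRel.GS_le_of_short (hx : StRel D x) {A : Subgroup G} (hN : hx.pre.N ≤ A) {r a b k : Fin D.nroots} {c : ℤ}
    (h : XS D x r ≤ A) (ha : len D r = len D a) (hb : len D r = len D b) (hc : (c : K) ≠ 0)
    (hk : D.commTerms a b = [((k : ℕ), c, 1, 1)]) (hall : ∀ s < D.nroots, len D s = len D r ∨ len D s = len D k) :
    GS D x ≤ A := by
  have h1 := hx.XS_le_of_len hN (s := a) ha h
  have h2 := hx.XS_le_of_len hN (s := b) hb h
  have h3 : XS D x k ≤ A := fun g hg => by
    obtain ⟨t, rfl⟩ := hx.mem_XS_iff.mp hg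
    have := hx.comm_one a.2 b.2 hk (-1) (t / c)
    rw [show -((c : K) * -1 * (t / c)) = t by field_simp] at this
    rw [← this]
    exact mul_mem (mul_mem (mul_mem (inv_mem (h2 (x_mem_XS _ _))) (inv_mem (h1 (x_mem_XS _ _)))) (h2 (x_mem_XS _ _)))
      (h1 (x_mem_XS _ _))
  refine USub_le_iff.mpr fun s _ => ?_
  rcases hall s s.2 with h4 | h4
  · exact hx.XS_le_of_len hN h4.symm h
  · exact hx.XS_le_of_len hN h4.symm h3

theorem group_le_of_GS_le {A : Subgroup (D.group K)} {B : Subgroup (GL D.Idx K)} (h : GS D (ChevM.xG D K) ≤ A)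
    (hA : A.map (D.group K).subtype ≤ B) : D.group K ≤ B := fun g hg =>
  hA ⟨⟨g, hg⟩, h (by rw [GS_xG]; trivial), rfl⟩

theorem ne_zero_of_ringChar {p : ℕ} (hp : p.Prime) (h : ringChar K ≠ p) : (p : K) ≠ 0 := fun h1 =>
  ((Nat.dvd_prime hp).mp ((ringChar.spec K p).mp h1)).elim CharP.ringChar_ne_one h

theorem len_simple_of_short {D : ChevalleyDatum} (hD : D ∈ [chevB2, chevF4, chevG2]) : ∀ i < D.rank,
    (D.isLong (D.simple i) = false → len D (D.simple i) = 1) ∧ (D.isLong (D.simple i) = true → 1 < len D (D.simple i)) := by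
  simp only [List.mem_cons, List.not_mem_nil, or_false] at hD
  rcases hD with rfl | rfl | rfl <;> decide +kernel

theorem len_cases {D : ChevalleyDatum} (hD : D ∈ [chevB2, chevF4, chevG2]) : ∀ s < D.nroots,
    len D s = 1 ∨ len D s = len D 0 := by
  simp only [List.mem_cons, List.not_mem_nil, or_false] at hD
  rcases hD with rfl | rfl | rfl <;> decide +kernel

theorem group_le_N_sup_short (h2 : D ∈ [chevB2, chevF4] → ringChar K ≠ 2) (h3 : D = chevG2 → ringChar K ≠ 3)
    (i : ℕ) (hi : i < D.rank) (hshort : D.isLong (D.simple i) = false) :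
    D.group K ≤ D.monomialSubgroup K ⊔ D.rootSubgroup K (D.simple i) := by
  have hx := ChevM.stRel_xG D K
  refine group_le_of_GS_le (A := hx.pre.N ⊔ XS D (ChevM.xG D K) ((rs D).simple ⟨i, hi⟩)) ?_ (by
    rw [Subgroup.map_sup]; exact sup_le_sup ChevM.map_N.le (ChevM.map_X _).le)
  have hS : SLaced D → GS D (ChevM.xG D K) ≤ hx.pre.N ⊔ XS D (ChevM.xG D K) ((rs D).simple ⟨i, hi⟩) := fun h =>
    USub_le_iff.mpr fun s _ => hx.XS_le_of_len (r := (rs D).simple ⟨i, hi⟩) le_sup_left
      ((h.len_eq _).trans (h.len_eq _).symm) le_sup_right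
  rcases (Tab.isTab (D := D)).cases with rfl | rfl | rfl | rfl | rfl | rfl | rfl
  · have h1 := (len_simple_of_short (by simp) i hi).1 hshort
    exact hx.GS_le_of_short le_sup_left (a := ⟨2, by decide⟩) (b := ⟨3, by decide⟩) (k := ⟨0, by decide⟩) (c := 3)
      le_sup_right (h1.trans (by decide)) (h1.trans (by decide))
      (by simpa using ne_zero_of_ringChar Nat.prime_three (h3 rfl)) (by decide +kernel)
      (fun s hs => (len_cases (by simp) s hs).imp_left fun h => h.trans h1.symm)
  · have h1 := (len_simple_of_short (by simp) i hi).1 hshort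
    exact hx.GS_le_of_short le_sup_left (a := ⟨1, by decide⟩) (b := ⟨2, by decide⟩) (k := ⟨0, by decide⟩) (c := 2)
      le_sup_right (h1.trans (by decide)) (h1.trans (by decide))
      (by simpa using ne_zero_of_ringChar Nat.prime_two (h2 (by simp))) (by decide +kernel)
      (fun s hs => (len_cases (by simp) s hs).imp_left fun h => h.trans h1.symm)
  · exact hS inferInstance
  · have h1 := (len_simple_of_short (by simp) i hi).1 hshort
    exact hx.GS_le_of_short le_sup_left (a := ⟨3, by decide⟩) (b := ⟨18, by decide⟩) (k := ⟨0, by decide⟩) (c := 2)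
      le_sup_right (h1.trans (by decide +kernel)) (h1.trans (by decide +kernel))
      (by simpa using ne_zero_of_ringChar Nat.prime_two (h2 (by simp))) (by decide +kernel)
      (fun s hs => (len_cases (by simp) s hs).imp_left fun h => h.trans h1.symm)
  · exact hS inferInstance
  · exact hS inferInstance
  · exact hS inferInstance

theorem group_le_N_sup_two (hD : D ∈ [chevB2, chevF4, chevG2]) (i j : ℕ) (hi : i < D.rank) (hj : j < D.rank)
    (hshort : D.isLong (D.simple i) = false) (hlong : D.isLong (D.simple j) = true) :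
    D.group K ≤ D.monomialSubgroup K ⊔ D.rootSubgroup K (D.simple i) ⊔ D.rootSubgroup K (D.simple j) := by
  have hx := ChevM.stRel_xG D K
  refine group_le_of_GS_le (A := hx.pre.N ⊔ XS D (ChevM.xG D K) ((rs D).simple ⟨i, hi⟩) ⊔
    XS D (ChevM.xG D K) ((rs D).simple ⟨j, hj⟩)) (USub_le_iff.mpr fun s _ => ?_) (by
    rw [Subgroup.map_sup, Subgroup.map_sup]
    exact sup_le_sup (sup_le_sup ChevM.map_N.le (ChevM.map_X _).le) (ChevM.map_X _).le)
  have h1 := (len_simple_of_short hD i hi).1 hshort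
  have h2 := (len_simple_of_short hD j hj).2 hlong
  rcases len_cases hD s s.2 with h | h
  · exact hx.XS_le_of_len (r := (rs D).simple ⟨i, hi⟩) (le_sup_left.trans le_sup_left) (h1.trans h.symm)
      (le_sup_right.trans le_sup_left)
  · refine hx.XS_le_of_len (le_sup_left.trans le_sup_left) (Eq.trans ?_ h.symm) le_sup_right
    exact (len_cases hD _ (simple_lt hj)).resolve_left h2.ne'

end Cfsg.Agent.Chev
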