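import Mathlib
import Cfsg.Agent.Lib.Chev.DCoset
import Cfsg.Agent.Lib.Chev.Fix

/-! The Steinberg character and the Alvis-Curtis duality for a finite group with a root group datum. -/

set_option autoImplicit false
set_option linter.unusedSectionVars false

namespace Cfsg.Agent.Chev
open RSys Cfsg Cfsg.Agent.Char Cfsg.Agent.Fix
open scoped Classical

variable {ι I : Type*} [Fintype I] [DecidableEq I] {R : RSys ι I} {G : Type*} [Group G]
  [Fintype ι] [DecidableEq ι]

theorem RSys.w0J_inv (J : Set I) : (R.w0J J)⁻¹ = R.w0J J := inv_eq_of_mul_eq_one_right (w0J_mul_self J)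

theorem RSys.exists_w0J_simple {J : Set I} {j : I} (hj : j ∈ J) :
    ∃ k ∈ J, R.w0J J (R.simple j) = R.neg (R.simple k) := by
  have hA := R.WJ_le_Aut J (w0J_mem J)
  have h1 : R.InSub J (R.neg (R.w0J J (R.simple j))) :=
    inSub_neg.mpr ((inSub_apply_iff (w0J_mem J)).mpr (inSub_simple.mpr hj))
  have h2 : R.IsPos (R.neg (R.w0J J (R.simple j))) :=
    isPos_neg_iff.mpr (not_isPos_w0J (R.isPos_simple j) (inSub_simple.mpr hj))
  have hA' : R.w0 * R.w0J J ∈ R.Aut := mul_mem (R.W_le_Aut w0_mem) hA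
  obtain ⟨k, hk⟩ := Aut.exists_simple_of_apply hA' h2 (fun i hi => by
    have : i ∈ J := by_contra fun hi' => by rw [h1 i hi'] at hi; omega
    rw [Equiv.Perm.mul_apply, isPos_w0_iff]
    exact not_isPos_w0J (R.isPos_simple i) (inSub_simple.mpr this)) (i := R.opp j) (by
      rw [Aut.neg_apply hA', Equiv.Perm.mul_apply, ← Equiv.Perm.mul_apply (R.w0J J), w0J_mul_self,
        Equiv.Perm.one_apply, w0_simple, neg_neg'])
  refine ⟨k, by rw [hk] at h1; exact inSub_simple.mp h1, by rw [← hk, neg_neg']⟩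

/-- The special double coset representative. -/
theorem RSys.exists_sigma (J : Set I) : ∃ σ : I → I, (∀ j ∈ J, (R.w0J J * R.w0) (R.simple (σ j)) = R.simple j) ∧
    ∀ k, R.IsPos ((R.w0J J * R.w0) (R.simple k)) → ∃ j ∈ J, k = σ j := by
  have h : ∀ j, ∃ k, j ∈ J → (R.w0J J * R.w0) (R.simple k) = R.simple j := fun j => by
    by_cases hj : j ∈ J
    · obtain ⟨k, hk, e⟩ := exists_w0J_simple (R := R) hj
      refine ⟨R.opp k, fun _ => ?_⟩
      rw [Equiv.Perm.mul_apply, w0_simple, opp_opp, ← e, ← Equiv.Perm.mul_apply, w0J_mul_self,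
        Equiv.Perm.one_apply]
    · exact ⟨j, fun h => (hj h).elim⟩
  choose σ hσ using h
  refine ⟨σ, hσ, fun k hk => ?_⟩
  rw [Equiv.Perm.mul_apply, w0_simple] at hk
  have h1 : R.opp k ∈ J := by
    by_contra h
    rw [isPos_apply_iff_of_not_inSub (w0J_mem J) (by rwa [inSub_neg, inSub_simple])] at hk
    exact not_isPos_neg_simple _ hk
  obtain ⟨j, hj, e⟩ := exists_w0J_simple (R := R) h1
  refine ⟨j, hj, R.simple_inj ((R.w0J J * R.w0).injective ?_)⟩
  rw [hσ j hj, Equiv.Perm.mul_apply, w0_simple, Aut.neg_apply (R.WJ_le_Aut J (w0J_mem J)), e, neg_neg']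

theorem RSys.eq_w0J_mul_w0 {J : Set I} {d : Equiv.Perm ι} (hd : d ∈ R.W)
    (h2 : ∀ j ∈ J, R.IsPos (d⁻¹ (R.simple j)))
    (h : ∀ k, R.IsPos (d (R.simple k)) → ∃ j ∈ J, d (R.simple k) = R.simple j) : d = R.w0J J * R.w0 := by
  have : R.w0J J * d = R.w0 := eq_w0 (mul_mem (R.WJ_le_W J (w0J_mem J)) hd) fun k => by
    rw [Equiv.Perm.mul_apply]
    by_cases hk : R.IsPos (d (R.simple k))
    · obtain ⟨j, hj, e⟩ := h k hk
      rw [e]; exact not_isPos_w0J (R.isPos_simple j) (inSub_simple.mpr hj)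
    · rwa [isPos_apply_iff_of_not_inSub (w0J_mem J)]
      intro hin
      have := Aut.isPos_of_inSub (inv_mem (R.W_le_Aut hd)) h2 (isPos_neg_iff.mpr hk) (inSub_neg.mpr hin)
      rw [Aut.neg_apply (inv_mem (R.W_le_Aut hd))] at this
      simp only [Equiv.Perm.coe_inv, Equiv.symm_apply_apply] at this
      exact not_isPos_neg_simple _ this
  rw [← this, ← mul_assoc, w0J_mul_self, one_mul]

namespace PreRGD
variable {P : PreRGD R G}

theorem Nondeg.inf_cj_eq (hP : P.Nondeg) {J K : Set I} {d : Equiv.Perm ι} (hd : d ∈ R.W)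
    (h1 : ∀ k ∈ K, R.IsPos (d (R.simple k))) (h2 : ∀ j ∈ J, R.IsPos (d⁻¹ (R.simple j))) :
    P.PJ J ⊓ cj (P.nW d) (P.PJ K) =
      P.PJ J ⊓ cj (P.nW d) (P.PJ {k | k ∈ K ∧ ∃ j ∈ J, d (R.simple k) = R.simple j}) := by
  ext g
  simp only [Subgroup.mem_inf, mem_cj]
  refine and_congr_right fun hg => ⟨fun h => ?_, fun h => P.PJ_mono (fun k hk => hk.1) h⟩
  exact (hP.dcoset_unique hd hd h1 h1 h2 h2 hg h (by group)).2

theorem Nondeg.inf_cj_sigma (hP : P.Nondeg) {J K : Set I} (hKJ : K ⊆ J) {σ : I → I}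
    (hσ : ∀ j ∈ J, (R.w0J J * R.w0) (R.simple (σ j)) = R.simple j) :
    P.PJ J ⊓ cj (P.nW (R.w0J J * R.w0)) (P.PJ (σ '' K)) = P.LJ J ⊓ P.PJ K := by
  set d := R.w0J J * R.w0 with hdef
  have hJ := R.WJ_le_W J (w0J_mem J)
  have hd : d ∈ R.W := mul_mem hJ w0_mem
  have hσ' : ∀ j ∈ J, d⁻¹ (R.simple j) = R.simple (σ j) := fun j hj => by rw [← hσ j hj]; simp
  obtain ⟨k0, hk0, e0⟩ := P.exists_nW_inv hd
  ext g
  simp only [Subgroup.mem_inf, mem_cj]
  constructor
  · rintro ⟨hg, h⟩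
    constructor
    · obtain ⟨k, hk, e⟩ := P.exists_nW_mul hJ (w0_mem (R := R))
      have h1 : (P.nW (R.w0J J))⁻¹ * g * P.nW (R.w0J J) ∈ P.LJ J := by
        refine hP.mem_LJ_of_mem_PJ_PmJ ?_ ?_
        · have := P.NJ_le_PJ J (P.nW_mem_NJ (w0J_mem J))
          exact mul_mem (mul_mem (inv_mem this) hg) this
        · rw [hP.mem_PmJ_iff]
          have h3 : σ '' K ⊆ R.opp ⁻¹' J := by
            rintro _ ⟨j, hj, rfl⟩
            have h4 := hσ j (hKJ hj)
            rw [Equiv.Perm.mul_apply, w0_simple] at h4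
            have h5 : R.InSub J (R.w0J J (R.neg (R.simple (R.opp (σ j))))) := by
              rw [h4]; exact inSub_simple.mpr (hKJ hj)
            rwa [inSub_apply_iff (w0J_mem J), inSub_neg, inSub_simple] at h5
          have h4 := P.PJ_mono h3 h
          have h5 := P.B_le_PJ (R.opp ⁻¹' J) (P.H_le_B (mul_mem (w0_sq_mem_H (P := P)) (inv_mem hk)))
          have := mul_mem (mul_mem h5 h4) (inv_mem h5)
          rwa [show P.nW d = P.nW (R.w0J J) * P.nW R.w0 * k⁻¹ by rw [e, hdef]; group,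
            show P.nW R.w0 * P.nW R.w0 * k⁻¹ * ((P.nW (R.w0J J) * P.nW R.w0 * k⁻¹)⁻¹ * g *
              (P.nW (R.w0J J) * P.nW R.w0 * k⁻¹)) * (P.nW R.w0 * P.nW R.w0 * k⁻¹)⁻¹ =
              P.nW R.w0 * ((P.nW (R.w0J J))⁻¹ * g * P.nW (R.w0J J)) * (P.nW R.w0)⁻¹ by group] at this
      have h2 := hP.nW_mem_LJ (w0J_mem J)
      have := mul_mem (mul_mem h2 h1) (inv_mem h2)
      rwa [show P.nW (R.w0J J) * ((P.nW (R.w0J J))⁻¹ * g * P.nW (R.w0J J)) * (P.nW (R.w0J J))⁻¹ = g by group]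
        at this
    · have hp : ∀ j ∈ J, R.IsPos (d⁻¹ (R.simple j)) := fun j hj => by rw [hσ' j hj]; exact R.isPos_simple _
      have hp' : ∀ k ∈ σ '' K, R.IsPos (d⁻¹⁻¹ (R.simple k)) := by
        rintro _ ⟨j, hj, rfl⟩
        rw [inv_inv, hσ j (hKJ hj)]; exact R.isPos_simple _
      have hk1 := P.B_le_PJ J (P.H_le_B hk0)
      have := (hP.dcoset_unique (inv_mem hd) (inv_mem hd) hp hp hp' hp' h
        (mul_mem (mul_mem hk1 hg) (inv_mem hk1)) (by
          rw [show P.nW d⁻¹ = (P.nW d)⁻¹ * k0⁻¹ by rw [e0]; group]; group)).2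
      have h3 : P.PJ {k | k ∈ J ∧ ∃ j ∈ σ '' K, d⁻¹ (R.simple k) = R.simple j} ≤ P.PJ K := P.PJ_mono (by
        rintro k ⟨hk, _, ⟨j, hj, rfl⟩, e⟩
        rw [← hσ' j (hKJ hj)] at e
        rwa [R.simple_inj (d⁻¹.injective e)])
      have h4 := h3 this
      have hk2 := P.B_le_PJ K (P.H_le_B hk0)
      rwa [(P.PJ K).mul_mem_cancel_right (inv_mem hk2), (P.PJ K).mul_mem_cancel_left hk2] at h4
  · rintro ⟨hg, h⟩
    refine ⟨P.LJ_le_PJ J hg, ?_⟩
    obtain ⟨w, hw, u, hu, k, hk, v, hv, rfl⟩ := hP.mem_LJ_iff.mp hg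
    have hwK : w ∈ R.WJ K := hP.mem_WJ_of_mem_cell (R.WJ_le_W J hw)
      ((P.mem_cell_iff (R.WJ_le_W J hw)).mpr ⟨u, P.UL_le_U J hu, k, hk, v, hv, rfl⟩) h
    have hU : ∀ x ∈ P.UL J, (P.nW d)⁻¹ * x * P.nW d ∈ P.PJ (σ '' K) := fun x hx =>
      P.U_le_PJ _ (P.nW_inv_conj_US hd (fun s hs => Aut.isPos_of_inSub (inv_mem (R.W_le_Aut hd))
        (fun j hj => by rw [hσ' j hj]; exact R.isPos_simple _) hs.1 hs.2) hx)
    have h1 := nW_conj_NJ (P := P) (inv_mem hd) (K := K) (K' := σ '' K)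
      (fun j hj => ⟨σ j, ⟨j, hj, rfl⟩, hσ' j (hKJ hj)⟩)
      (mul_mem (mul_mem (mul_mem (P.H_le_NJ K hk0) (P.H_le_NJ K hk)) (P.nW_mem_NJ hwK)) (inv_mem (P.H_le_NJ K hk0)))
    have := mul_mem (mul_mem (hU u hu) (P.NJ_le_PJ _ h1)) (hU v (Uw_le_UL hw hv))
    rwa [show P.nW d⁻¹ = (P.nW d)⁻¹ * k0⁻¹ by rw [e0]; group, show (P.nW d)⁻¹ * u * P.nW d *
      ((P.nW d)⁻¹ * k0⁻¹ * (k0 * k * P.nW w * k0⁻¹) * ((P.nW d)⁻¹ * k0⁻¹)⁻¹) * ((P.nW d)⁻¹ * v * P.nW d) =
      (P.nW d)⁻¹ * (u * k * P.nW w * v) * P.nW d by group] at this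

variable [Fintype G]

variable (P) in
/-- The Steinberg character. -/
noncomputable def St : G → ℂ := fun g => ∑ K : Finset I, (-1) ^ K.card * fixedPointCharacter (P.PJ K) g

variable (P) in
/-- The duality operator. -/
noncomputable def dual (f : G → ℂ) : G → ℂ := ∑ J : Finset I, ((-1 : ℂ) ^ J.card) • hc (P.PJ J) (P.UJ J) f

theorem isGen_St : IsGeneralizedCharacter G P.St := by
  have : P.St = ∑ K : Finset I, (((-1 : ℤ) ^ K.card : ℤ) : ℂ) • fixedPointCharacter (P.PJ K) := by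
    ext g; simp [St]
  rw [this]
  exact isGen_sum _ fun K _ => isGen_intCast_smul (isGen_of_isChar (isChar_fixedPointCharacter _)) _

theorem isClass_St : IsClassFunction G P.St := isClass_of_isGen isGen_St

theorem dual_one : P.dual 1 = P.St := by
  ext g; simp [St, dual, hc_one]

theorem isClass_dual (f : G → ℂ) : IsClassFunction G (P.dual f) :=
  isClass_sum _ fun _ _ => isClass_smul _ (isClass_hc _ _ _)

theorem isGen_dual {χ : G → ℂ} (hχ : IsCharacter G χ) : IsGeneralizedCharacter G (P.dual χ) :=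
  isGen_sum _ fun K _ => by
    have := isGen_intCast_smul (isGen_hc (C := P.PJ K) (Q := P.UJ K) (fun c hc u hu => PJ_conj_UJ hc hu) hχ)
      ((-1) ^ K.card)
    simpa using this

theorem inner_dual {f h : G → ℂ} (hf : IsClassFunction G f) (hh : IsClassFunction G h) :
    classInner (P.dual f) h = classInner f (P.dual h) := by
  rw [dual, dual, inner_sum_left, inner_sum_right]
  refine Finset.sum_congr rfl fun J _ => ?_
  rw [Char.inner_smul_left, Char.inner_smul_right, inner_hc (P.UJ_le_PJ J) hf hh]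
  simp

theorem dual_mul {f : G → ℂ} (hf : IsClassFunction G f)
    (h : ∀ J : Finset I, ∀ c ∈ P.PJ J, ∀ u ∈ P.UJ J, f (u * c) = f c) (φ : G → ℂ) :
    P.dual (f * φ) = f * P.dual φ := by
  rw [dual, dual, Finset.mul_sum]
  refine Finset.sum_congr rfl fun J _ => ?_
  rw [hc_mul hf (h J), mul_smul_comm]

namespace Nondeg
variable (hP : P.Nondeg) (hfull : P.full = ⊤)
include hP hfull

/-- Restriction of the Steinberg character to a parabolic subgroup. -/
theorem St_restrict (J : Finset I) {g : G} (hg : g ∈ P.PJ J) :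
    P.St g = ∑ K ∈ J.powerset, (-1) ^ K.card * fix (P.PJ J) (P.LJ J ⊓ P.PJ K) g := by
  let DJ : Finset (Equiv.Perm ι) := Finset.univ.filter fun d => d ∈ R.W ∧ ∀ j ∈ J, R.IsPos (d⁻¹ (R.simple j))
  let Rd : Equiv.Perm ι → Finset I := fun d => Finset.univ.filter fun k => R.IsPos (d (R.simple k))
  have h1 : ∀ K : Finset I, fixedPointCharacter (P.PJ K) g =
      ∑ d ∈ DJ.filter (fun d => K ⊆ Rd d), fix (P.PJ J) (P.PJ J ⊓ cj (P.nW d) (P.PJ K)) g := fun K => by
    rw [← fix_top]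
    refine mackey _ _ _ _ (fun x => ?_) ?_ hg
    · obtain ⟨d, hd, h1, h2, h3⟩ := exists_dcoset (P := P) J K (g := x) (by rw [hfull]; trivial)
      exact ⟨d, by simpa [DJ, Rd, Finset.subset_iff] using ⟨⟨hd, h2⟩, h1⟩, h3⟩
    · intro d hd d' hd' c hc a ha e
      simp only [DJ, Rd, Finset.subset_iff, Finset.mem_filter, Finset.mem_univ, true_and] at hd hd'
      exact (hP.dcoset_unique hd.1.1 hd'.1.1 hd.2 hd'.2 hd.1.2 hd'.1.2 hc ha e).1
  have h2 : P.St g = ∑ d ∈ DJ, ∑ K ∈ (Rd d).powerset,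
      (-1) ^ K.card * fix (P.PJ J) (P.PJ J ⊓ cj (P.nW d) (P.PJ K)) g := by
    simp only [St, h1, Finset.mul_sum]
    refine Finset.sum_comm' fun K d => by simp [and_comm]
  obtain ⟨σ, hσ, hσ'⟩ := exists_sigma (R := R) (J : Set I)
  have hinj : Set.InjOn σ J := fun j hj j' hj' e => R.simple_inj (by rw [← hσ j hj, e, hσ j' hj'])
  rw [h2, Finset.sum_eq_single (R.w0J J * R.w0)]
  · have : Rd (R.w0J J * R.w0) = J.image σ := by
      ext k
      simp only [Rd, Finset.mem_filter, Finset.mem_univ, true_and, Finset.mem_image]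
      exact ⟨fun h => by obtain ⟨j, hj, e⟩ := hσ' k h; exact ⟨j, hj, e.symm⟩, by
        rintro ⟨j, hj, rfl⟩; rw [hσ j hj]; exact R.isPos_simple _⟩
    rw [this, Finset.powerset_image, Finset.sum_image]
    · refine Finset.sum_congr rfl fun K hK => ?_
      have hK' : (K : Set I) ⊆ J := Finset.mem_powerset.mp hK
      rw [Finset.card_image_of_injOn (hinj.mono hK'), Finset.coe_image, hP.inf_cj_sigma hK' hσ]
    · intro K hK K' hK' e
      have := (hinj.image_eq_image_iff (Finset.mem_powerset.mp hK) (Finset.mem_powerset.mp hK')).mp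
        (by simpa using congrArg (fun s : Finset I => (s : Set I)) e)
      exact_mod_cast this
  · intro d hd hne
    simp only [DJ, Finset.mem_filter, Finset.mem_univ, true_and] at hd
    obtain ⟨k, hk, hk'⟩ : ∃ k, R.IsPos (d (R.simple k)) ∧ ¬ ∃ j ∈ (J : Set I), d (R.simple k) = R.simple j := by
      by_contra hc
      push Not at hc
      exact hne (eq_w0J_mul_w0 hd.1 hd.2 hc)
    have hk1 : k ∈ Rd d := by simpa [Rd] using hk
    rw [← Finset.insert_erase hk1, Finset.sum_powerset_insert (Finset.notMem_erase _ _), ← Finset.sum_add_distrib]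
    refine Finset.sum_eq_zero fun K hK => ?_
    have hK' := Finset.mem_powerset.mp hK
    have hkK : k ∉ K := fun h => Finset.notMem_erase _ _ (hK' h)
    have a1 : ∀ i ∈ (K : Set I), R.IsPos (d (R.simple i)) := fun i hi => by
      simpa [Rd] using Finset.mem_of_mem_erase (hK' hi)
    have a2 : ∀ i ∈ ((insert k K : Finset I) : Set I), R.IsPos (d (R.simple i)) := fun i hi => by
      rcases Finset.mem_insert.mp hi with rfl | h
      · exact hk
      · exact a1 i h
    rw [hP.inf_cj_eq hd.1 a1 hd.2, hP.inf_cj_eq hd.1 a2 hd.2, Finset.card_insert_of_notMem hkK]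
    have : {i | i ∈ ((insert k K : Finset I) : Set I) ∧ ∃ j ∈ (J : Set I), d (R.simple i) = R.simple j} =
        {i | i ∈ (K : Set I) ∧ ∃ j ∈ (J : Set I), d (R.simple i) = R.simple j} := by
      ext i
      refine ⟨fun h => ⟨(Finset.mem_insert.mp h.1).resolve_left ?_, h.2⟩,
        fun h => ⟨Finset.mem_insert_of_mem h.1, h.2⟩⟩
      rintro rfl; exact hk' h.2
    rw [this]; ring
  · intro h
    refine (h ?_).elim
    simp only [DJ, Finset.mem_filter, Finset.mem_univ, true_and]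
    refine ⟨mul_mem (R.WJ_le_W _ (w0J_mem _)) w0_mem, fun j hj => ?_⟩
    rw [← hσ j hj]; simpa using R.isPos_simple _

theorem St_of_mem_B {g : G} (hg : g ∈ P.B) : P.St g = fix P.B P.H g := by
  have := hP.St_restrict hfull ∅ (g := g) (by simpa [PJ_empty] using hg)
  simpa [PJ_empty, LJ_empty, inf_of_le_left P.H_le_B] using this

theorem St_one : P.St 1 = Nat.card P.U := by
  rw [hP.St_of_mem_B hfull (one_mem _), fix_one, hP.card_B]
  have := card_ne P.H
  push_cast; field_simp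

omit hfull in
theorem mem_PJ_iff_inf {J K : Set I} (h : K ⊆ J) (y : G) :
    y ∈ P.PJ K ↔ ∃ u ∈ P.UJ J, ∃ a ∈ P.LJ J ⊓ P.PJ K, y = u * a := by
  have h1 : P.UJ J ≤ P.PJ K := (P.UJ_le_U J).trans (P.U_le_PJ K)
  constructor
  · intro hy
    obtain ⟨u, hu, l, hl, rfl⟩ := hP.mem_PJ_iff_levi.mp (P.PJ_mono h hy)
    exact ⟨u, hu, l, ⟨hl, ((P.PJ K).mul_mem_cancel_left (h1 hu)).mp hy⟩, rfl⟩
  · rintro ⟨u, hu, a, ha, rfl⟩
    exact mul_mem (h1 hu) ha.2

theorem avg_St (J : Finset I) {g : G} (hg : g ∈ P.PJ J) :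
    avg (P.UJ J) P.St g = ∑ K ∈ J.powerset, (-1) ^ K.card * fix (P.PJ J) (P.PJ K) g := by
  rw [avg_congr (f' := fun x => ∑ K ∈ J.powerset, (-1) ^ K.card * fix (P.PJ J) (P.LJ J ⊓ P.PJ K) x)
    (fun u hu => hP.St_restrict hfull J (mul_mem (P.UJ_le_PJ J hu) hg)), avg_sum]
  refine Finset.sum_congr rfl fun K hK => ?_
  rw [avg_fix (A := P.LJ J ⊓ P.PJ K) (fun c hc u hu => PJ_conj_UJ hc hu)
    (fun y hy hy' => hP.eq_one_of_mem_UJ_LJ hy hy'.1)
    (hP.mem_PJ_iff_inf (Finset.mem_powerset.mp hK))]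

theorem dual_St : P.dual P.St = 1 := by
  have h1 : ∀ J : Finset I, hc (P.PJ J) (P.UJ J) P.St =
      ∑ K ∈ J.powerset, ((-1 : ℂ) ^ K.card) • fixedPointCharacter (P.PJ K) := fun J => by
    have : (fun c : P.PJ J => avg (P.UJ J) P.St c) =
        ∑ K ∈ J.powerset, ((-1 : ℂ) ^ K.card) • fun c : P.PJ J => fix (P.PJ J) (P.PJ K) c := by
      ext c; rw [hP.avg_St hfull J c.2]; simp
    rw [hc, this, indFun_sum]
    refine Finset.sum_congr rfl fun K hK => ?_
    rw [indFun_smul, indFun_fix (P.PJ_mono (Finset.mem_powerset.mp hK))]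
  simp only [dual, h1, Finset.smul_sum, smul_smul]
  rw [Finset.sum_comm' (t' := Finset.univ) (s' := fun K => Finset.univ.filter (K ⊆ ·)) (by simp),
    Finset.sum_eq_single Finset.univ]
  · have : (Finset.univ.filter fun J : Finset I => Finset.univ ⊆ J) = {Finset.univ} := by
      ext J; simp
    rw [this, Finset.sum_singleton, ← pow_add, ← two_mul, pow_mul, Finset.coe_univ]
    have : P.PJ Set.univ = ⊤ := hfull
    rw [this, ← fix_top]
    ext g
    simp [fix, natCard_ne_zero]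
  · intro K _ hK
    rw [← Finset.sum_smul, ← Finset.sum_mul]
    obtain ⟨k, hk⟩ : ∃ k, k ∉ K := by
      by_contra hc
      push Not at hc
      exact hK (Finset.eq_univ_of_forall hc)
    rw [Finset.sum_involution (fun J _ => if k ∈ J then J.erase k else insert k J), zero_mul, zero_smul]
    · intro J _
      by_cases h : k ∈ J
      · rw [if_pos h, ← Finset.card_erase_add_one h]; ring
      · rw [if_neg h, Finset.card_insert_of_notMem h]; ring
    · intro J _ _
      by_cases h : k ∈ J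
      · rw [if_pos h]; exact Finset.erase_ne_self.mpr h
      · rw [if_neg h]; exact Finset.insert_ne_self.mpr h
    · intro J hJ
      simp only [Finset.mem_filter, Finset.mem_univ, true_and] at hJ ⊢
      by_cases h : k ∈ J
      · rw [if_pos h]; exact Finset.subset_erase.mpr ⟨hJ, hk⟩
      · rw [if_neg h]; exact hJ.trans (Finset.subset_insert _ _)
    · intro J _
      by_cases h : k ∈ J
      · simp [h]
      · simp [h]
  · simp

theorem isIrr_St : IsIrrCharacter G P.St := by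
  refine isIrr_of_isGen isGen_St ?_ (by rw [hP.St_one hfull]; simp)
  conv_lhs => enter [1]; rw [← dual_one]
  rw [inner_dual isClass_one isClass_St, hP.dual_St hfull, inner_one_one]

end Nondeg
end PreRGD
end Cfsg.Agent.Chev
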