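import Mathlib
import Cfsg.Agent.Lib.Chev.St
import Cfsg.Agent.Lib.Chev.Defect
import Cfsg.Agent.Lib.Chev.Kempf
import Cfsg.Agent.Lib.Chev.RGD3

/-! Values of the Steinberg character, unipotent elements, characters of defect zero. -/

set_option autoImplicit false
set_option linter.unusedSectionVars false

namespace Cfsg.Agent.Chev
open RSys Cfsg Cfsg.Agent.Char Cfsg.Agent.Fix
open scoped Classical ComplexConjugate

variable {ι I : Type*} [Fintype I] [DecidableEq I] {R : RSys ι I} {G : Type*} [Group G]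
  [Fintype ι] [DecidableEq ι] [Fintype G] {p : ℕ} [hp : Fact p.Prime]

namespace PreRGD.Nondeg
variable {P : PreRGD R G} (hP : P.Nondeg) (hfull : P.full = ⊤) (hU : IsPGroup p P.U) (hU' : ¬ p ∣ P.U.index)
include hP hfull hU hU'

omit hP hfull in
theorem card_U_eq : p ^ (Nat.card G).factorization p = Nat.card P.U := by
  rw [← Sylow.card_eq_multiplicity (hU.toSylow hU')]; rfl

/-- Borel-Tits for `p`-subgroups. -/
theorem exists_parabolic {Q : Subgroup G} (hQ : IsPGroup p Q) (hne : Q ≠ ⊥) :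
    ∃ y : G, ∃ J : Set I, J ≠ Set.univ ∧ (∀ x ∈ Q, y⁻¹ * x * y ∈ P.UJ J) ∧
      ∀ n, (∀ x ∈ Q, n⁻¹ * x * n ∈ Q) → y⁻¹ * n * y ∈ P.PJ J := by
  obtain ⟨k, -, hk⟩ := ChevM.exists_conj_le_of_sylow p (hU.toSylow hU') le_top le_top hQ
  obtain ⟨g, -, J, hJ, h1, h2⟩ := hP.borel_tits (X := {y | k⁻¹ * y * k ∈ Q})
    (fun y hy => by simpa [mul_assoc] using hk _ hy) (by
      obtain ⟨⟨x, hx⟩, hx1⟩ := Subgroup.ne_bot_iff_exists_ne_one.1 hne
      refine ⟨k * x * k⁻¹, by simpa [mul_assoc] using hx, fun h => hx1 ?_⟩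
      rw [mul_inv_eq_one, mul_eq_left] at h
      exact Subtype.ext h)
  refine ⟨k⁻¹ * g, J, hJ, fun x hx => ?_, fun n hn => ?_⟩
  · simpa [mul_assoc] using h1 (k * x * k⁻¹) (by simpa [mul_assoc] using hx)
  · simpa [mul_assoc] using h2 (k * n * k⁻¹) (by rw [hfull]; trivial) fun x hx => by
      simpa [mul_assoc] using hn _ hx

theorem St_eq_zero {g : G} (hg : p ∣ orderOf g) : P.St g = 0 :=
  irr_eq_zero_of_defect_zero (hP.isIrr_St hfull) (hP.St_one hfull) (card_U_eq hU hU').dvd hg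

omit hP hfull hU' in
theorem pow_eq_one_of_mem_U {N : ℕ} (hN : ∀ g : G, (∃ k, g ^ p ^ k = 1) ↔ g ^ N = 1) {u : G} (hu : u ∈ P.U) :
    u ^ N = 1 := by
  obtain ⟨k, hk⟩ := hU ⟨u, hu⟩
  exact (hN u).mp ⟨k, congrArg Subtype.val hk⟩

omit hU' in
theorem exists_St_eq {s : G} (hs : ¬ p ∣ orderOf s) : ∃ (t : G) (J : Finset I), IsConj s t ∧
    P.St s = (-1) ^ J.card * Nat.card (P.UJ J ⊓ Subgroup.centralizer {t} : Subgroup G) := by
  obtain ⟨N, hA, hB, hC, hD, -⟩ := exists_exponent (G := G) p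
  obtain ⟨J, hJ, hmin⟩ := Finset.exists_min_image
    (Finset.univ.filter fun J : Finset I => ∃ x : G, x⁻¹ * s * x ∈ P.PJ J) Finset.card
    ⟨Finset.univ, by
      have : P.PJ Set.univ = ⊤ := hfull
      simp [this]⟩
  simp only [Finset.mem_filter, Finset.mem_univ, true_and] at hJ hmin
  obtain ⟨x, hx⟩ := hJ
  obtain ⟨u, hu, l, hl, e⟩ := hP.mem_PJ_iff_levi.mp hx
  have hlP := P.LJ_le_PJ _ hl
  have hs' : (x⁻¹ * s * x) ^ N = x⁻¹ * s * x := by
    have := conj_pow (a := x⁻¹) (b := s) (i := N)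
    rw [inv_inv, hA s hs] at this
    exact this
  have hlN : l ^ N = l := by
    have h1 := mul_pow_mul_inv_mem (c := l) (fun v hv => PJ_conj_UJ hlP hv) hu N
    rw [← e, hs', e, mul_assoc, (P.UJ J).mul_mem_cancel_left hu] at h1
    have := hP.eq_one_of_mem_UJ_LJ h1 (mul_mem hl (inv_mem (pow_mem hl N)))
    rw [mul_inv_eq_one] at this
    exact this.symm
  obtain ⟨v, hv, e2⟩ := exists_conj_of_pow (U := P.UJ J) (s := l) (t := x⁻¹ * s * x)
    (fun v hv => PJ_conj_UJ hlP hv) hlN hs' (fun v hv => pow_eq_one_of_mem_U hU hB (P.UJ_le_U _ hv))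
    (by rw [e]; simpa using hu)
  have hc : IsConj s l := isConj_iff.mpr ⟨v⁻¹ * x⁻¹, by
    rw [show l = v⁻¹ * (v * l * v⁻¹) * v by group, ← e2]; group⟩
  refine ⟨l, J, hc, ?_⟩
  rw [class_eq_of_isConj isClass_St hc, hP.St_restrict hfull J hlP, Finset.sum_eq_single J]
  · congr 1
    rw [inf_of_le_left (P.LJ_le_PJ _), fix, sum_ite_eq_card]
    have := card_of_unique (A := P.UJ J ⊓ Subgroup.centralizer {l}) (C := P.LJ J)
      (S := {y | y ∈ P.PJ J ∧ y⁻¹ * l * y ∈ P.LJ J}) 1 (fun y => ?_) (fun a ha a' ha' b hb b' hb' e =>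
        hP.levi_unique ha.1 ha'.1 hb hb' (by simpa using e))
    · have h2 := card_ne (P.LJ J)
      rw [show Nat.card {y // y ∈ P.PJ J ∧ y⁻¹ * l * y ∈ P.LJ J} = _ from this]
      push_cast; field_simp
    · constructor
      · rintro ⟨h1, h2⟩
        obtain ⟨a, ha, b, hb, rfl⟩ := hP.mem_PJ_iff_levi.mp h1
        refine ⟨a, ⟨ha, ?_⟩, b, hb, by simp⟩
        have h3 : a⁻¹ * (l * a * l⁻¹) ∈ P.LJ J := by
          have := mul_mem (mul_mem (mul_mem hb h2) (inv_mem hb)) (inv_mem hl)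
          rwa [show b * ((a * b)⁻¹ * l * (a * b)) * b⁻¹ * l⁻¹ = a⁻¹ * (l * a * l⁻¹) by group] at this
        have := hP.eq_one_of_mem_UJ_LJ (mul_mem (inv_mem ha) (PJ_conj_UJ hlP ha)) h3
        rw [inv_mul_eq_one, eq_mul_inv_iff_mul_eq] at this
        exact Subgroup.mem_centralizer_singleton_iff.mpr this
      · rintro ⟨a, ⟨ha, ha'⟩, b, hb, rfl⟩
        refine ⟨mul_mem (mul_mem (P.UJ_le_PJ _ ha) (one_mem _)) (P.LJ_le_PJ _ hb), ?_⟩
        replace ha' := Subgroup.mem_centralizer_singleton_iff.mp ha'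
        rw [show (a * 1 * b)⁻¹ * l * (a * 1 * b) = b⁻¹ * (a⁻¹ * (l * a)) * b by group, ← ha']
        simpa using mul_mem (mul_mem (inv_mem hb) hl) hb
  · intro K hK hne
    rw [fix_eq_zero, mul_zero]
    intro y _ hy
    obtain ⟨c, hc⟩ := isConj_iff.mp hc
    have := hmin K ⟨c⁻¹ * y, by rw [← hc] at hy; simpa [mul_assoc] using hy.2⟩
    exact hne (Finset.eq_of_subset_of_card_le (Finset.mem_powerset.mp hK) this)
  · simp

theorem exists_St_eq_mul {s : G} {Q : Subgroup G} (hQ : IsPGroup p Q) (hs : ∀ u ∈ Q, u * s = s * u) :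
    ∃ n : ℤ, P.St s = Nat.card Q * n := by
  by_cases hne : Q = ⊥
  · subst hne
    obtain ⟨n, hn⟩ : ∃ n : ℤ, P.St s = n := ⟨∑ K : Finset I, (-1) ^ K.card *
      Nat.card (MulAction.fixedBy (G ⧸ P.PJ K) s), by simp [St, fixedPointCharacter]⟩
    exact ⟨n, by simp [hn]⟩
  obtain ⟨y, J, -, h1, h2⟩ := hP.exists_parabolic hfull hU hU' hQ hne
  have hs' : y⁻¹ * s * y ∈ P.PJ J.toFinset := by
    rw [Set.coe_toFinset]
    exact h2 s fun x hx => by rwa [mul_assoc, hs x hx, inv_mul_cancel_left]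
  have hcard : Nat.card Q = Nat.card (cj y⁻¹ Q) := by
    exact (Nat.card_congr ((MulAut.conj y⁻¹⁻¹).toEquiv.subtypeEquiv fun x => Iff.rfl)).symm
  rw [← class_conj' isClass_St s y, hP.St_restrict hfull _ hs', hcard]
  have hle : cj y⁻¹ Q ≤ P.UJ J.toFinset := fun x hx => by
    simpa [mul_assoc] using h1 _ (mem_cj.mp hx)
  choose n hn using fun K : Finset I => exists_fix_eq_mul (C := P.PJ J.toFinset)
    (A := P.LJ J.toFinset ⊓ P.PJ K) (Q := cj y⁻¹ Q) (s := y⁻¹ * s * y) (inf_le_left.trans (P.LJ_le_PJ _))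
    (hle.trans (P.UJ_le_PJ _)) (fun u hu => by
      have := hs _ (mem_cj.mp hu)
      calc u * (y⁻¹ * s * y) = y⁻¹ * (y⁻¹⁻¹ * u * y⁻¹ * s) * y := by group
        _ = _ := by rw [this]; group) (fun x hx u hu h => by
      have := hP.eq_one_of_mem_UJ_LJ (by simpa using PJ_conj_UJ (inv_mem hx) (hle hu)) h.1
      rw [show u = x * (x⁻¹ * u * x) * x⁻¹ by group, this]; simp)
  refine ⟨∑ K ∈ J.toFinset.powerset, (-1) ^ K.card * n K, ?_⟩
  simp only [hn]
  push_cast
  rw [Finset.mul_sum]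
  exact Finset.sum_congr rfl fun K _ => by ring

theorem St_semisimple {s : G} (hs : ¬ p ∣ orderOf s) :
    P.St s = ((p ^ (Nat.card (Subgroup.centralizer ({s} : Set G))).factorization p : ℕ) : ℂ) ∨
    P.St s = -((p ^ (Nat.card (Subgroup.centralizer ({s} : Set G))).factorization p : ℕ) : ℂ) := by
  obtain ⟨t, J, hc, e⟩ := hP.exists_St_eq hfull hU hs
  obtain ⟨Q⟩ : Nonempty (Sylow p (Subgroup.centralizer ({s} : Set G))) := inferInstance
  obtain ⟨n, hn⟩ := hP.exists_St_eq_mul hfull hU hU' (s := s)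
    (Q := (Q : Subgroup (Subgroup.centralizer ({s} : Set G))).map (Subgroup.subtype _)) (Q.isPGroup'.map _) (by
      rintro _ ⟨u, -, rfl⟩
      exact Subgroup.mem_centralizer_singleton_iff.mp u.2)
  rw [Subgroup.card_map_of_injective (Subgroup.subtype_injective _), Sylow.card_eq_multiplicity] at hn
  have h1 : IsPGroup p (P.UJ J ⊓ Subgroup.centralizer {t} : Subgroup G) :=
    hU.to_le (inf_le_left.trans (P.UJ_le_U _))
  obtain ⟨k, hk⟩ := h1.exists_card_eq
  have h2 : Nat.card (Subgroup.centralizer ({t} : Set G)) = Nat.card (Subgroup.centralizer ({s} : Set G)) := by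
    have a1 := card_isConj_eq_index s
    have a2 := card_isConj_eq_index t
    have a3 : Nat.card {x // IsConj s x} = Nat.card {x // IsConj t x} :=
      Nat.card_congr (Equiv.subtypeEquivRight fun x => ⟨hc.symm.trans, hc.trans⟩)
    have a4 := (Subgroup.centralizer ({s} : Set G)).index_mul_card
    have a5 := (Subgroup.centralizer ({t} : Set G)).index_mul_card
    rw [← a2, ← a3, a1, ← a4] at a5
    exact Nat.eq_of_mul_eq_mul_left (Nat.pos_of_ne_zero Subgroup.index_ne_zero_of_finite) a5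
  have h3 : k ≤ (Nat.card (Subgroup.centralizer ({s} : Set G))).factorization p := by
    rw [← hp.out.pow_dvd_iff_le_factorization Nat.card_pos.ne', ← hk, ← h2]
    exact Subgroup.card_dvd_of_le inf_le_right
  rw [hk] at e
  have h4 : ((p : ℤ) ^ (Nat.card (Subgroup.centralizer ({s} : Set G))).factorization p) * n =
      (-1) ^ J.card * (p : ℤ) ^ k := by
    rw [hn] at e; exact_mod_cast e
  have h5 : (Nat.card (Subgroup.centralizer ({s} : Set G))).factorization p ≤ k := by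
    have h6 : (p : ℤ) ^ (Nat.card (Subgroup.centralizer ({s} : Set G))).factorization p ∣ (p : ℤ) ^ k :=
      (IsUnit.dvd_mul_left ((isUnit_one.neg).pow _)).mp ⟨n, h4.symm⟩
    exact (Nat.pow_dvd_pow_iff_le_right hp.out.one_lt).mp (by exact_mod_cast h6)
  rw [← le_antisymm h3 h5, e]
  rcases neg_one_pow_eq_or ℂ J.card with h | h <;> simp [h]

theorem St_ne_zero {s : G} (hs : ¬ p ∣ orderOf s) : P.St s ≠ 0 := by
  have : (p : ℂ) ≠ 0 := by exact_mod_cast hp.out.ne_zero
  rcases hP.St_semisimple hfull hU hU' hs with h | h <;> simp [h, this]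

omit hU' in
theorem dual_mul_St {N : ℕ} (hB : ∀ g : G, (∃ k, g ^ p ^ k = 1) ↔ g ^ N = 1) (hD : ∀ g : G, (g ^ N) ^ N = g ^ N)
    {φ : G → ℂ} (hφ : IsClassFunction G φ) :
    P.dual ((fun g => φ (g ^ N)) * P.St) = (fun g => φ (g ^ N)) ∧
      P.dual (fun g => φ (g ^ N)) = (fun g => φ (g ^ N)) * P.St := by
  have h1 : IsClassFunction G fun g => φ (g ^ N) := fun g h => by simp only [conj_pow, hφ _ h]
  have h2 : ∀ J : Finset I, ∀ c ∈ P.PJ J, ∀ u ∈ P.UJ J, φ ((u * c) ^ N) = φ (c ^ N) := fun J c hc u hu => by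
    obtain ⟨v, -, e⟩ := exists_conj_of_pow (U := P.UJ J) (s := c ^ N) (t := (u * c) ^ N)
      (fun v hv => PJ_conj_UJ (pow_mem hc N) hv) (hD _) (hD _)
      (fun v hv => pow_eq_one_of_mem_U hU hB (P.UJ_le_U _ hv))
      (mul_pow_mul_inv_mem (fun v hv => PJ_conj_UJ hc hv) hu N)
    rw [e, hφ]
  constructor
  · rw [dual_mul h1 h2, hP.dual_St hfull, mul_one]
  · rw [← dual_one, ← dual_mul h1 h2, mul_one]

theorem card_unipotent : Nat.card {g : G // ∃ k : ℕ, orderOf g = p ^ k} = Nat.card P.U ^ 2 := by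
  obtain ⟨N, hA, hB, hC, hD, -⟩ := exists_exponent (G := G) p
  have hφ : IsClassFunction G fun g => if g = 1 then (1 : ℂ) else 0 := fun g h => by simp only [conj_eq_one_iff]
  have h1 : IsClassFunction G fun g => if g ^ N = 1 then (1 : ℂ) else 0 := fun g h => by
    simp only [conj_pow, conj_eq_one_iff]
  obtain ⟨e, -⟩ := hP.dual_mul_St hfull hU hB hD hφ
  have h2 := inner_dual (P := P) (isClass_mul h1 (isClass_St (P := P))) isClass_one
  rw [e, dual_one, classInner, classInner, mul_right_inj' (inv_ne_zero natCard_ne_zero),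
    eq_comm, Finset.sum_eq_single 1, eq_comm] at h2
  · simp only [Pi.one_apply, map_one, mul_one, sum_ite_eq_card, Pi.mul_apply, one_pow, if_true, one_mul,
      hP.St_one hfull, map_natCast] at h2
    rw [sq]
    refine Eq.trans (Nat.card_congr (Equiv.subtypeEquivRight fun g => ?_)) (by exact_mod_cast h2)
    rw [← hB]
    exact ⟨fun ⟨k, hk⟩ => ⟨k, by rw [← hk, pow_orderOf_eq_one]⟩, fun ⟨k, hk⟩ =>
      ((Nat.dvd_prime_pow hp.out).mp (orderOf_dvd_of_pow_eq_one hk)).imp fun _ h => h.2⟩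
  · intro g _ hg
    by_cases h : g ^ N = 1
    · rw [hP.St_eq_zero hfull hU hU', map_zero, mul_zero]
      by_contra h'
      exact hg (by rw [← hA g h', h])
    · simp [h]
  · simp

theorem eq_St_of_defect_zero (hgen : ∀ K : Subgroup G, K.Normal → P.U ≤ K → K = ⊤) {χ : G → ℂ}
    (hχ : IsIrrCharacter G χ) {d : ℕ} (hd : χ 1 = d) (hdvd : p ^ (Nat.card G).factorization p ∣ d) : χ = P.St := by
  obtain ⟨N, hA, hB, hC, hD, -⟩ := exists_exponent (G := G) p
  have hφ : IsClassFunction G fun g => χ g / P.St g := fun g h => by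
    simp only [isClass_of_irr hχ g h, isClass_St g h]
  have h1 : IsClassFunction G fun g => χ (g ^ N) / P.St (g ^ N) := fun g h => by
    simp only [conj_pow, isClass_of_irr hχ _ h, isClass_St _ h]
  obtain ⟨e, e'⟩ := hP.dual_mul_St hfull hU hB hD hφ
  set f : G → ℂ := fun g => χ (g ^ N) / P.St (g ^ N) with hf
  have h2 : f * P.St = χ := by
    ext g
    by_cases hg : p ∣ orderOf g
    · rw [Pi.mul_apply, hP.St_eq_zero hfull hU hU' hg, irr_eq_zero_of_defect_zero hχ hd hdvd hg, mul_zero]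
    · simp only [hf, Pi.mul_apply, hA g hg, div_mul_cancel₀ _ (hP.St_ne_zero hfull hU hU' hg)]
  rw [h2] at e e'
  have h3 : classInner f f = 1 := by
    conv_lhs => enter [1]; rw [← e]
    rw [inner_dual (isClass_of_irr hχ) h1, e', inner_irr_self hχ]
  have h4 : IsIrrCharacter G f := isIrr_of_isGen (e ▸ isGen_dual (isChar_of_irr hχ)) h3 (by
    simp only [hf, one_pow, hd, hP.St_one hfull]
    rw [← Complex.ofReal_natCast, ← Complex.ofReal_natCast, ← Complex.ofReal_div, Complex.ofReal_re]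
    positivity)
  have h5 := hgen _ (charKer_normal (isChar_of_irr h4)) fun u hu => by
    simp only [mem_charKer, hf, pow_eq_one_of_mem_U hU hB hu, one_pow]
  have h6 := irr_eq_one_of_const h4 fun g => (mem_charKer (isChar_of_irr h4)).mp (h5 ▸ Subgroup.mem_top g)
  rw [← h2, h6, one_mul]

theorem card_blocks (hgen : ∀ K : Subgroup G, K.Normal → P.U ≤ K → K = ⊤)
    (hC : ∀ J : Set I, J ≠ Set.univ → ∀ g, (∀ u ∈ P.UJ J, Commute g u) → g ∈ P.UJ J) (hne : P.U ≠ ⊥)
    {M : Ideal AlgInt} (hM : IsPModular p M) : Nat.card {B : Set (IrrCharacter G) // IsPBlock M B} = 2 := by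
  have := hM.2.1.isPrime
  have h1 : ∀ χ : IrrCharacter G, (χ : G → ℂ) ≠ P.St → SameBlock M (χ : G → ℂ) 1 := fun χ hχ => by
    obtain ⟨d, -, hd⟩ := exists_pos_degree χ.2
    refine sameBlock_one hM (fun u hu => ?_) χ.2 hd fun h => hχ (hP.eq_St_of_defect_zero hfull hU hU' hgen χ.2 hd h)
    obtain ⟨y, J, hJ, a1, a2⟩ := hP.exists_parabolic hfull hU hU' (Q := Subgroup.zpowers u)
      (IsPGroup.of_card (n := 1) (by rw [Nat.card_zpowers, hu, pow_one]))
      (fun h => by rw [Subgroup.zpowers_eq_bot] at h; rw [h, orderOf_one] at hu; exact hp.out.one_lt.ne hu)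
    refine ⟨cj y (P.PJ J), cj y (P.UJ J), fun x hx => P.UJ_le_PJ J hx,
      (hU.to_le (P.UJ_le_U J)).comap_of_injective _ (MulAut.conj y⁻¹).injective, fun h hh q hq => ?_,
      fun x hx => mem_cj.mpr (a2 x fun v hv => ?_), fun x hx => mem_cj.mpr (hC J hJ _ fun v hv => ?_)⟩
    · simpa [mem_cj, mul_assoc] using PJ_conj_UJ (mem_cj.mp hh) (mem_cj.mp hq)
    · obtain ⟨k, rfl⟩ := Subgroup.mem_zpowers_iff.mp hv
      rw [mul_assoc, ← (hx.zpow_right k).eq, inv_mul_cancel_left]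
      exact hv
    · have := (hx (y * v * y⁻¹) (by simpa [mem_cj, mul_assoc] using hv)).eq
      change y⁻¹ * x * y * v = v * (y⁻¹ * x * y)
      calc _ = y⁻¹ * (x * (y * v * y⁻¹)) * y := by group
        _ = _ := by rw [this]; group
  have h2 : ¬ SameBlock M P.St 1 := fun h => by
    have : Nontrivial P.U := (Subgroup.nontrivial_iff_ne_bot _).mpr hne
    have := hU.center_nontrivial
    obtain ⟨⟨⟨u, hu⟩, hu'⟩, hu1⟩ := exists_ne (1 : Subgroup.center P.U)
    have a1 : p ∣ orderOf u := by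
      obtain ⟨k, hk⟩ := hU ⟨u, hu⟩
      obtain ⟨j, -, hj⟩ := (Nat.dvd_prime_pow hp.out).mp (orderOf_dvd_of_pow_eq_one (congrArg Subtype.val hk :))
      rcases j with _ | j
      · exact (hu1 (Subtype.ext (Subtype.ext (orderOf_eq_one_iff.mp hj)))).elim
      · exact hj ▸ dvd_pow_self p j.succ_ne_zero
    have a2 := locIdeal_neg (h u)
    simp only [centralChar, hP.St_eq_zero hfull hU hU' a1, mul_zero, zero_div, zero_sub, neg_neg, Pi.one_apply,
      mul_one, div_one] at a2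
    refine hU' (((locIdeal_natCast_iff hM _).mp a2).trans (Subgroup.index_dvd_of_le fun v hv => ?_))
    exact Subgroup.mem_centralizer_singleton_iff.mpr (congrArg Subtype.val (Subgroup.mem_center_iff.mp hu' ⟨v, hv⟩))
  rw [card_isPBlock (fun χ : IrrCharacter G => decide ((χ : G → ℂ) = P.St))]
  · rw [Set.range_eq_univ.mpr]
    · simp
    · intro b
      cases b
      · refine ⟨⟨1, isIrr_one⟩, ?_⟩
        simp only [decide_eq_false_iff_not]
        intro h
        exact h2 (h ▸ sameBlock_refl _)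
      · exact ⟨⟨_, hP.isIrr_St hfull⟩, by simp⟩
  · intro χ ψ
    by_cases a1 : (χ : G → ℂ) = P.St <;> by_cases a2 : (ψ : G → ℂ) = P.St <;>
      simp only [a1, a2, decide_true, decide_false, iff_true, Bool.true_eq_false, Bool.false_eq_true, iff_false]
    · exact sameBlock_refl _
    · exact fun h => h2 (sameBlock_trans h (h1 ψ a2))
    · exact fun h => h2 (sameBlock_trans (sameBlock_symm h) (h1 χ a1))
    · exact sameBlock_trans (h1 χ a1) (sameBlock_symm (h1 ψ a2))

end PreRGD.Nondeg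
end Cfsg.Agent.Chev

namespace Cfsg.Agent.ChevM
open Cfsg.Lie Cfsg.Agent.Chev Cfsg.Agent.Chev.RSys Cfsg.Agent.Chev.PreRGD

variable {D : ChevalleyDatum} [hD : GoodM D] {F : Type*} [Field F]

theorem steinberg_eq : D.steinbergCharacter F = (PG D F).St := by
  ext g
  rw [ChevalleyDatum.steinbergCharacter, St]
  refine (Finset.sum_nbij' (fun K : Finset (Fin D.rank) => K.map Fin.valEmbedding)
    (fun J => Finset.univ.filter fun i => i.val ∈ J) (fun K _ => ?_) (by simp) (fun K _ => by ext; simp [Fin.val_inj])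
    (fun J hJ => ?_) fun K _ => ?_).symm
  · simp [Finset.subset_iff]
  · ext i
    simp only [Finset.mem_map, Finset.mem_filter, Finset.mem_univ, true_and, Fin.valEmbedding_apply]
    exact ⟨by rintro ⟨j, hj, rfl⟩; exact hj,
      fun h => ⟨⟨i, Finset.mem_range.mp (Finset.mem_powerset.mp hJ h)⟩, h, rfl⟩⟩
  · rw [Finset.card_map, parabolicIn_eq, Finset.coe_map]
    exact congrArg (fun J => _ * fixedPointCharacter ((PG D F).PJ J) g) (JF_image _).symm

theorem eq_top_of_normal {K : Subgroup (D.group F)} (hK : K.Normal) (hU : (PG D F).U ≤ K) : K = ⊤ :=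
  eq_top_of_simple (fun j t => hU (xG_mem_U ((rs D).isPos_simple j) t)) fun j t => by
    have := hK.conj_mem _ (hU (w0_inv_conj_V (xG_mem_V (not_isPos_neg_simple j) t))) ((PG D F).nW (rs D).w0)
    simpa [mul_assoc] using this

end Cfsg.Agent.ChevM
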