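import Mathlib
import Cfsg.Agent.Lib.Chev.Jordan
import Cfsg.Agent.Lib.Chev.St2

/-! Prime divisors of element orders: parabolic subgroups and maximal tori. -/

set_option autoImplicit false
set_option linter.unusedSectionVars false

namespace Cfsg.Agent.Chev
open Cfsg.Lie RSys PreRGD Matrix Cfsg.Agent.Generic
open ChevM (KeyOK PG sb)

variable {D : ChevalleyDatum} [Tab D] {c : TabCert} {F : Type*} [Field F] [Finite F]

theorem card_PJ_mul (J : Set (Fin D.rank)) : (Nat.card ((PG D F).PJ J) * Nat.card (ChevM.cm D (F := F)).ker : ℤ) =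
    Nat.card F ^ (D.nroots / 2) * (Nat.card F - 1) ^ D.rank * (rs D).pw J (Nat.card F) := by
  classical
  have hP := ChevM.nondeg D F
  have h1 := hP.card_PJ J
  rw [← Finset.mul_sum, hP.card_B, ChevM.card_U, Finset.sum_congr rfl fun w hw =>
    hP.card_Uw ChevM.card_X ((rs D).WJ_le_W J (by simpa using hw))] at h1
  have h2 : Nat.card (PG D F).H * Nat.card (ChevM.cm D (F := F)).ker = (Nat.card F - 1) ^ D.rank := by
    have : (ChevM.cm D (F := F)).ker = (ChevM.hG D).ker := by ext; simp [ChevM.hG_eq_one_iff]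
    rw [ChevM.PG_H_eq, this, ← Subgroup.index_ker, Subgroup.index_mul_card, Nat.card_pi, Finset.prod_const,
      Nat.card_units, Finset.card_univ, Fintype.card_fin]
  have h3 := congrArg (Nat.cast : ℕ → ℤ) h2
  push_cast [Nat.card_pos (α := F), Nat.one_le_iff_ne_zero.2 (Nat.card_pos (α := F)).ne'] at h3
  rw [← h3, h1, RSys.pw]
  push_cast
  ring

theorem dvd_of_mem_PJ (hc : Agree D c) {l : List PStep} (h : stepsOK D c l = true) {g : D.group F}
    (hg : g ∈ (PG D F).PJ {i | i.val ∈ l.map PStep.j}) {r : ℕ} (hr : r.Prime) (hd : r ∣ orderOf g) :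
    (r : ℤ) ∣ Nat.card F * (Nat.card F - 1) * (l.map fun s => evPoin (Nat.card F) s.cnt).prod := by
  have h1 := (Int.natCast_dvd_natCast.2 (hd.trans (Subgroup.orderOf_dvd_natCard _ hg))).mul_right
    (Nat.card (ChevM.cm D (F := F)).ker)
  have hp := Nat.prime_iff_prime_int.1 hr
  rw [card_PJ_mul, pw_steps hc h, hp.dvd_mul, hp.dvd_mul] at h1
  rw [hp.dvd_mul, hp.dvd_mul]
  exact h1.imp_left fun h => h.imp hp.dvd_of_dvd_pow hp.dvd_of_dvd_pow

omit [Finite F] in
theorem US_le_PJ (hc : Agree D c) {p : ℕ → Bool} {L : List ℕ} (h : (allLt D.nroots fun r => !p r ||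
    decide (D.nroots ≤ 2 * r) || allLt D.rank fun i => decide (i ∈ L) || decide (c.rc D r i = 0)) = true) :
    (PG D F).US (sb D p) ≤ (PG D F).PJ {i | i.val ∈ L} := by
  simp only [allLt_iff, Bool.or_eq_true, Bool.not_eq_true', decide_eq_true_eq] at h
  refine USub_le_iff.2 fun r hr => ?_
  rcases h r r.2 with (h | h) | h
  · exact absurd hr (by simp [sb, h])
  · exact ((PG D F).X_le_U ((rs_isPos_iff_le r).2 h)).trans ((PG D F).U_le_PJ _)
  · exact (PG D F).X_le_PJ fun i hi => (hc.rc r i).trans ((h i i.2).resolve_left hi)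

end Cfsg.Agent.Chev
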