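import Mathlib
import Cfsg.Agent.Lib.Chev.Prime

/-! Element orders through the maximal tori; polynomial identities in Weyl groups. -/

set_option autoImplicit false
set_option linter.unusedSectionVars false

namespace Cfsg.Agent.Chev
open Cfsg.Lie RSys PreRGD Matrix Cfsg.Agent.Generic
open ChevM (KeyOK PG sb force force_eq xG fm keyOK_F4)

variable {D : ChevalleyDatum} [Tab D] {c : TabCert}

/-- The image of the root `r` under the automorphism with images `L` of the fundamental roots. -/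
def appL (D : ChevalleyDatum) (c : TabCert) (L : List ℕ) (r : ℕ) : ℕ :=
  c.look (sumLt D.rank (fun i => c.rc D r i * ((c.K (L.getD i 0) : ℤ) - c.K0)) + c.K0).toNat

/-- Run through the possible images of the fundamental roots. -/
def enumA (D : ChevalleyDatum) (c : TabCert) (P : List ℕ → Bool) (m : ℕ) : List ℕ → Bool :=
  Nat.rec P (fun m ih L => allLt D.nroots fun r => force r fun r => !(allLt L.length fun t =>
    force (L.getD t 0) fun s => decide (c.pairing D r s = c.car m (D.simple (m + 1 + t))) &&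
    decide (c.pairing D s r = c.car (m + 1 + t) (D.simple m))) || ih (r :: L)) m

/-- An entry of a polynomial in the matrix of an automorphism. -/
def pevL (D : ChevalleyDatum) (c : TabCert) (L : List ℕ) (j : ℕ) (f : List ℤ) : ℕ → ℤ :=
  List.rec (fun _ => 0) (fun a _ ih r => a * c.cor r j + force (appL D c L r) ih) f

/-- Every automorphism is a root of one of the polynomials `Fs`. -/
def polyB (D : ChevalleyDatum) (c : TabCert) (Fs : List (List ℤ)) : Bool :=
  enumA D c (fun L => !allL Fs fun f => !allLt D.rank fun i => allLt D.rank fun j =>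
    decide (pevL D c L j f (D.simple i) = 0)) D.rank []

section enum
variable (hc : KeyOK D c) {w : Equiv.Perm (Fin D.nroots)} (hw : w ∈ (rs D).Aut)
include hc hw

theorem appL_eq {L : List ℕ} (hL : ∀ i : Fin D.rank, L.getD i 0 = w ((rs D).simple i)) (r : Fin D.nroots) :
    appL D c L r = w r := by
  have h1 := hc.K_eq (w r)
  refine (hc.look_of ?_).1
  rw [← h1, Int.toNat_of_nonneg] <;> rw [Aut.rc_apply hw, lin_apply, map_sum] at h1 <;>
    simp only [sumLt_eq_fin, hL, hc.K_eq, add_sub_cancel_right, ← hc.rc, map_smul, smul_eq_mul] at h1 ⊢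
  · exact h1.symm
  · rw [← h1, ← hc.K_eq]; exact Int.natCast_nonneg _

theorem enumA_sound {P : List ℕ → Bool} {m : ℕ} {L : List ℕ} (h : enumA D c P m L = true) (hm : m + L.length = D.rank)
    (hL : ∀ t (ht : m + t < D.rank), L.getD t 0 = w ((rs D).simple ⟨m + t, ht⟩)) :
    ∃ L : List ℕ, (∀ i : Fin D.rank, L.getD i 0 = w ((rs D).simple i)) ∧ P L = true := by
  induction m generalizing L with
  | zero => exact ⟨L, fun i => by simpa using hL i (by simp), h⟩
  | succ m ih =>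
    have h1 := allLt_iff.1 h (w ((rs D).simple ⟨m, by omega⟩)) (Fin.is_lt _)
    rw [force_eq, Bool.or_eq_true, Bool.not_eq_true', ← Bool.not_eq_true, allLt_iff] at h1
    refine ih (h1.resolve_left (not_not.2 fun t ht => ?_)) (by simp; omega) fun t ht => ?_
    · rw [force_eq, Bool.and_eq_true, decide_eq_true_eq, decide_eq_true_eq, hL t (by omega), ← hc.pair, ← hc.pair, Aut.pair_apply hw, Aut.pair_apply hw, hc.pair_simple, hc.pair_simple]
      exact ⟨rfl, rfl⟩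
    · cases t with
      | zero => rfl
      | succ t => simpa [add_assoc, add_comm 1 t] using hL t (by omega)

theorem exists_poly {Fs : List (List ℤ)} (h : polyB D c Fs = true) : ∃ f ∈ Fs, ∀ {M : Type*} [CommGroup M] (q : ℕ),
    ∀ a ∈ TA M ((rs D).cw w) q, a ^ evPoin q f = 1 := by
  obtain ⟨L, hL, h1⟩ := enumA_sound hc hw h (by simp) (fun t ht => absurd ht (by omega))
  rw [Bool.not_eq_true', ← Bool.not_eq_true, allL_iff] at h1
  simp only [not_forall, Bool.not_eq_true', Bool.not_eq_false, allLt_iff, decide_eq_true_eq] at h1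
  obtain ⟨f, hf, h1⟩ := h1
  refine ⟨f, hf, fun q a ha => ?_⟩
  have key : ∀ f : List ℤ, ∃ A : Matrix (Fin D.rank) (Fin D.rank) ℤ, a ^ evPoin q f = mp A a ∧
      ∀ (r : Fin D.nroots) (j : Fin D.rank), (A *ᵥ (rs D).cc r) j = pevL D c L j f r := fun f => by
    induction f with
    | nil => exact ⟨0, by ext; simp [evPoin, mp_apply], by simp [pevL]⟩
    | cons b f ih =>
      obtain ⟨A, h2, h3⟩ := ih
      refine ⟨b • 1 + A * (rs D).cw w, ?_, fun r j => ?_⟩
      · rw [mp_add, mp_smul, mp_one, mp_mul, ← mem_TA.1 ha, map_pow, ← h2, ← zpow_natCast, ← _root_.zpow_mul,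
          ← _root_.zpow_add, mul_comm]
        rfl
      · rw [add_mulVec, ← mulVec_mulVec, cw_mulVec_cc hw, Pi.add_apply, h3, ← appL_eq hc hw hL, smul_mulVec,
          one_mulVec, Pi.smul_apply, rs_cc, hc.cor r r.2 j j.2]
        exact congrArg _ (force_eq _ _).symm
  obtain ⟨A, h2, h3⟩ := key f
  obtain rfl : A = 0 := by
    ext j i
    simpa [cc_simple, h1 i i.2 j j.2] using h3 ((rs D).simple i) j
  rw [h2]; ext; simp [mp_apply]

end enum

theorem xG_pow {K : Type*} [Field K] (r : ℕ) (t : K) (n : ℕ) : xG D K r t ^ n = xG D K r (n * t) := by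
  induction n with
  | zero => simp [ChevM.xG_zero]
  | succ n ih => rw [pow_succ, ih, ChevM.xG_add]; simp [add_mul]

section finite
variable {F : Type*} [Field F] [Finite F] (h : ExpC D 1) (p : ℕ) [hp : Fact p.Prime] [CharP F p]
local notation "k" => AlgebraicClosure F
include h

theorem exists_TA {g : D.group F} (hg : p.Coprime (orderOf g)) :
    ∃ w ∈ (rs D).W, ∃ a ∈ TA kˣ ((rs D).cw w) (Nat.card F), orderOf a = orderOf g := by
  have := Fintype.ofFinite F
  obtain ⟨φ, hφ⟩ := exists_frob_closure F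
  have A := alg_xG h p hφ
  obtain ⟨z, a, e⟩ := A.exists_conj_tor hg (s := fm D (algebraMap F k) g) (by rw [← map_pow, pow_orderOf_eq_one, map_one])
  obtain ⟨w, hw, e1⟩ := A.exists_W_of_fixed (tor_xG_injective h) (s := (· ^ Nat.card F))
    (A.frob.map_tor A.full A.one_lt) (e ▸ (fm_fixed_iff h hφ).2 ⟨g, rfl⟩)
  refine ⟨w, hw, a, e1, ?_⟩
  rw [← orderOf_injective _ (ChevM.fm_injective (algebraMap F k)) g, e, ← MulAut.conj_apply, MulEquiv.orderOf_eq,
    orderOf_injective _ (tor_xG_injective h)]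

include p in
theorem exists_orderOf_xG {φ : k →+* k} (hφ : ∀ t, φ t = t ^ Nat.card F) {g c : D.group k} (e : c * fm D φ g * c⁻¹ = g) :
    ∃ γ : D.group F, orderOf γ = orderOf g :=
  exists_orderOf_of_isConj ((alg_xG h p hφ).lang_top (m := 1) one_pos fun _ => rfl) (ChevM.fm_injective _)
    (fun _ => (fm_fixed_iff h hφ).1) e

theorem exists_of_TA {w : Equiv.Perm (Fin D.nroots)} (hw : w ∈ (rs D).W) {a : Fin D.rank → kˣ}
    (ha : a ∈ TA kˣ ((rs D).cw w) (Nat.card F)) : (∃ g : D.group F, orderOf g = orderOf a) ∧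
    ∀ r, w r = r → chi D a r = 1 → ∃ g : D.group F, orderOf g = orderOf a * p := by
  have := Fintype.ofFinite F
  obtain ⟨φ, hφ⟩ := exists_frob_closure F
  have A := alg_xG h p hφ
  have h1 := (A.frob.tw_tor_iff A.full A.one_lt hw a).2 (congrArg _ ha)
  have h0 := orderOf_injective _ (tor_xG_injective h) a
  refine ⟨h0 ▸ exists_orderOf_xG h p hφ h1, fun r hr e => ?_⟩
  obtain ⟨c, hc, h2, -⟩ := ChevM.nW_conj_xG (F := k) hw r
  have hc0 : c ≠ 0 := by rcases hc with rfl | rfl <;> simp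
  obtain ⟨t, ht⟩ := IsAlgClosed.exists_pow_nat_eq c (n := Nat.card F - 1) (by have := A.one_lt; omega)
  have ht0 : t ≠ 0 := by rintro rfl; rw [zero_pow (by have := A.one_lt; omega)] at ht; exact hc0 ht.symm
  have h3 : Commute (A.full.tor a) (xG D k r t) := by
    have := A.full.tor_conj a r t
    rw [e, Units.val_one, one_mul, mul_inv_eq_iff_eq_mul] at this
    exact this
  have h4 : orderOf (xG D k r t) = p := orderOf_eq_prime (by rw [xG_pow, CharP.cast_eq_zero, zero_mul, ChevM.xG_zero]) (ChevM.xG_ne_one r ht0)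
  rw [← h0, ← h4, ← h3.orderOf_mul_eq_mul_orderOf_of_coprime (h4 ▸ (A.coprime_orderOf_tor a).symm)]
  refine exists_orderOf_xG h p hφ (c := (A.full.P.nW w)⁻¹) ?_
  rw [← tw_apply, map_mul, h1, tw_apply, ChevM.fm_xG, hφ, ← pow_sub_one_mul A.one_lt.ne_bot, ht, ← hr, ← h2, hr]
  rw [show A.full.P = PG D k from rfl]
  group

include p in
theorem exists_TA_prime {w : Equiv.Perm (Fin D.nroots)} (hw : w ∈ (rs D).W) {r : ℕ} (hr : r.Prime)
    (hd : (r : ℤ) ∣ ((Nat.card F : ℤ) • (1 : Matrix (Fin D.rank) (Fin D.rank) ℤ) - (rs D).cw w).det) :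
    ∃ a ∈ TA kˣ ((rs D).cw w) (Nat.card F), orderOf a = r := by
  have := Fintype.ofFinite F
  obtain ⟨φ, hφ⟩ := exists_frob_closure F
  have A := alg_xG h p hφ
  have := Fact.mk hr
  obtain ⟨m, hm, e⟩ := exists_cw_pow ((rs D).W_le_Aut hw)
  have h1 := det_sub_pos hm e (q := Nat.card F) (by exact_mod_cast A.one_lt)
  rw [← card_TA ((rs D).W_le_Aut hw) A.one_lt A.cast_eq_zero] at hd h1
  have := Nat.finite_of_card_ne_zero (α := TA kˣ ((rs D).cw w) (Nat.card F)) (by omega)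
  obtain ⟨a, ha⟩ := exists_prime_orderOf_dvd_card' r (Int.natCast_dvd_natCast.1 hd)
  exact ⟨a, a.2, by simpa using ha⟩

theorem exists_order_mul {w : Equiv.Perm (Fin D.nroots)} (hw : w ∈ (rs D).W) {r s : ℕ} (hr : r.Prime) (hs : s.Prime)
    (hrs : r ≠ s) (h1 : (r : ℤ) ∣ ((Nat.card F : ℤ) • (1 : Matrix (Fin D.rank) (Fin D.rank) ℤ) - (rs D).cw w).det)
    (h2 : (s : ℤ) ∣ ((Nat.card F : ℤ) • (1 : Matrix (Fin D.rank) (Fin D.rank) ℤ) - (rs D).cw w).det) :
    ∃ g : D.group F, orderOf g = r * s := by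
  have := Fintype.ofFinite F
  obtain ⟨p, hp, -, hp', -⟩ := FiniteField.card' F
  have := Fact.mk hp'
  obtain ⟨a, ha, rfl⟩ := exists_TA_prime h p hw hr h1
  obtain ⟨b, hb, rfl⟩ := exists_TA_prime h p hw hs h2
  rw [← (Commute.all a b).orderOf_mul_eq_mul_orderOf_of_coprime ((Nat.coprime_primes hr hs).2 hrs)]
  exact (exists_of_TA h p hw (mul_mem ha hb)).1

theorem exists_order_mul_char {w : Equiv.Perm (Fin D.nroots)} (hw : w ∈ (rs D).W) {s : ℕ} (hs : s.Prime)
    (h1 : (s : ℤ) ∣ ((Nat.card F : ℤ) • (1 : Matrix (Fin D.rank) (Fin D.rank) ℤ) - (rs D).cw w).det)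
    (h2 : ¬ (s : ℤ) ∣ Nat.card F - 1) {r : Fin D.nroots} (hr : w r = r) : ∃ g : D.group F, orderOf g = s * p := by
  obtain ⟨a, ha, rfl⟩ := exists_TA_prime h p hw hs h1
  refine (exists_of_TA h p hw ha).2 r hr ?_
  have h3 := chi_cw ((rs D).W_le_Aut hw) a r
  rw [← mem_TA.1 ha, hr, chi_pow, ← zpow_natCast, ← mul_inv_eq_one, ← _root_.zpow_sub_one, ← orderOf_dvd_iff_zpow_eq_one] at h3
  have h4 : orderOf (chi D a r) ∣ orderOf a := orderOf_dvd_of_pow_eq_one (by
    rw [← chi_pow, pow_orderOf_eq_one]; simp [chi_eq_mp])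
  exact orderOf_eq_one_iff.1 (((Nat.dvd_prime hs).1 h4).resolve_right fun e => h2 (e ▸ h3))

omit h in
theorem exists_conj_PJ {g u : D.group F} (hu : orderOf u = p) (hc : Commute g u) :
    ∃ (y : D.group F) (i : Fin D.rank), y⁻¹ * g * y ∈ (PG D F).PJ {i}ᶜ := by
  have := Fintype.ofFinite (D.group F)
  obtain ⟨y, J, hJ, -, h1⟩ := (ChevM.nondeg D F).exists_parabolic ChevM.PG_full (ChevM.isPGroup_U p)
    (ChevM.not_dvd_index_U p) (Q := Subgroup.zpowers u) (IsPGroup.of_card (n := 1) (by rw [Nat.card_zpowers, hu, pow_one]))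
    (by rintro e; rw [Subgroup.zpowers_eq_bot.1 e, orderOf_one] at hu; exact hp.out.one_lt.ne hu)
  obtain ⟨i, hi⟩ := (Set.ne_univ_iff_exists_notMem J).1 hJ
  refine ⟨y, i, (PG D F).PJ_mono (by simpa using hi) (h1 g ?_)⟩
  rintro _ ⟨n, rfl⟩
  rw [mul_assoc, ← (hc.zpow_right n).eq, inv_mul_cancel_left]
  exact ⟨n, rfl⟩

end finite

/-- The determinant of a `4 × 4` table. -/
def det4 (M : ℕ → ℕ → ℤ) : ℤ :=
  M 0 0 * (M 1 1 * (M 2 2 * M 3 3 - M 2 3 * M 3 2) - M 1 2 * (M 2 1 * M 3 3 - M 2 3 * M 3 1) +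
    M 1 3 * (M 2 1 * M 3 2 - M 2 2 * M 3 1)) -
  M 0 1 * (M 1 0 * (M 2 2 * M 3 3 - M 2 3 * M 3 2) - M 1 2 * (M 2 0 * M 3 3 - M 2 3 * M 3 0) +
    M 1 3 * (M 2 0 * M 3 2 - M 2 2 * M 3 0)) +
  M 0 2 * (M 1 0 * (M 2 1 * M 3 3 - M 2 3 * M 3 1) - M 1 1 * (M 2 0 * M 3 3 - M 2 3 * M 3 0) +
    M 1 3 * (M 2 0 * M 3 1 - M 2 1 * M 3 0)) -
  M 0 3 * (M 1 0 * (M 2 1 * M 3 2 - M 2 2 * M 3 1) - M 1 1 * (M 2 0 * M 3 2 - M 2 2 * M 3 0) +
    M 1 2 * (M 2 0 * M 3 1 - M 2 1 * M 3 0))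

theorem det_mx4 (A : List (List ℤ)) (q : ℤ) :
    (q • 1 - mx 4 A).det = det4 fun i j => (if i = j then q else 0) - en A i j := by
  set M := fun i j => (if i = j then q else 0) - en A i j
  rw [show q • 1 - mx 4 A = !![M 0 0, M 0 1, M 0 2, M 0 3; M 1 0, M 1 1, M 1 2, M 1 3;
    M 2 0, M 2 1, M 2 2, M 2 3; M 3 0, M 3 1, M 3 2, M 3 3] by
      ext i j; rw [Matrix.sub_apply, Matrix.smul_apply, one_apply]; fin_cases i <;> fin_cases j <;> simp [M, mx]]
  simp [det_succ_row_zero, Fin.sum_univ_succ, Fin.succAbove, det4]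
  ring

theorem cw_wR_eq (hc : KeyOK D c) {l : List ℕ} {A : List (List ℤ)} (h : (allL l (fun r => decide (r < D.nroots)) &&
    allLt D.rank fun j => allLt D.rank fun i => decide (c.cor (wB D c l (D.simple i)) j = en A j i)) = true) :
    (rs D).cw (wR D l) = mx D.rank A := by
  simp only [Bool.and_eq_true, allL_iff, allLt_iff, decide_eq_true_eq] at h
  ext j i
  rw [hc.cw_wR h.1, h.2 j j.2 i i.2]; rfl

theorem det_F4 (q : ℤ) : (q • 1 - (rs chevF4).cw (wR _ [33, 27, 24])).det = (q + 1) * (q ^ 3 - 1) ∧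
    (q • 1 - (rs chevF4).cw (wR _ [33, 27, 25])).det = (q - 1) * (q ^ 3 + 1) ∧
    (q • 1 - (rs chevF4).cw (wR _ [33, 27, 25, 27, 25])).det = q ^ 4 - 1 ∧
    (q • 1 - (rs chevF4).cw (wR _ [33, 27, 25, 27, 25, 24])).det = q ^ 4 + 1 ∧
    (q • 1 - (rs chevF4).cw (wR _ [33, 27, 25, 24])).det = q ^ 4 - q ^ 2 + 1 ∧
    (q • 1 - (rs chevF4).cw (wR _ [33, 27])).det = (q - 1) * (q ^ 3 - 1) := by
  rw [cw_wR_eq keyOK_F4 (A := [[0, -1, 1, 0], [1, -1, 1, 0], [0, 0, 1, 0], [0, 0, 1, -1]]) (by decide +kernel),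
    cw_wR_eq keyOK_F4 (A := [[0, 1, -1, 1], [1, 1, -1, 1], [0, 2, -1, 1], [0, 0, 0, 1]]) (by decide +kernel),
    cw_wR_eq keyOK_F4 (A := [[1, -1, 0, 1], [2, -1, 0, 1], [2, 0, -1, 2], [0, 0, 0, 1]]) (by decide +kernel),
    cw_wR_eq keyOK_F4 (A := [[1, -1, 1, -1], [2, -1, 1, -1], [2, 0, 1, -2], [0, 0, 1, -1]]) (by decide +kernel),
    cw_wR_eq keyOK_F4 (A := [[0, 1, 0, -1], [1, 1, 0, -1], [0, 2, 0, -1], [0, 0, 1, -1]]) (by decide +kernel),
    cw_wR_eq keyOK_F4 (A := [[0, -1, 1, 0], [1, -1, 1, 0], [0, 0, 1, 0], [0, 0, 0, 1]]) (by decide +kernel)]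
  refine ⟨?_, ?_, ?_, ?_, ?_, ?_⟩ <;> refine (det_mx4 _ q).trans ?_ <;> simp [en, det4] <;> ring

theorem polyB_F4 : polyB chevF4 certF4
    [[-1, -1, 0, 1, 1], [-1, 1, 0, -1, 1], [-1, 0, 0, 0, 1], [1, 0, 0, 0, 1], [1, 0, -1, 0, 1]] = true := by
  decide +kernel

end Cfsg.Agent.Chev
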