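/-
The small Ree groups `²G₂(q)` as groups of fixed points: coordinates on the Sylow `3`-subgroup.
-/
import Cfsg.Agent.Lib.Chev.Jordan

set_option autoImplicit false

namespace Cfsg.Agent.Chev

open Cfsg.Lie RSys PreRGD Matrix Cfsg.Agent.Generic

variable {K : Type*} [Field K] {G : Type*} [Group G] {x : ℕ → K → G} {φ : K →+* K} {σ : G →* G}

/-- The levels of the maximal unipotent subgroup of `²G₂`. -/
def levG2 : LevD := ⟨3, byteAt 0x040205030100000000000000, byteAt 0x020102010000000000000000, byteAt 0x0b0a06⟩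

theorem levOK_G2 : LevOK chevG2 twG2 levG2 := levOK_of_check (by decide +kernel)

variable (x φ) in
/-- The fixed elements of `U`. -/
def rW (t u v : K) : G :=
  x 7 (φ t) * x 6 t * x 8 (φ t * t + φ u) * x 9 (φ t ^ 2 * t + φ v) * x 10 u * x 11 v

variable (x φ) in
/-- The fixed elements of `V`. -/
def rV (t u v : K) : G :=
  x 4 (-φ t) * x 5 (-t) * x 3 (-(φ t * t + φ u)) * x 2 (-(φ t ^ 2 * t + φ v)) * x 1 (-u) * x 0 (-v)

/-- The word of `rW`, with variables starting at `n`. -/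
def rL (n : ℕ) : List (ℕ × Pol) :=
  [(7, [(1, [n + 1])]), (6, [(1, [n])]), (8, [(1, [n + 1, n]), (1, [n + 3])]), (9, [(1, [n + 1, n + 1, n]), (1, [n + 5])]),
    (10, [(1, [n + 2])]), (11, [(1, [n + 4])])]

/-- The image of the word `rL`. -/
def rL' : List (ℕ × Pol) :=
  [(6, [(1, [0])]), (7, [(1, [1])]), (10, [(1, [0, 1, 1, 1]), (1, [2])]), (11, [(1, [0, 0, 1, 1, 1]), (1, [4])]),
    (8, [(1, [3])]), (9, [(1, [5])])]

/-- The negative of a word. -/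
def ngL (w : List (ℕ × Pol)) : List (ℕ × Pol) := w.map fun a => (11 - a.1, a.2.map fun t => (-t.1, t.2))

variable (φ) in
/-- The variables of the word `rL`. -/
def rv (t u v : K) (i : ℕ) : K := [t, φ t, u, φ u, v, φ v].getD i 0

theorem rW_eq (t u v : K) : rW x φ t u v = evS x (rv φ t u v) (rL 0) := by
  simp [rW, rL, rv, mul_assoc, sq]

theorem rV_eq (t u v : K) : rV x φ t u v = evS x (rv φ t u v) (ngL (rL 0)) := by
  simp [rV, rL, ngL, rv, mul_assoc, sq, add_comm]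

theorem rW_eq_word {e : ℕ} (hφ : ∀ t, φ t = t ^ e) (t u v : K) : rW x φ t u v = wordVal x (reeWordU e t u v) := by
  simp [rW, reeWordU, hφ, mul_assoc, pow_succ, pow_mul', g2a, g2b, g2ab, g2aab, g2aaab, g2aaabb]

theorem rV_eq_word {e : ℕ} (hφ : ∀ t, φ t = t ^ e) (t u v : K) : rV x φ t u v = wordVal x (reeWordV e t u v) := by
  have : ∀ r < 12, chevG2.negIdx[r]?.getD 0 = 11 - r := by decide +kernel
  simp [rV, reeWordV, reeWordU, ChevalleyDatum.negWord, hφ, mul_assoc, pow_succ, pow_mul', g2a, g2b, g2ab, g2aab, g2aaab,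
    g2aaabb, this]

namespace IsTw

variable (h : IsTw chevG2 twG2 x φ σ)

theorem orb_G2 (i : Fin chevG2.rank) : h.fold.orb i = Set.univ :=
  have : ∀ i j : Fin chevG2.rank, ∃ n < 2, twG2.ν^[n] i = j := by decide +kernel
  Set.eq_univ_of_forall fun j => let ⟨n, _, e⟩ := this i j; h.mem_orb_of n e

theorem UL_G2 (i : Fin chevG2.rank) : h.chv.rel.pre.UL (h.fold.orb i) = h.chv.rel.pre.U :=
  congrArg (USub (XS chevG2 x)) (Set.ext fun r => by simp [h.orb_G2, InSub])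

theorem VL_G2 (i : Fin chevG2.rank) : h.chv.rel.pre.VL (h.fold.orb i) = h.chv.rel.pre.V :=
  congrArg (USub (XS chevG2 x)) (Set.ext fun r => by simp [h.orb_G2, InSub])

theorem rW_mem (t u v : K) : rW x φ t u v ∈ h.chv.rel.pre.U := by
  rw [rW_eq]
  refine evS_mem_USub _ fun a ha => ?_
  have : ∀ a ∈ rL 0, a.1 < 12 ∧ 12 ≤ 2 * a.1 := by decide +kernel
  exact ⟨(this a ha).1, (rs_isPos_iff_le _).2 (this a ha).2⟩

theorem rV_mem (t u v : K) : rV x φ t u v ∈ h.chv.rel.pre.V := by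
  rw [rV_eq]
  refine evS_mem_USub _ fun a ha => ?_
  have : ∀ a ∈ ngL (rL 0), a.1 < 12 ∧ ¬ 12 ≤ 2 * a.1 := by decide +kernel
  exact ⟨(this a ha).1, fun e => (this a ha).2 ((rs_isPos_iff_le _).1 e)⟩

include h in
theorem σ_G2 (t : K) : (σ (x 7 t) = x 6 (φ t ^ 3) ∧ σ (x 6 t) = x 7 (φ t) ∧ σ (x 8 t) = x 10 (φ t ^ 3) ∧
    σ (x 9 t) = x 11 (φ t ^ 3) ∧ σ (x 10 t) = x 8 (φ t) ∧ σ (x 11 t) = x 9 (φ t)) ∧
    σ (x 4 t) = x 5 (φ t ^ 3) ∧ σ (x 5 t) = x 4 (φ t) ∧ σ (x 3 t) = x 1 (φ t ^ 3) ∧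
    σ (x 2 t) = x 0 (φ t ^ 3) ∧ σ (x 1 t) = x 3 (φ t) ∧ σ (x 0 t) = x 2 (φ t) := by
  refine ⟨⟨?_, ?_, ?_, ?_, ?_, ?_⟩, ?_, ?_, ?_, ?_, ?_, ?_⟩ <;>
    first | exact h.σ_eq' (by decide +kernel) t | exact h.σ_eq (by decide +kernel) t

include h in
theorem rV_ne_one : rV x φ 0 0 1 ≠ 1 := fun e => by
  have h0 : ∀ r < 12, x r 0 = 1 := fun r hr => h.chv.rel.zero hr
  have h1 : x 2 (-1) = (x 0 (-1))⁻¹ := by simpa [rV, h0, mul_eq_one_iff_eq_inv] using e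
  have h2 := h.chv.nondeg.eq_of_mem_X_X (r := ⟨2, by decide⟩) (s := ⟨0, by decide⟩) (x_mem_XS _ (-1))
    (h1 ▸ inv_mem (x_mem_XS (x := x) ⟨0, by decide⟩ (-1))) fun e =>
      one_ne_zero (neg_eq_zero.1 (h.chv.eq_zero (r := ⟨2, by decide⟩) e))
  simp at h2

include h in
theorem iter_G2 (r : Fin chevG2.nroots) (t : K) : σ^[2] (x r t) = x r (φ (φ t) ^ 3) := by
  have h1 : twG2.π (twG2.π r) = r ∧ twG2.e r * twG2.e (twG2.π r) = 3 ∧ twG2.ε r = 1 ∧ twG2.ε (twG2.π r) = 1 := by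
    revert r; decide +kernel
  rw [Function.iterate_succ_apply, Function.iterate_one, h.map, h.map ⟨_, h.tw.lt r r.2⟩, h1.1, h1.2.2.1, h1.2.2.2,
    Int.cast_one, one_mul, one_mul, map_pow, ← pow_mul, h1.2.1]

variable (hφ2 : ∀ t, φ (φ t) ^ 3 = t) [CharP K 3]
include h hφ2

omit hφ2 in
theorem rW_eq' (t u v : K) : rW x φ t u v = evS x (rv φ t u v) rL' := by
  have : Fact (Nat.Prime 3) := ⟨Nat.prime_three⟩
  rw [rW_eq, evS_eq_of_check h.chv.rel (collFor_G2 3 (ordOf chevG2 certG2 [1, 1])) (charOK_of K 3) _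
    (w' := rL') (by decide +kernel)]

theorem σ_rW (t u v : K) : σ (rW x φ t u v) = rW x φ t u v := by
  have : Fact (Nat.Prime 3) := ⟨Nat.prime_three⟩
  conv_rhs => rw [h.rW_eq']
  simp only [rW, map_mul, h.σ_G2]
  simp [rL', rv, add_pow_char, mul_pow, hφ2, mul_assoc, pow_right_comm _ 2 3]
  simp [pow_succ, mul_assoc]

theorem σ_rV (t u v : K) : σ (rV x φ t u v) = rV x φ t u v := by
  have : Fact (Nat.Prime 3) := ⟨Nat.prime_three⟩
  conv_rhs => rw [rV_eq, evS_eq_of_check h.chv.rel (collFor_G2 3 (ordOf chevG2 certG2 [-1, -1])) (charOK_of K 3) _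
    (w' := ngL rL') (by decide +kernel)]
  simp only [rV, map_mul, h.σ_G2, map_neg, Odd.neg_pow (show Odd 3 by decide)]
  simp [rL', ngL, rv, add_pow_char, mul_pow, hφ2, mul_assoc, pow_right_comm _ 2 3]
  simp [pow_succ, mul_assoc, add_comm]

theorem ok_G2 : h.fold.OK := ⟨h.chv.nondeg, fun i => ⟨_, h.VL_G2 i ▸ h.rV_mem 0 0 1, h.σ_rV hφ2 0 0 1, h.rV_ne_one⟩⟩

theorem rW_mul (t u v t' u' v' : K) : rW x φ t u v * rW x φ t' u' v' =
    rW x φ (t + t') (u + u' - t * φ t' ^ 3) (v + v' - u * t' - t ^ 2 * φ t' ^ 3 + t * t' * φ t' ^ 3) := by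
  have : Fact (Nat.Prime 3) := ⟨Nat.prime_three⟩
  have e := evS_eq_of_check h.chv.rel (collFor_G2 3 (ordOf chevG2 certG2 [1, 1])) (charOK_of K 3)
    (fun i => [t, φ t, u, φ u, v, φ v, t', φ t', u', φ u', v', φ v'].getD i 0) (w := rL 0 ++ rL 6)
    (w' := [(7, [(1, [1]), (1, [7])]), (6, [(1, [0]), (1, [6])]),
      (8, [(1, [1, 0]), (1, [7, 0]), (1, [7, 6]), (1, [3]), (1, [9])]),
      (9, [(1, [1, 1, 0]), (2, [1, 7, 0]), (3, [1, 7, 6]), (1, [7, 7, 0]), (1, [7, 7, 6]), (1, [5]), (1, [11]),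
        (-1, [3, 7])]), (10, [(1, [2]), (1, [8]), (-1, [0, 7, 7, 7])]),
      (11, [(1, [4]), (1, [10]), (-1, [2, 6]), (-1, [0, 0, 7, 7, 7]), (1, [0, 6, 7, 7, 7])])]) (by decide +kernel)
  simp only [rW, map_add, map_sub, map_mul, map_pow, hφ2]
  convert e using 1
  · simp [rL, mul_assoc, sq]
  · simp only [evS_cons, evS_nil, mul_one, mul_assoc]
    refine congrArg₂ _ ?_ (congrArg₂ _ ?_ (congrArg₂ _ ?_ (congrArg₂ _ ?_ (congrArg₂ _ ?_ ?_)))) <;>
      refine congrArg _ ?_ <;> simp <;> ring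

omit hφ2 [CharP K 3] in
theorem rW_zero : rW x φ 0 0 0 = 1 := by
  have h0 : ∀ r < 12, x r 0 = 1 := fun r hr => h.chv.rel.zero hr
  simp [rW, h0]

theorem rW_cube (t u v : K) : rW x φ t u v ^ 3 = rW x φ 0 0 (-(t ^ 2 * φ t ^ 3)) := by
  have h3 : (3 : K) = 0 := CharP.cast_eq_zero K 3
  rw [pow_succ, sq, h.rW_mul hφ2, h.rW_mul hφ2]
  congr 1
  · linear_combination t * h3
  · linear_combination (u - t * φ t ^ 3) * h3
  · linear_combination (v - u * t) * h3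

omit hφ2 [CharP K 3] in
theorem rW_inj {t u v t' u' v' : K} (e : rW x φ t u v = rW x φ t' u' v') : t = t' ∧ u = u' ∧ v = v' := by
  let L : List (Fin chevG2.nroots) := [⟨7, by decide⟩, ⟨6, by decide⟩, ⟨8, by decide⟩, ⟨9, by decide⟩,
    ⟨10, by decide⟩, ⟨11, by decide⟩]
  let c : K → K → K → Fin chevG2.nroots → K := fun t u v r =>
    [0, 0, 0, 0, 0, 0, t, φ t, φ t * t + φ u, φ t ^ 2 * t + φ v, u, v].getD r 0
  have h1 : ∀ t u v, rW x φ t u v = (L.map fun r : Fin chevG2.nroots => x r (c t u v r)).prod := fun t u v => by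
    simp only [rW, mul_assoc, L, List.map_cons, List.prod_cons, List.map_nil, List.prod_nil, mul_one]; rfl
  have h2 := h.chv.nondeg.prod_unique halfSpace_pos (L := L) (by decide) (by
    simp only [Set.mem_ofPred_eq, rs_isPos_iff_le]; decide) (f := fun r => x r (c t u v r))
    (g := fun r => x r (c t' u' v' r)) (fun r _ => x_mem_XS r _) (fun r _ => x_mem_XS r _) (by rw [← h1, ← h1, e])
  exact ⟨h.chv.x_injective _ (h2 ⟨6, by decide⟩ (by decide)), h.chv.x_injective _ (h2 ⟨10, by decide⟩ (by decide)),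
    h.chv.x_injective _ (h2 ⟨11, by decide⟩ (by decide))⟩

variable [Finite K]

theorem eq_rW {g : G} (hg : g ∈ h.chv.rel.pre.U) (e : σ g = g) : ∃ t u v, g = rW x φ t u v := by
  have h0 : ∀ r < 12, x r 0 = 1 := fun r hr => h.chv.rel.zero hr
  have E := (h.ok_G2 hφ2).emb_gen
  let S := h.filt levOK_G2 E
  let y : K → K → K → h.fold.gen := fun t u v =>
    ⟨_, (h.ok_G2 hφ2).U_le_gen (h.rW_mem t u v) (h.σ_rW hφ2 t u v)⟩
  have f0 : ∀ t, y t 0 0 ∈ S.F 0 ∧ S.c 0 (y t 0 0) = t := fun t => by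
    simpa [rv] using h.filt_word levOK_G2 E (i := 0) (by decide) (g := y t 0 0) (h.rW_eq' t 0 0) (by decide +kernel)
  have f1 : ∀ u, y 0 u 0 ∈ S.F 1 ∧ S.c 1 (y 0 u 0) = u := fun u => by
    simpa using h.filt_word levOK_G2 E (i := 1) (by decide) (g := y 0 u 0) (v := fun i => [u, φ u].getD i 0)
      (P := [(1, [0])]) (w := [(8, [(1, [1])])]) ((h.rW_eq' 0 u 0).trans (by simp [rL', rv, h0]; rfl)) (by decide +kernel)
  have f2 : ∀ v, y 0 0 v ∈ S.F 2 ∧ S.c 2 (y 0 0 v) = v := fun v => by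
    simpa using h.filt_word levOK_G2 E (i := 2) (by decide) (g := y 0 0 v) (v := fun i => [v, φ v].getD i 0)
      (P := [(1, [0])]) (w := [(9, [(1, [1])])]) ((h.rW_eq' 0 0 v).trans (by simp [rL', rv, h0]; rfl)) (by decide +kernel)
  have g0 : (⟨g, (h.ok_G2 hφ2).U_le_gen hg e⟩ : h.fold.gen) ∈ S.F 0 := h.filt_F_zero levOK_G2 E ▸ hg
  have g1 := Filt.inv_mul_mem (show 0 < 3 by decide) (f0 _).1 g0 (f0 _).2
  have g2 := Filt.inv_mul_mem (show 1 < 3 by decide) (f1 _).1 g1 (f1 _).2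
  have g3 := Filt.inv_mul_mem (show 2 < 3 by decide) (f2 _).1 g2 (f2 _).2
  rw [show S.F (2 + 1) = ⊥ from S.top, Subgroup.mem_bot, inv_mul_eq_one, eq_inv_mul_iff_mul_eq,
    eq_inv_mul_iff_mul_eq] at g3
  have g4 := congrArg Subtype.val g3
  simp only [Subgroup.coe_mul, y, h.rW_mul hφ2] at g4
  exact ⟨_, _, _, g4.symm⟩

theorem gen_G2 {e : ℕ} (hφ : ∀ t, φ t = t ^ e) : h.fold.gen = Subgroup.closure (wordVal x '' g2Words K e) := by
  refine le_antisymm (Fold.gen_le_of h.chv.nondeg (A := Fin chevG2.rank) (rep := id)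
    (fun i => ⟨i, Fold.mem_orb_self i⟩) (fun i g hg h3 => ?_) fun i => ?_) ((Subgroup.closure_le _).mpr ?_)
  · obtain ⟨t, u, v, rfl⟩ := h.eq_rW hφ2 (h.UL_G2 i ▸ hg) h3
    exact Subgroup.subset_closure ⟨_, ⟨t, u, v, Or.inl rfl⟩, (rW_eq_word hφ ..).symm⟩
  · exact ⟨_, Subgroup.subset_closure ⟨_, ⟨0, 0, 1, Or.inr rfl⟩, (rV_eq_word hφ ..).symm⟩, h.VL_G2 i ▸ h.rV_mem 0 0 1,
      h.σ_rV hφ2 0 0 1, h.rV_ne_one⟩
  · rintro _ ⟨_, ⟨t, u, v, rfl | rfl⟩, rfl⟩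
    · exact rW_eq_word (x := x) hφ .. ▸ (h.ok_G2 hφ2).U_le_gen (h.rW_mem t u v) (h.σ_rW hφ2 t u v)
    · exact rV_eq_word (x := x) hφ .. ▸ (h.ok_G2 hφ2).V_le_gen (h.rV_mem t u v) (h.σ_rV hφ2 t u v)

end IsTw

theorem exists_frob_G2 [Fintype K] {m : ℕ} (hK : Fintype.card K = 3 ^ (2 * m + 1)) :
    ∃ _ : CharP K 3, ∃ φ : K →+* K, (∀ t, φ t = t ^ 3 ^ m) ∧ ∀ t, φ (φ t) ^ 3 = t := by
  obtain ⟨p, hc, n, hp, e⟩ := FiniteField.card' K
  obtain rfl : p = 3 := (Nat.prime_dvd_prime_iff_eq hp Nat.prime_three).mp (hp.dvd_of_dvd_pow (n := 2 * m + 1) (by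
    rw [← hK, e]; exact dvd_pow_self _ n.ne_zero))
  have := Fact.mk hp
  refine ⟨hc, iterateFrobenius K 3 m, iterateFrobenius_def 3 m, fun t => ?_⟩
  rw [iterateFrobenius_def, iterateFrobenius_def, ← pow_mul, ← pow_mul, ← pow_succ, ← pow_add, ← add_assoc, ← two_mul,
    ← hK, FiniteField.pow_card]

section

variable [Finite K] [CharP K 3] (φ : K →+* K) {e : ℕ} (hφ : ∀ t, φ t = t ^ e) (hφ2 : ∀ t, φ (φ t) ^ 3 = t)
include hφ hφ2

theorem range_twistedG2 : (wordIncl chevG2 (g2Words K e)).range = (isTw_adj (twOK_G2 K) φ).fold.gen := by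
  rw [range_wordIncl, IsTw.gen_G2 _ hφ2 hφ]

theorem emb_twistedG2 : (isTw_adj (twOK_G2 K) φ).fold.Emb (Γ := twistedG2 K e) (wordIncl chevG2 (g2Words K e)) :=
  IsTw.emb_of_range _ (IsTw.ok_G2 _ hφ2) (Subgroup.inclusion_injective _) (range_twistedG2 φ hφ hφ2)

end

/-! ### The algebraic group -/

theorem mp_sref {D : ChevalleyDatum} [Tab D] {M : Type*} [CommGroup M] (i : Fin D.rank) (a : Fin D.rank → M) :
    mp ((rs D).cw ((rs D).sref i)) a = a * Pi.mulSingle i (∏ l, a l ^ (rs D).C l i)⁻¹ := by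
  ext1 j
  have : ∀ l, (rs D).cw ((rs D).sref i) j l = (Pi.single l 1 : _ → ℤ) j - (rs D).C l i * (Pi.single i 1 : _ → ℤ) j :=
    fun l => by rw [cw, of_apply, ← refl_simple, cc_refl, pair_simple_simple, cc_simple, cc_simple]; rfl
  simp only [mp_apply, this, _root_.zpow_sub, _root_.zpow_mul, Finset.prod_mul_distrib, Finset.prod_inv_distrib,
    Finset.prod_zpow, Pi.mul_apply]
  rw [Finset.prod_eq_single j (fun l _ h => by simp [h.symm]) (by simp)]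
  by_cases h : j = i
  · subst h; simp
  · simp [h]

theorem C_G2 (i j : Fin 2) : (rs chevG2).C i j = !![2, -3; -1, 2] i j := by
  have : ∀ i < 2, ∀ j < 2, certG2.car i (chevG2.simple j) = en [[2, -3], [-1, 2]] i j := by decide +kernel
  have e : ∀ i j : Fin chevG2.rank, (rs chevG2).C i j = certG2.car i (chevG2.simple j) := fun i j => by
    rw [← pair_simple_simple, agree_G2.pair_simple]; rfl
  refine (e i j).trans ((this i i.2 j j.2).trans ?_)
  fin_cases i <;> fin_cases j <;> rfl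

theorem isConj_tor_G2 (hx : Full chevG2 x) {a : Fin chevG2.rank → Kˣ} (h1 : a ^ 2 = 1) (h2 : a ≠ 1) :
    IsConj (hx.tor a) (hx.tor fun _ => -1) := by
  have h3 : ∀ (i : Fin chevG2.rank) a, IsConj (hx.tor a) (hx.tor (a * Pi.mulSingle i (∏ l, a l ^ (rs chevG2).C l i)⁻¹)) :=
    fun i a => isConj_iff.2 ⟨_, (hx.n_conj_tor i a).trans (by rw [mp_sref])⟩
  have h4 : ∀ i, a i = 1 ∨ a i = -1 := fun i => 
    (sq_eq_one_iff.1 (show (a i : K) ^ 2 = 1 from congrArg Units.val (congrFun h1 i))).imp Units.ext Units.ext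
  have e : ∀ (a : Fin 2 → Kˣ) (i : Fin 2), ∏ l : Fin chevG2.rank, a l ^ (rs chevG2).C l i =
      a 0 ^ !![(2 : ℤ), -3; -1, 2] 0 i * a 1 ^ !![(2 : ℤ), -3; -1, 2] 1 i := fun a i => by
    rw [← C_G2, ← C_G2]; exact Fin.prod_univ_two _
  have key : ∀ a : Fin 2 → Kˣ, (∀ i, a i = 1 ∨ a i = -1) → a ≠ 1 → a = (fun _ => -1) ∨ ∃ i : Fin 2,
      a * Pi.mulSingle i (a 0 ^ !![(2 : ℤ), -3; -1, 2] 0 i * a 1 ^ !![(2 : ℤ), -3; -1, 2] 1 i)⁻¹ = fun _ => -1 :=
    fun a h4 h2 => by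
      rcases h4 0 with h5 | h5 <;> rcases h4 1 with h6 | h6
      · exact absurd (funext (Fin.forall_fin_two.2 ⟨h5, h6⟩)) h2
      · exact Or.inr ⟨0, funext (Fin.forall_fin_two.2 ⟨by simp [h5, h6], by simp [h6]⟩)⟩
      · exact Or.inr ⟨1, funext (Fin.forall_fin_two.2 ⟨by simp [h5], by
          simp [h5, h6, Odd.neg_one_zpow (α := Kˣ) (show Odd (3 : ℤ) by decide)]⟩)⟩
      · exact Or.inl (funext (Fin.forall_fin_two.2 ⟨h5, h6⟩))
  rcases key a h4 h2 with rfl | ⟨i, hi⟩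
  · exact IsConj.refl _
  · exact hi ▸ e a i ▸ h3 i a

section alg

variable {F : Type*} [Field F] [Fintype F] [CharP F 3] {m : ℕ}

local notation "k" => AlgebraicClosure F

instance : Fact (Nat.Prime 3) := ⟨Nat.prime_three⟩

variable (F m) in
/-- The endomorphism of `G₂` over the algebraic closure whose fixed points form the Ree group. -/
noncomputable def reeτ : chevG2.group k →* chevG2.group k :=
  (twOK_G2 k).aut.toMonoidHom.comp (ChevM.fm chevG2 (iterateFrobenius k 3 m))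

variable (F m) in
theorem isTw_ree : IsTw chevG2 twG2 (ChevM.xG chevG2 k) (iterateFrobenius k 3 m) (reeτ F m) := isTw_adj _ _

variable (hF : Fintype.card F = 3 ^ (2 * m + 1))
include hF

theorem frob_ree (t : k) : iterateFrobenius k 3 (2 * m + 1) t = t ^ Nat.card F := by
  rw [Nat.card_eq_fintype_card, hF, iterateFrobenius_def]

theorem alg_ree : Alg chevG2 (ChevM.xG chevG2 k) 3 (Nat.card F) (ChevM.fm chevG2 (iterateFrobenius k 3 (2 * m + 1))) :=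
  alg_xG expC_G2 3 (frob_ree hF)

omit hF in
theorem reeτ_iter (g : chevG2.group k) : (reeτ F m)^[2] g = ChevM.fm chevG2 (iterateFrobenius k 3 (2 * m + 1)) g :=
  DFunLike.congr_fun ((full_xG chevG2 k).hom_ext (f := itr (reeτ F m) 2) fun r t => by
    rw [itr_apply, (isTw_ree F m).iter_G2, ChevM.fm_xG]
    simp only [iterateFrobenius_def, ← pow_mul, ← pow_succ, ← pow_add, two_mul, add_assoc]) g

variable {φ₀ : F →+* F} (hφ₀ : ∀ t, φ₀ t = t ^ 3 ^ m)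
include hφ₀

omit hF in
theorem reeτ_fm (g : chevG2.group F) : reeτ F m (ChevM.fm chevG2 (algebraMap F k) g) =
    ChevM.fm chevG2 (algebraMap F k) ((twOK_G2 F).aut (ChevM.fm chevG2 φ₀ g)) :=
  DFunLike.congr_fun ((full_xG chevG2 F).hom_ext (f := (reeτ F m).comp (ChevM.fm chevG2 (algebraMap F k)))
    (g := (ChevM.fm chevG2 (algebraMap F k)).comp ((twOK_G2 F).aut.toMonoidHom.comp (ChevM.fm chevG2 φ₀))) fun r t => by
    rw [MonoidHom.comp_apply, MonoidHom.comp_apply, ChevM.fm_xG, (isTw_ree F m).σ_x, (isTw_adj (twOK_G2 F) φ₀).σ_x,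
      ChevM.fm_xG]
    simp [IsTw.τ_apply, hφ₀, iterateFrobenius_def]) g

theorem reeτ_fixed {g : chevG2.group k} (hg : reeτ F m g = g) :
    ∃ g₀, (twOK_G2 F).aut (ChevM.fm chevG2 φ₀ g₀) = g₀ ∧ ChevM.fm chevG2 (algebraMap F k) g₀ = g := by
  obtain ⟨g₀, rfl⟩ := (fm_fixed_iff expC_G2 (frob_ree hF)).1 ((reeτ_iter g).symm.trans (Function.iterate_fixed hg 2))
  exact ⟨g₀, ChevM.fm_injective _ ((reeτ_fm hφ₀ g₀).symm.trans hg), rfl⟩

omit hφ₀ in
theorem reeτ_conj_invol {s s' : chevG2.group k} (hs : reeτ F m s = s) (hs' : reeτ F m s' = s') (h : orderOf s = 2)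
    (h' : orderOf s' = 2) : ∃ c, reeτ F m c = c ∧ c * s * c⁻¹ = s' := by
  have key : ∀ s : chevG2.group k, orderOf s = 2 → IsConj s ((full_xG chevG2 k).tor fun _ => -1) := fun s h => by
    obtain ⟨g, a, rfl⟩ := (alg_ree hF).exists_conj_tor (n := 2) (by decide) (h ▸ pow_orderOf_eq_one s)
    rw [← MulAut.conj_apply, MulEquiv.orderOf_eq, orderOf_injective _ (tor_xG_injective expC_G2)] at h
    exact (isConj_iff.2 ⟨g, rfl⟩).symm.trans (isConj_tor_G2 _ (h ▸ pow_orderOf_eq_one a) (by rintro rfl; simp at h))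
  obtain ⟨g, rfl⟩ := isConj_iff.1 ((key s h).trans (key s' h').symm)
  exact (alg_ree hF).exists_fixed_conj two_pos reeτ_iter hs hs' (n := 2) (by decide) (h ▸ pow_orderOf_eq_one s)

end alg

theorem mem_twistedG2_iff [Fintype K] {m : ℕ} (hK : Fintype.card K = 3 ^ (2 * m + 1)) [CharP K 3] (φ : K →+* K)
    (hφ : ∀ t, φ t = t ^ 3 ^ m) (hφ2 : ∀ t, φ (φ t) ^ 3 = t) {g : chevG2.group K} :
    (g : GL chevG2.Idx K) ∈ twistedG2 K (3 ^ m) ↔ (twOK_G2 K).aut (ChevM.fm chevG2 φ g) = g := by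
  let h := isTw_adj (twOK_G2 K) φ
  have ok := h.ok_G2 hφ2
  rw [twistedG2, ← mem_range_wordIncl, range_twistedG2 φ hφ hφ2]
  refine h.mem_gen_of_H ok (GS_xG chevG2 K) fun c hc e => ?_
  have h1 := h.sq_mem_gen ok (GS_xG chevG2 K) ChevM.center_eq_bot ([0, 1, 0, 1, 0, 1] : List (Fin 2))
    (by decide +kernel) hc e
  have h2 := h.chv.rel.pow_card_H hc
  obtain ⟨n, hn⟩ : ∃ n, Nat.card K - 1 = (2 * n + 1) * 2 := by
    rw [Nat.card_eq_fintype_card, hK]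
    have : 3 ^ (2 * m + 1) % 4 = 3 := by rw [pow_succ, pow_mul, Nat.mul_mod, Nat.pow_mod]; simp
    exact ⟨3 ^ (2 * m + 1) / 4, by omega⟩
  rw [hn, pow_mul] at h2
  suffices c ^ (2 * n + 1) ∈ h.fold.gen by rwa [pow_succ, pow_mul, mul_mem_cancel_left (pow_mem h1 n)] at this
  by_cases h3 : c ^ (2 * n + 1) = 1
  · exact h3 ▸ one_mem _
  obtain ⟨y, hy, h4⟩ := ok.exists_over_s ⟨0, by decide⟩
  have h5 : ∀ j, h.chv.rel.pre.Over (y ^ (2 * j + 1)) (h.fold.s ⟨0, by decide⟩) := fun j => by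
    induction j with
    | zero => simpa using h4
    | succ j ih => simpa [mul_assoc, pow_succ, mul_add] using (ih.mul h4).mul h4
  obtain ⟨j, hj⟩ : Even (orderOf y) := Nat.not_odd_iff_even.1 fun ⟨j, hj⟩ => by
    have h6 := h5 j
    rw [← hj, pow_orderOf_eq_one] at h6
    have h7 := Fold.not_isPos_s (F := h.fold) ⟨0, by decide⟩
    rw [h.chv.nondeg.over_unique h6 (over_one_iff.2 (one_mem _))] at h7
    exact h7 (isPos_simple _ _)
  have h6 : orderOf (y ^ j) = 2 := by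
    have := orderOf_pos y
    rw [orderOf_pow' _ (by omega), hj, Nat.gcd_add_self_left, Nat.gcd_self, ← two_mul, Nat.mul_div_cancel _ (by omega)]
  have hi := ChevM.fm_injective (D := chevG2) (algebraMap K (AlgebraicClosure K))
  have h7 : ∀ g, (twOK_G2 K).aut (ChevM.fm chevG2 φ g) = g → reeτ K m (ChevM.fm chevG2 (algebraMap K _) g) =
      ChevM.fm chevG2 (algebraMap K _) g := fun g hg => by rw [reeτ_fm hφ, hg]
  obtain ⟨z, hz, h8⟩ := reeτ_conj_invol hK (h7 _ (Fold.fix_of_mem_gen (pow_mem hy j)))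
    (h7 (c ^ (2 * n + 1)) (by rw [map_pow, map_pow]; exact congrArg (· ^ (2 * n + 1)) e))
    ((orderOf_injective _ hi _).trans h6) ((orderOf_injective _ hi _).trans (orderOf_eq_prime h2 h3))
  obtain ⟨z, hz', rfl⟩ := reeτ_fixed hK hφ hz
  obtain ⟨a, ha, b, hb, h9, rfl⟩ := ok.exists_gen_mul_H ((full_xG chevG2 K).mem_full z) hz'
  rw [← map_inv, ← map_mul, ← map_mul] at h8
  rw [← hi h8]
  simpa [mul_assoc] using mul_mem (mul_mem ha (Fold.conj_mem_gen hb h9 (pow_mem hy j))) (inv_mem ha)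

/-! ### The rank one structure -/

/-- A group with the Bruhat decomposition of a small Ree group. -/
structure ReeData {K : Type*} [Field K] (φ : K →+* K) (Γ : Type*) [Group Γ] where
  u : K → K → K → Γ
  h : Kˣ →* Γ
  n : Γ
  u_mul : ∀ t a v t' a' v', u t a v * u t' a' v' =
    u (t + t') (a + a' - t * φ t' ^ 3) (v + v' - a * t' - t ^ 2 * φ t' ^ 3 + t * t' * φ t' ^ 3)
  u_zero : u 0 0 0 = 1
  u_inj : ∀ {t a v t' a' v'}, u t a v = u t' a' v' → t = t' ∧ a = a' ∧ v = v'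
  h_inj : Function.Injective h
  h_conj : ∀ (c : Kˣ) t a v, h c * u t a v * (h c)⁻¹ = u (c ^ 2 / φ c ^ 3 * t) (φ c ^ 3 / c * a) (c * v)
  n_h : ∀ c, n * h c * n⁻¹ = (h c)⁻¹
  n_sq : n * n = 1
  bruhat : ∀ g, (∃ t a v c, g = u t a v * h c) ∨ ∃ t a v c t' a' v', g = u t a v * h c * n * u t' a' v'
  uniq_B : ∀ {t a v c}, u t a v = h c → c = 1
  uniq : ∀ {t a v c t' a' v'}, u t a v * h c * n = n * u t' a' v' → u t' a' v' = 1
  disj : ∀ t a v c, u t a v * h c ≠ n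

theorem Full.over_neg {D : ChevalleyDatum} [Tab D] (hx : Full D x) (hZ : Subgroup.center G = ⊥) {m : G}
    {w : Equiv.Perm (Fin D.nroots)} (h : hx.P.Over m w) (hw : ∀ r, w r = (rs D).neg r) :
    m * m = 1 ∧ ∀ a, m * hx.tor a * m⁻¹ = (hx.tor a)⁻¹ := by
  constructor
  · obtain ⟨c, hc, rfl⟩ := h.exists_eq
    obtain ⟨a, rfl⟩ := hx.mem_H_iff.1 hc
    refine Subgroup.mem_bot.1 (hZ ▸ mem_center_of_conj hx.top fun s u => ?_)
    obtain ⟨c, hc, h1, h2⟩ := hx.chv.rel.r7.nW_conj hx.chv.rel h.1 s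
    have h3 : ∀ g, hx.P.nW w * hx.tor a * g * (hx.P.nW w * hx.tor a)⁻¹ =
      hx.P.nW w * (hx.tor a * g * (hx.tor a)⁻¹) * (hx.P.nW w)⁻¹ := fun g => by group
    rw [show ∀ m g : G, m * m * g * (m * m)⁻¹ = m * (m * g * m⁻¹) * m⁻¹ from fun m g => by group, h3 (x s u), hx.tor_conj,
      h1, hw, h3, hx.tor_conj, h2, hw, neg_neg', chi_neg]
    rcases hc with rfl | rfl <;> simp
  · intro a
    have h4 := mem_center_of_conj hx.top (z := hx.tor a * (m * hx.tor a * m⁻¹)) fun s u => by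
      have := hx.chv.rel.over_conj_inv h (s := s) (by simp [hw]) (k := hx.tor a⁻¹) (hx.tor_conj a⁻¹) u
      rw [map_inv, inv_inv] at this
      rw [show ∀ a b g : G, a * b * g * (a * b)⁻¹ = a * (b * g * b⁻¹) * a⁻¹ from fun a b g => by group, this, hx.tor_conj]
      simp [chi_inv]
    rw [hZ, Subgroup.mem_bot] at h4
    exact eq_inv_of_mul_eq_one_right h4

/-- The first node of `G₂`. -/
def gi0 : Fin chevG2.rank := ⟨0, by decide⟩

/-- The second node of `G₂`. -/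
def gi1 : Fin chevG2.rank := ⟨1, by decide⟩

/-- A pair indexed by the nodes of `G₂`. -/
def gv {M : Type*} (a b : M) : Fin chevG2.rank → M := ![a, b]

@[simp] theorem gv_zero {M : Type*} (a b : M) : gv a b gi0 = a := rfl
@[simp] theorem gv_one {M : Type*} (a b : M) : gv a b gi1 = b := rfl

theorem gv_ext {M : Type*} {a b : Fin chevG2.rank → M} (h0 : a gi0 = b gi0) (h1 : a gi1 = b gi1) : a = b :=
  funext (Fin.forall_fin_two.2 ⟨h0, h1⟩)

theorem IsTw.σT_G2 (h : IsTw chevG2 twG2 x φ σ) (a : Fin chevG2.rank → Kˣ) :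
    (h.σT a gi0 : K) = φ (a gi1) ∧ (h.σT a gi1 : K) = φ (a gi0) ^ 3 :=
  ⟨(h.σT_apply a gi1).trans (pow_one _), h.σT_apply a gi0⟩

theorem chi_G2 (a : Fin chevG2.rank → Kˣ) (r : Fin chevG2.nroots) :
    chi chevG2 a r = a gi0 ^ certG2.car 0 r * a gi1 ^ certG2.car 1 r := by
  rw [chi_eq_mp]
  simp only [agree_G2.pair_simple]
  exact Fin.prod_univ_two _

theorem IsTw.exists_reeData [Finite K] [CharP K 3] (h : IsTw chevG2 twG2 x φ σ) (hφ2 : ∀ t, φ (φ t) ^ 3 = t)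
    (hx : Full chevG2 x) (hZ : Subgroup.center G = ⊥) {Γ : Type*} [Group Γ] {f : Γ →* G} (hf : Function.Injective f)
    (hr : ∀ g, g ∈ f.range ↔ σ g = g) :
    ∃ R : ReeData φ Γ, (∀ t a v, f (R.u t a v) = rW x φ t a v) ∧
      ∀ c, f (R.h c) = hx.tor (gv (Units.map φ.toMonoidHom c) c) := by
  have ok := h.ok_G2 hφ2
  have hi : Function.Injective hx.tor := hx.tor_injective_of_cm (expC_G2.cm_injective fun v hv => by simpa using hv)
  have E : h.fold.Emb f := ⟨ok, hf, fun g => (hr _).1 ⟨g, rfl⟩, fun g => hx.mem_full _,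
    fun g hg => (hr g).2 (Fold.fix_of_mem_gen hg)⟩
  choose u hu using fun t a v => (hr _).2 (h.σ_rW hφ2 t a v)
  let d : Kˣ →* Fin chevG2.rank → Kˣ := MonoidHom.mk' (fun c => gv (Units.map φ.toMonoidHom c) c) fun a b =>
    gv_ext (by simp) (by simp)
  have hd : ∀ a, σ (hx.tor a) = hx.tor a ↔ a = d (a gi1) := fun a => by
    rw [h.map_tor hx, hi.eq_iff]
    refine ⟨fun e => gv_ext (Units.ext ?_) rfl, fun e =>
      gv_ext (Units.ext ((h.σT_G2 a).1.trans ?_)) (Units.ext ((h.σT_G2 a).2.trans ?_))⟩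
    · rw [← e, (h.σT_G2 a).1, e]; rfl
    · rw [e]; rfl
    · rw [e]; exact hφ2 _
  let h' : Kˣ →* Γ := (MonoidHom.ofInjective hf).symm.toMonoidHom.comp
    ((hx.tor.comp d).codRestrict f.range fun c => (hr _).2 ((hd (d c)).2 rfl))
  have hh : ∀ c, f (h' c) = hx.tor (d c) := fun c => MonoidHom.apply_ofInjective_symm hf _
  have hW : ∀ w ∈ h.fold.WF, w = 1 ∨ w = h.fold.s gi0 := fun w hw =>
    Fold.eq_one_or_s hw (by rw [h.orb_G2, WJ_univ]; exact Fold.WF_le_W hw)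
  have hs : ∀ r, h.fold.s gi0 r = (rs chevG2).neg r := by
    have h2 : ∀ s, (rs chevG2).wordW [gi0, gi1, gi0, gi1, gi0, gi1] s = (rs chevG2).neg s := fun s => Fin.ext (by
      rw [wordW_val, rs_neg_val]; revert s; decide +kernel)
    rcases hW _ (Fold.mem_WF.mpr ⟨wordW_mem_W _ _, fun r => by rw [h2, h2, Fold.ρ_neg]⟩) with e | e
    · exact absurd (e ▸ h2 ((rs chevG2).simple gi0)).symm ((rs chevG2).neg_ne_self _)
    · exact e ▸ h2
  obtain ⟨n, hn⟩ := E.exists_over (Fold.s_mem gi0)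
  have hU : ∀ g, f g ∈ hx.P.U → ∃ t a v, g = u t a v := fun g hg => by
    obtain ⟨t, a, v, e⟩ := h.eq_rW hφ2 hg (E.fix g)
    exact ⟨t, a, v, hf (e.trans (hu ..).symm)⟩
  have hH : ∀ g, f g ∈ hx.P.H → ∃ c, g = h' c := fun g hg => by
    obtain ⟨a, e⟩ := hx.mem_H_iff.1 hg
    exact ⟨a gi1, hf (by rw [hh, ← (hd a).1 (e ▸ E.fix g), e])⟩
  have hUw : ∀ t a v, rW x φ t a v ∈ hx.P.Uw (h.fold.s gi0) := fun t a v =>
    USub_mono (fun r hr => And.intro hr (by rw [hs, isPos_neg_iff, not_not]; exact hr)) (h.rW_mem t a v)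
  refine ⟨⟨u, h', n, fun t a v t' a' v' => hf (by rw [map_mul, hu, hu, hu, h.rW_mul hφ2]),
    hf (by rw [hu, h.rW_zero, map_one]), fun e => h.rW_inj (by rw [← hu, ← hu, e]), fun a b e => ?_,
    fun c t a v => hf ?_, fun c => hf ?_, hf ?_, fun g => ?_, fun {t a v c} e => ?_, fun {t a v c t' a' v'} e => ?_,
    fun t a v c e => ?_⟩, hu, hh⟩
  · exact congrFun (hi (a₁ := d a) (a₂ := d b) (by rw [← hh, ← hh, e])) gi1
  · have h1 : ∀ (r : ℕ) (hr : r < 12) s, hx.tor (d c) * x r s = x r ((φ c ^ certG2.car 0 r * c ^ certG2.car 1 r) * s) *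
        hx.tor (d c) := fun r hr s => by
      rw [← mul_inv_eq_iff_eq_mul, hx.tor_conj _ ⟨r, hr⟩, chi_G2]; simp [d]
    have h2 : ∀ r < 12, certG2.car 0 r = [0, -3, -1, 1, -2, 3, -3, 2, -1, 1, 3, 0].getD r 0 ∧
      certG2.car 1 r = [-1, 1, 0, -1, 1, -2, 2, -1, 1, 0, -1, 1].getD r 0 := by decide +kernel
    have h3 : (c : K) ≠ 0 := c.ne_zero
    have h4 : φ c ≠ 0 := (map_ne_zero φ).2 h3
    rw [map_mul, map_mul, map_inv, hh, hu, hu, mul_inv_eq_iff_eq_mul, rW, rW]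
    simp only [← mul_assoc, h1 7 (by decide)]
    simp only [mul_assoc, mul_right_inj, h1 6 (by decide), h1 8 (by decide), h1 9 (by decide), h1 10 (by decide),
      h1 11 (by decide)]
    refine congrArg₂ _ ?_ (congrArg₂ _ ?_ (congrArg₂ _ ?_ (congrArg₂ _ ?_ (congrArg₂ _ ?_ (congrArg₂ _ ?_ rfl))))) <;>
      refine congrArg _ ?_ <;> simp [h2, hφ2, zpow_ofNat] <;> field_simp
  · rw [map_mul, map_mul, map_inv, map_inv, hh, (hx.over_neg hZ hn hs).2]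
  · rw [map_mul, (hx.over_neg hZ hn hs).1, map_one]
  · obtain ⟨w, hw, m, a, b, h1, h2, h3, rfl⟩ := E.bruhat g
    obtain ⟨t, a, v, rfl⟩ := hU a h2
    obtain ⟨t', a', v', rfl⟩ := hU b (hx.P.Uw_le_U _ h3)
    rcases hW w hw with rfl | rfl
    · obtain ⟨c, rfl⟩ := hH m (over_one_iff.1 h1)
      have : u t' a' v' = 1 := hf (by simpa [PreRGD.Uw, PreRGD.US] using h3)
      exact Or.inl ⟨t, a, v, c, by rw [this, mul_one]⟩
    · obtain ⟨c, hc⟩ := hH (m * n⁻¹) (by simpa using h1.mul_inv_mem hn)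
      exact Or.inr ⟨t, a, v, c, t', a', v', by rw [← hc]; group⟩
  · have := hx.nd.bruhat_over_unique (over_one_iff.2 (one_mem _)) (over_one_iff.2 (hx.tor_mem (d c))) (h.rW_mem t a v)
      (one_mem _) (one_mem _) (one_mem _) (by rw [← hu, e, hh]; simp)
    exact congrFun (hi (this.2.2.1.symm.trans (map_one _).symm)) gi1
  · have := hx.nd.bruhat_over_unique (hn.H_mul (hx.tor_mem (d c))) hn (h.rW_mem t a v) (one_mem _) (one_mem _)
      (hUw t' a' v') (by rw [← hu, ← hu, ← hh, one_mul, mul_one, ← map_mul, ← map_mul, ← map_mul, ← e, mul_assoc])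
    exact hf (by rw [hu, ← this.2.2.2, map_one])
  · have := hx.nd.bruhat_over_unique (over_one_iff.2 (hx.tor_mem (d c))) hn (h.rW_mem t a v) (one_mem _) (one_mem _)
      (one_mem _) (by rw [← hu, ← hh, ← e]; simp)
    exact Fold.not_isPos_s (F := h.fold) gi0 (this.1 ▸ isPos_simple _ _)

theorem exists_reeData [Fintype K] {m : ℕ} (hK : Fintype.card K = 3 ^ (2 * m + 1)) [CharP K 3] (φ : K →+* K)
    (hφ : ∀ t, φ t = t ^ 3 ^ m) (hφ2 : ∀ t, φ (φ t) ^ 3 = t) : ∃ R : ReeData φ (twistedG2 K (3 ^ m)),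
      (∀ t a v, wordIncl chevG2 (g2Words K (3 ^ m)) (R.u t a v) = rW (ChevM.xG chevG2 K) φ t a v) ∧ ∀ c,
        wordIncl chevG2 (g2Words K (3 ^ m)) (R.h c) = (full_xG chevG2 K).tor (gv (Units.map φ.toMonoidHom c) c) :=
  (isTw_adj (twOK_G2 K) φ).exists_reeData hφ2 (full_xG _ K) ChevM.center_eq_bot (Subgroup.inclusion_injective _)
    fun _ => mem_range_wordIncl.trans (mem_twistedG2_iff hK φ hφ hφ2)

namespace ReeData

variable {Γ : Type*} [Group Γ] (R : ReeData φ Γ)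

theorem u_inv (t a v : K) : (R.u t a v)⁻¹ = R.u (-t) (-a - t * φ t ^ 3) (-v - a * t - 2 * t ^ 2 * φ t ^ 3) :=
  inv_eq_of_mul_eq_one_right (by rw [R.u_mul, ← R.u_zero, map_neg]; congr 1 <;> ring)

theorem u_eq_one {t a v : K} : R.u t a v = 1 ↔ t = 0 ∧ a = 0 ∧ v = 0 :=
  ⟨fun e => R.u_inj (e.trans R.u_zero.symm), by rintro ⟨rfl, rfl, rfl⟩; exact R.u_zero⟩

theorem u_cube [CharP K 3] (t a v : K) : R.u t a v ^ 3 = R.u 0 0 (-(t ^ 2 * φ t ^ 3)) := by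
  have h3 : (3 : K) = 0 := CharP.cast_eq_zero K 3
  rw [pow_succ, sq, R.u_mul, R.u_mul]
  congr 1
  · linear_combination t * h3
  · linear_combination (a - t * φ t ^ 3) * h3
  · linear_combination (v - a * t) * h3

theorem n_inv : R.n⁻¹ = R.n := inv_eq_of_mul_eq_one_right R.n_sq

/-- The Sylow `3`-subgroup. -/
def U : Subgroup Γ where
  carrier := {g | ∃ t a v, g = R.u t a v}
  one_mem' := ⟨_, _, _, R.u_zero.symm⟩
  mul_mem' := by rintro _ _ ⟨_, _, _, rfl⟩ ⟨_, _, _, rfl⟩; exact ⟨_, _, _, R.u_mul ..⟩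
  inv_mem' := by rintro _ ⟨_, _, _, rfl⟩; exact ⟨_, _, _, R.u_inv ..⟩

theorem u_mem (t a v : K) : R.u t a v ∈ R.U := ⟨_, _, _, rfl⟩

theorem h_conj_mem (c : Kˣ) {g : Γ} (hg : g ∈ R.U) : R.h c * g * (R.h c)⁻¹ ∈ R.U := by
  obtain ⟨_, _, _, rfl⟩ := hg; exact ⟨_, _, _, R.h_conj ..⟩

/-- The Borel subgroup. -/
def B : Subgroup Γ where
  carrier := {g | ∃ y ∈ R.U, ∃ c, g = y * R.h c}
  one_mem' := ⟨1, one_mem _, 1, by simp⟩
  mul_mem' := by
    rintro _ _ ⟨y, hy, c, rfl⟩ ⟨y', hy', c', rfl⟩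
    exact ⟨_, mul_mem hy (R.h_conj_mem c hy'), c * c', by simp [mul_assoc]⟩
  inv_mem' := by
    rintro _ ⟨y, hy, c, rfl⟩
    exact ⟨_, R.h_conj_mem c⁻¹ (inv_mem hy), c⁻¹, by simp [mul_assoc]⟩

theorem U_le_B : R.U ≤ R.B := fun y hy => ⟨y, hy, 1, by simp⟩

theorem h_mem (c : Kˣ) : R.h c ∈ R.B := ⟨1, one_mem _, c, by simp⟩

theorem n_not_mem : R.n ∉ R.B := fun ⟨_, ⟨t, a, v, rfl⟩, c, e⟩ => R.disj t a v c e.symm

variable {R}

theorem B_unique {y y' : Γ} (hy : y ∈ R.U) (hy' : y' ∈ R.U) {c c' : Kˣ} (e : y * R.h c = y' * R.h c') :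
    y = y' ∧ c = c' := by
  obtain ⟨t, a, v, h1⟩ := mul_mem (inv_mem hy') hy
  have h2 : c' * c⁻¹ = 1 := R.uniq_B (t := t) (a := a) (v := v) (by
    rw [← h1, map_mul, map_inv, inv_mul_eq_iff_eq_mul, ← mul_assoc, ← e, mul_inv_cancel_right])
  obtain rfl := mul_inv_eq_one.1 h2
  exact ⟨mul_right_cancel e, rfl⟩

theorem eq_one_of_conj_mem {y : Γ} (hy : y ∈ R.U) (h : R.n * y * R.n ∈ R.B) : y = 1 := by
  obtain ⟨t, a, v, rfl⟩ := hy
  obtain ⟨_, ⟨t', a', v', rfl⟩, c, e⟩ := h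
  exact R.uniq (t := t') (a := a') (v := v') (c := c) (by rw [← e, mul_assoc, R.n_sq, mul_one])

theorem conj_mem_U {b y : Γ} (hb : b ∈ R.B) (hy : y ∈ R.U) : b * y * b⁻¹ ∈ R.U := by
  obtain ⟨z, hz, c, rfl⟩ := hb
  simpa [mul_assoc] using mul_mem (mul_mem hz (R.h_conj_mem c hy)) (inv_mem hz)

variable (R)

theorem exists_coset (g : Γ) : g ∈ R.B ∨ ∃ y ∈ R.U, ∃ b ∈ R.B, g = y * R.n * b := by
  rcases R.bruhat g with ⟨t, a, v, c, rfl⟩ | ⟨t, a, v, c, t', a', v', rfl⟩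
  · exact Or.inl ⟨_, R.u_mem .., c, rfl⟩
  · refine Or.inr ⟨_, R.u_mem t a v, _, mul_mem (inv_mem (R.h_mem c)) (R.U_le_B (R.u_mem t' a' v')), ?_⟩
    rw [← R.n_h, R.n_inv]
    simp [mul_assoc, ← mul_assoc R.n R.n, R.n_sq]

/-- The points of the doubly transitive action. -/
noncomputable def cosetEquiv : Option R.U ≃ Γ ⧸ R.B :=
  Equiv.ofBijective (fun y => y.elim ((1 : Γ) : Γ ⧸ R.B) fun y => ((y * R.n : Γ) : Γ ⧸ R.B)) ⟨by
    have h1 : ∀ y : R.U, ((1 : Γ) : Γ ⧸ R.B) ≠ (y * R.n : Γ) := fun y e => R.n_not_mem (by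
      simpa using mul_mem (inv_mem (R.U_le_B y.2)) (QuotientGroup.eq.1 e))
    rintro (_ | y) (_ | y') e
    · rfl
    · exact absurd e (h1 _)
    · exact absurd e.symm (h1 _)
    · refine congrArg _ (Subtype.ext (inv_mul_eq_one.1 (eq_one_of_conj_mem (mul_mem (inv_mem y.2) y'.2) ?_)))
      simpa [R.n_inv, mul_assoc] using QuotientGroup.eq.1 e, fun y => by
    induction y using QuotientGroup.induction_on with | H g => ?_
    rcases R.exists_coset g with h | ⟨y, hy, b, hb, rfl⟩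
    · exact ⟨none, QuotientGroup.eq.2 (by simpa using h)⟩
    · exact ⟨some ⟨y, hy⟩, QuotientGroup.eq.2 (by simpa [mul_assoc] using hb)⟩⟩

theorem cosetEquiv_none : R.cosetEquiv none = ((1 : Γ) : Γ ⧸ R.B) := rfl

theorem cosetEquiv_some (y : R.U) : R.cosetEquiv (some y) = ((y * R.n : Γ) : Γ ⧸ R.B) := rfl

/-- Coordinates on `U`. -/
noncomputable def uEquiv : K × K × K ≃ R.U :=
  Equiv.ofBijective (fun p => ⟨_, R.u_mem p.1 p.2.1 p.2.2⟩) ⟨fun _ _ e => by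
    have := R.u_inj (congrArg Subtype.val e)
    exact Prod.ext this.1 (Prod.ext this.2.1 this.2.2), fun ⟨_, t, a, v, rfl⟩ => ⟨(t, a, v), rfl⟩⟩

theorem card_U : Nat.card R.U = Nat.card K ^ 3 := by
  rw [← Nat.card_congr R.uEquiv]; simp [pow_succ, mul_assoc]

theorem card_B : Nat.card R.B = Nat.card K ^ 3 * (Nat.card K - 1) := by
  rw [← R.card_U, ← Nat.card_units, ← Nat.card_prod]
  refine (Nat.card_congr (Equiv.ofBijective (fun p : R.U × Kˣ => (⟨_, p.1, p.1.2, p.2, rfl⟩ : R.B)) ⟨fun p p' e => ?_,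
    fun ⟨_, y, hy, c, rfl⟩ => ⟨(⟨y, hy⟩, c), rfl⟩⟩)).symm
  have := B_unique p.1.2 p'.1.2 (congrArg Subtype.val e)
  exact Prod.ext (Subtype.ext this.1) this.2

theorem index_B [Finite K] : R.B.index = Nat.card K ^ 3 + 1 := by
  have : Finite R.U := Finite.of_equiv _ R.uEquiv
  rw [Subgroup.index, ← Nat.card_congr R.cosetEquiv, Finite.card_option, R.card_U]

include R in
theorem card_eq [Finite K] : Nat.card Γ = Nat.card K ^ 3 * (Nat.card K - 1) * (Nat.card K ^ 3 + 1) := by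
  rw [← R.card_B, ← R.index_B, Subgroup.card_mul_index]

end ReeData

theorem card_twistedG2 [Fintype K] {m : ℕ} (hK : Fintype.card K = 3 ^ (2 * m + 1)) : Nat.card (twistedG2 K (3 ^ m)) =
    (3 ^ (2 * m + 1)) ^ 3 * (3 ^ (2 * m + 1) - 1) * ((3 ^ (2 * m + 1)) ^ 3 + 1) := by
  obtain ⟨_, φ, hφ, hφ2⟩ := exists_frob_G2 hK
  obtain ⟨R, -⟩ := exists_reeData hK φ hφ hφ2
  rw [R.card_eq, Nat.card_eq_fintype_card, hK]

end Cfsg.Agent.Chev
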