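/-
Counting elements of given order through self-centralising abelian subgroups and through fixed points.
-/
import Mathlib

set_option autoImplicit false

namespace Cfsg.Agent.Chev

open Subgroup

variable {Γ : Type*} [Group Γ] [Finite Γ]

theorem card_conj_eq {a x : Γ} (h : IsConj a x) : Nat.card {g // g * a * g⁻¹ = x} = Nat.card (centralizer {a}) := by
  obtain ⟨c, rfl⟩ := isConj_iff.1 h
  refine Nat.card_congr ((Equiv.mulLeft c⁻¹).subtypeEquiv fun g => ?_)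
  rw [mem_centralizer_singleton_iff, Equiv.coe_mulLeft]
  constructor
  · intro e
    calc c⁻¹ * g * a = c⁻¹ * (g * a * g⁻¹) * g := by group
      _ = _ := by rw [e]; group
  · intro e
    calc g * a * g⁻¹ = c * (c⁻¹ * g * a) * g⁻¹ := by group
      _ = _ := by rw [e]; group

theorem card_mul_of_classes {X Y : Set Γ} (h : ∀ x, x ∈ X ↔ ∃ a ∈ Y, IsConj a x) {n c : ℕ}
    (hn : ∀ a ∈ Y, Nat.card (centralizer {a}) = n) (hc : ∀ a ∈ Y, Nat.card {b // b ∈ Y ∧ IsConj a b} = c) :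
    Nat.card Γ * Nat.card Y = Nat.card X * (c * n) := by
  let F : Γ × Y → X := fun p => ⟨p.1 * p.2 * p.1⁻¹, (h _).2 ⟨_, p.2.2, isConj_iff.2 ⟨_, rfl⟩⟩⟩
  classical
  have := Fintype.ofFinite Γ
  rw [← Nat.card_prod, ← Nat.card_congr (Equiv.sigmaFiberEquiv F), Nat.card_sigma, Nat.card_eq_fintype_card,
    ← smul_eq_mul, ← Finset.card_univ, ← Finset.sum_const]
  refine Finset.sum_congr rfl fun x _ => ?_
  obtain ⟨a, ha, e⟩ := (h x).1 x.2
  let E : {p // F p = x} ≃ Σ b : {b // b ∈ Y ∧ IsConj a b}, {g : Γ // g * (b : Γ) * g⁻¹ = x} :=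
    ⟨fun p => ⟨⟨p.1.2, p.1.2.2, e.trans (isConj_iff.2 ⟨_, congrArg Subtype.val p.2⟩).symm⟩, p.1.1,
      congrArg Subtype.val p.2⟩, fun p => ⟨(p.2.1, ⟨p.1.1, p.1.2.1⟩), Subtype.ext p.2.2⟩, fun _ => rfl, fun _ => rfl⟩
  rw [Nat.card_congr E, Nat.card_sigma, ← hc a ha, Nat.card_eq_fintype_card, ← smul_eq_mul, ← Finset.card_univ,
    ← Finset.sum_const]
  exact Finset.sum_congr rfl fun b _ => (card_conj_eq (b.2.2.symm.trans e)).trans (hn _ b.2.1)

theorem card_mul_of_fixed (B : Subgroup Γ) {X : Set Γ} (hX : ∀ x ∈ X, ∀ g, g⁻¹ * x * g ∈ X) {f : ℕ}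
    (hf : ∀ x ∈ X, Nat.card {y : Γ ⧸ B // x • y = y} = f) :
    Nat.card X * f = B.index * Nat.card {x // x ∈ X ∧ x ∈ B} := by
  classical
  have := Fintype.ofFinite Γ
  let E : (Σ x : X, {y : Γ ⧸ B // (x : Γ) • y = y}) ≃ Σ y : Γ ⧸ B, {x // x ∈ X ∧ x • y = y} :=
    ⟨fun p => ⟨p.2.1, p.1.1, p.1.2, p.2.2⟩, fun p => ⟨⟨p.2.1, p.2.2.1⟩, p.1, p.2.2.2⟩, fun _ => rfl, fun _ => rfl⟩
  have h := Nat.card_congr E
  rw [Nat.card_sigma, Nat.card_sigma, Finset.sum_congr rfl fun (x : X) _ => hf x x.2] at h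
  rw [Nat.card_eq_fintype_card, ← smul_eq_mul, ← Finset.card_univ, ← Finset.sum_const, h, index,
    Nat.card_eq_fintype_card, ← smul_eq_mul, ← Finset.card_univ, ← Finset.sum_const]
  refine Finset.sum_congr rfl fun y _ => ?_
  induction y using QuotientGroup.induction_on with | H g => ?_
  refine Nat.card_congr ((MulAut.conj g⁻¹).toEquiv.subtypeEquiv fun x => and_congr
    ⟨fun h => by simpa using hX x h g, fun h => by simpa [mul_assoc] using hX _ h g⁻¹⟩ ?_)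
  rw [MulAction.Quotient.smul_mk, eq_comm, QuotientGroup.eq]
  simp [mul_assoc]

theorem exists_conj_mem_of_prime {T : Subgroup Γ} {l : ℕ} (hl : l.Prime) (hT : ¬ l ∣ T.index) {x : Γ} {k : ℕ}
    (hx : x ^ l ^ k = 1) : ∃ g, g⁻¹ * x * g ∈ T := by
  have := Fact.mk hl
  have h : IsPGroup l (zpowers x) := by
    obtain ⟨j, -, hj⟩ := (Nat.dvd_prime_pow hl).1 (orderOf_dvd_of_pow_eq_one hx)
    exact IsPGroup.of_card (by rw [Nat.card_zpowers, hj])
  obtain ⟨y, hy⟩ := h.nonempty_fixed_point_of_prime_not_dvd_card (Γ ⧸ T) hT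
  induction y using QuotientGroup.induction_on with | H g => ?_
  have := hy ⟨x, mem_zpowers x⟩
  change x • (g : Γ ⧸ T) = g at this
  rw [MulAction.Quotient.smul_mk, eq_comm, QuotientGroup.eq] at this
  exact ⟨g, by simpa [mul_assoc] using this⟩

theorem card_orderOf_of_cyclic {C : Subgroup Γ} (hC : IsCyclic C) {i : ℕ} (hi : i ∣ Nat.card C) :
    Nat.card {a // a ∈ C ∧ orderOf a = i} = i.totient := by
  classical
  have := Fintype.ofFinite C
  rw [← IsCyclic.card_orderOf_eq_totient (α := C) (by rwa [← Nat.card_eq_fintype_card]), ← Fintype.card_subtype,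
    ← Nat.card_eq_fintype_card]
  exact Nat.card_congr ⟨fun a => ⟨⟨a, a.2.1⟩, by rw [← orderOf_coe]; exact a.2.2⟩,
    fun a => ⟨a.1, a.1.2, by rw [orderOf_coe]; exact a.2⟩, fun _ => rfl, fun _ => rfl⟩

theorem eq_of_le_cyclic {C A B : Subgroup Γ} (hC : IsCyclic C) (hA : A ≤ C) (hB : B ≤ C)
    (h : Nat.card A = Nat.card B) : A = B := by
  classical
  have := Fintype.ofFinite C
  have key : ∀ A : Subgroup Γ, A ≤ C → ∀ a : C, (a : Γ) ∈ A ↔ a ^ Nat.card A = 1 := fun A hA a => by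
    have h1 : Finset.univ.filter (fun a : C => (a : Γ) ∈ A) = Finset.univ.filter fun a : C => a ^ Nat.card A = 1 := by
      refine Finset.eq_of_subset_of_card_le (fun a ha => Finset.mem_filter.2 ⟨Finset.mem_univ _, Subtype.ext
        (congrArg (fun z : A => (z : Γ)) (pow_card_eq_one' (x := ⟨a, (Finset.mem_filter.1 ha).2⟩)))⟩)
        ((IsCyclic.card_pow_eq_one_le Nat.card_pos).trans ?_)
      rw [← Fintype.card_subtype, ← Nat.card_eq_fintype_card]
      exact (Nat.card_congr (subgroupOfEquivOfLe hA).toEquiv).ge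
    simpa using Finset.ext_iff.1 h1 a
  ext x
  exact ⟨fun hx => (key B hB ⟨x, hA hx⟩).2 (h ▸ (key A hA ⟨x, hA hx⟩).1 hx),
    fun hx => (key A hA ⟨x, hB hx⟩).2 (h ▸ (key B hB ⟨x, hB hx⟩).1 hx)⟩

variable (Γ) in
/-- An abelian subgroup `T` of order `e n` whose squares form a cyclic Hall subgroup of odd order `n`, and which is the
centraliser of its elements of order more than two; these are conjugate to exactly `c` elements of `T`. -/
structure TorD (n e c : ℕ) where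
  T : Subgroup Γ
  C : Subgroup Γ
  le : C ≤ T
  comm : ∀ a ∈ T, ∀ b ∈ T, Commute a b
  cyc : IsCyclic C
  card_C : Nat.card C = n
  card_T : Nat.card T = e * n
  odd : Odd n
  sq : ∀ a ∈ T, a ^ 2 ∈ C
  cen : ∀ a ∈ T, a ^ 2 ≠ 1 → centralizer {a} = T
  cls : ∀ a ∈ T, a ^ 2 ≠ 1 → Nat.card {b // b ∈ T ∧ IsConj a b} = c
  hall : n.Coprime T.index

namespace TorD

variable {n e c : ℕ} (S : TorD Γ n e c)

theorem mem_C {a : Γ} (ha : a ∈ S.T) (h : Odd (orderOf a)) : a ∈ S.C := by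
  obtain ⟨j, hj⟩ := h
  have := pow_mem (S.sq a ha) (j + 1)
  rwa [← pow_mul, mul_add, mul_one, show 2 * j + 2 = orderOf a + 1 by omega, pow_succ, pow_orderOf_eq_one, one_mul] at this

theorem exists_conj {x : Γ} (h : ¬ (orderOf x).Coprime n) : ∃ g, g⁻¹ * x * g ∈ S.T := by
  obtain ⟨l, hl, h1, h2⟩ := Nat.Prime.not_coprime_iff_dvd.1 h
  have h3 := orderOf_pow_orderOf_div (orderOf_pos x).ne' h1
  obtain ⟨g, hg⟩ := exists_conj_mem_of_prime (T := S.T) hl (fun h => hl.one_lt.ne' (Nat.eq_one_of_dvd_coprimes S.hall h2 h))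
    (x := x ^ (orderOf x / l)) (k := 1) (by rw [pow_one, ← orderOf_dvd_iff_pow_eq_one, h3])
  refine ⟨g, S.cen _ hg (fun e => ?_) ▸ mem_centralizer_singleton_iff.2 ?_⟩
  · have h4 := orderOf_dvd_of_pow_eq_one e
    rw [← MulAut.conj_inv_apply, MulEquiv.orderOf_eq, h3, Nat.prime_dvd_prime_iff_eq hl Nat.prime_two] at h4
    exact (Nat.not_even_iff_odd.2 S.odd) (even_iff_two_dvd.2 (h4 ▸ h2))
  · simp only [← MulAut.conj_inv_apply, ← map_mul, pow_mul_comm']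

include S in
theorem sq_ne_one {x : Γ} (h : ¬ (orderOf x).Coprime n) : x ^ 2 ≠ 1 := fun e =>
  h ((Nat.coprime_two_left.2 S.odd).coprime_dvd_left (orderOf_dvd_of_pow_eq_one e))

theorem card_orderOf {i : ℕ} (h : ¬ i.Coprime n) : Nat.card Γ * Nat.card {a // a ∈ S.T ∧ orderOf a = i} =
    Nat.card {x : Γ // orderOf x = i} * (c * (e * n)) := by
  have h1 : ∀ {a b : Γ}, IsConj a b → orderOf b = orderOf a := fun h => by
    obtain ⟨g, rfl⟩ := isConj_iff.1 h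
    rw [← MulAut.conj_apply, MulEquiv.orderOf_eq]
  refine card_mul_of_classes (X := {x | orderOf x = i}) (Y := {a | a ∈ S.T ∧ orderOf a = i}) (fun x => ⟨fun hx => ?_,
    fun ⟨a, ha, e⟩ => (h1 e).trans ha.2⟩) (fun a ha => by rw [S.cen a ha.1 (S.sq_ne_one (ha.2 ▸ h)), S.card_T])
    fun a ha => ?_
  · obtain ⟨g, hg⟩ := S.exists_conj (x := x) (hx ▸ h)
    have : IsConj (g⁻¹ * x * g) x := isConj_iff.2 ⟨g, by group⟩
    exact ⟨_, ⟨hg, (h1 this).symm.trans hx⟩, this⟩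
  · exact (Nat.card_congr (Equiv.subtypeEquivRight fun b =>
      ⟨fun h => ⟨h.1.1, h.2⟩, fun h => ⟨⟨h.1, (h1 h.2).trans ha.2⟩, h.2⟩⟩)).trans (S.cls a ha.1 (S.sq_ne_one (ha.2 ▸ h)))

theorem card_T_odd {i : ℕ} (hi : i ∣ n) : Nat.card {a // a ∈ S.T ∧ orderOf a = i} = i.totient := by
  rw [← card_orderOf_of_cyclic S.cyc (hi.trans S.card_C.symm.dvd)]
  exact Nat.card_congr (Equiv.subtypeEquivRight fun a =>
    ⟨fun h => ⟨S.mem_C h.1 (by rw [h.2]; exact S.odd.of_dvd_nat hi), h.2⟩, fun h => ⟨S.le h.1, h.2⟩⟩)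

theorem card_T_even {i : ℕ} (hi : i ∣ n) : Nat.card {a // a ∈ S.T ∧ orderOf a = 2 * i} = (e - 1) * i.totient := by
  have hc : ∀ a b : S.T, a * b = b * a := fun a b => Subtype.ext (S.comm _ a.2 _ b.2)
  let f : S.T →* S.C := MonoidHom.mk' (fun a => ⟨a ^ 2, S.sq _ a.2⟩) fun a b => Subtype.ext ((S.comm _ a.2 _ b.2).mul_pow 2)
  have ho : ∀ a ∈ S.C, Odd (orderOf a) := fun a ha => S.odd.of_dvd_nat (S.card_C ▸ orderOf_dvd_natCard _ ha)
  have hs : Function.Surjective f := fun a => by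
    obtain ⟨j, hj⟩ := ho a a.2
    exact ⟨⟨a ^ (j + 1), pow_mem (S.le a.2) _⟩, Subtype.ext (show ((a : Γ) ^ (j + 1)) ^ 2 = a by
      rw [← pow_mul, show (j + 1) * 2 = orderOf (a : Γ) + 1 by omega, pow_succ, pow_orderOf_eq_one, one_mul])⟩
  have hk : Nat.card f.ker = e := by
    have := f.ker.card_mul_index
    rw [index_ker, MonoidHom.range_eq_top.2 hs, card_top, S.card_C, S.card_T] at this
    exact Nat.eq_of_mul_eq_mul_right S.odd.pos this
  have h0 : (Nat.card S.C).Coprime 2 := by rw [S.card_C]; exact Nat.coprime_two_right.2 S.odd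
  have h1 : Nat.card {a : f.ker // a ≠ 1} = e - 1 := by
    classical
    have := Fintype.ofFinite f.ker
    rw [Nat.card_eq_fintype_card, Fintype.card_subtype_compl, Fintype.card_subtype_eq, ← Nat.card_eq_fintype_card, hk]
  have h2 : ∀ a ∈ S.C, orderOf (a ^ 2) = orderOf a := fun a ha => (Nat.coprime_two_right.2 (ho a ha)).orderOf_pow
  have h3 : ∀ s : f.ker, (s.1 : Γ) ^ 2 = 1 := fun s => congrArg Subtype.val s.2
  rw [← h1, ← card_orderOf_of_cyclic S.cyc (hi.trans S.card_C.symm.dvd), ← Nat.card_prod, eq_comm]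
  refine Nat.card_congr (Equiv.ofBijective (fun p => ⟨p.1.1.1 * p.2.1, mul_mem p.1.1.1.2 (S.le p.2.2.1), ?_⟩)
    ⟨fun p p' e => ?_, fun a => ?_⟩)
  · have := orderOf_eq_prime (h3 p.1.1) fun e => p.1.2 (Subtype.ext (Subtype.ext e))
    rw [(S.comm _ p.1.1.1.2 _ (S.le p.2.2.1)).orderOf_mul_eq_mul_orderOf_of_coprime
      (this ▸ Nat.coprime_two_left.2 (ho _ p.2.2.1)), this, p.2.2.2]
  · have e1 : (p.1.1.1 : Γ) * p.2.1 = p'.1.1.1 * p'.2.1 := congrArg Subtype.val e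
    have e2 := congrArg (· ^ 2) e1
    simp only [(S.comm _ p.1.1.1.2 _ (S.le p.2.2.1)).mul_pow, (S.comm _ p'.1.1.1.2 _ (S.le p'.2.2.1)).mul_pow, h3,
      one_mul] at e2
    have e3 : p.2.1 = p'.2.1 := congrArg (fun z : S.C => (z : Γ)) ((powCoprime (G := S.C) (n := 2)
      h0).injective (a₁ := ⟨_, p.2.2.1⟩) (a₂ := ⟨_, p'.2.2.1⟩) (Subtype.ext e2))
    exact Prod.ext (Subtype.ext (Subtype.ext (Subtype.ext (mul_right_cancel (e3 ▸ e1))))) (Subtype.ext e3)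
  · let g : S.C →* S.C := f.comp (inclusion S.le)
    obtain ⟨b, hb⟩ := (powCoprime (G := S.C) (n := 2) h0).surjective
      ⟨_, S.sq _ a.2.1⟩
    have hb : (b : Γ) ^ 2 = a ^ 2 := congrArg Subtype.val hb
    have h4 : orderOf (b : Γ) = i := by
      rw [← h2 _ b.2, hb, orderOf_pow' _ two_ne_zero, a.2.2]; simp
    refine ⟨(⟨⟨⟨a * b⁻¹, mul_mem a.2.1 (inv_mem (S.le b.2))⟩, Subtype.ext ?_⟩, fun e => ?_⟩, ⟨b, b.2, h4⟩),
      Subtype.ext (inv_mul_cancel_right _ _)⟩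
    · change (a * (b : Γ)⁻¹) ^ 2 = 1
      rw [(S.comm _ a.2.1 _ (S.le b.2)).inv_right.mul_pow, inv_pow, hb, mul_inv_cancel]
    · have h5 := a.2.2
      rw [mul_inv_eq_one.1 (congrArg (fun z : f.ker => (z.1 : Γ)) e), h4] at h5
      have := Nat.pos_of_dvd_of_pos hi S.odd.pos
      omega

theorem exists_conj_le {A : Subgroup Γ} (hA : IsCyclic A) (hd : Nat.card A ∣ n) :
    ∃ g, A.map (MulAut.conj g).toMonoidHom ≤ S.C := by
  obtain ⟨x, rfl⟩ := A.isCyclic_iff_exists_zpowers_eq_top.1 hA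
  rw [Nat.card_zpowers] at hd
  by_cases h : (orderOf x).Coprime n
  · exact ⟨1, by simp [orderOf_eq_one_iff.1 (h.eq_one_of_dvd hd)]⟩
  · obtain ⟨g, hg⟩ := S.exists_conj h
    refine ⟨g⁻¹, ?_⟩
    rw [MonoidHom.map_zpowers, zpowers_le]
    exact S.mem_C (by simpa using hg) (by
      rw [MulEquiv.coe_toMonoidHom, MulEquiv.orderOf_eq]; exact S.odd.of_dvd_nat hd)

include S in
theorem exists_conj_eq {A B : Subgroup Γ} (hA : IsCyclic A) (hB : IsCyclic B) (hd : Nat.card A ∣ n)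
    (h : Nat.card A = Nat.card B) : ∃ g, B = A.map (MulAut.conj g).toMonoidHom := by
  obtain ⟨g, hg⟩ := S.exists_conj_le hA hd
  obtain ⟨g', hg'⟩ := S.exists_conj_le hB (h ▸ hd)
  refine ⟨g'⁻¹ * g, map_injective (f := (MulAut.conj g').toMonoidHom) (MulAut.conj g').injective ?_⟩
  rw [← eq_of_le_cyclic S.cyc hg hg' (by
    rw [card_map_of_injective (MulAut.conj g).injective, card_map_of_injective (MulAut.conj g').injective, h]), map_map]
  congr 1
  ext; simp [mul_assoc]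

theorem exists_centralizer {H : Subgroup Γ} (hH : IsCyclic H) (hd : Nat.card H ∣ n) : ∃ g, ∀ A ≤ H, A ≠ ⊥ →
    centralizer (A : Set Γ) = S.T.map (MulAut.conj g).toMonoidHom := by
  obtain ⟨g, hg⟩ := S.exists_conj_le hH hd
  refine ⟨g⁻¹, fun A hA h1 => ?_⟩
  have h2 : ∀ a ∈ A, g * a * g⁻¹ ∈ S.C := fun a ha => hg ⟨a, hA ha, rfl⟩
  obtain ⟨⟨a, ha⟩, h3⟩ := ne_bot_iff_exists_ne_one.1 h1
  have h4 : (g * a * g⁻¹) ^ 2 ≠ 1 := fun e => h3 (Subtype.ext (conj_eq_one_iff.1 (orderOf_eq_one_iff.1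
    (Nat.eq_one_of_dvd_coprimes (Nat.coprime_two_left.2 S.odd) (orderOf_dvd_of_pow_eq_one e)
      ((orderOf_dvd_natCard _ (h2 a ha)).trans S.card_C.dvd)))))
  ext x
  rw [mem_map_equiv, MulAut.conj_symm_apply, inv_inv]
  refine ⟨fun hx => S.cen _ (S.le (h2 a ha)) h4 ▸ mem_centralizer_singleton_iff.2 ?_, fun hx b hb => ?_⟩
  · simp only [← MulAut.conj_apply, ← map_mul, hx a ha]
  · exact (MulAut.conj g).injective (by rw [map_mul, map_mul]; exact (S.comm _ (S.le (h2 b hb)) _ hx).eq)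

theorem isCyclic (S : TorD Γ n 2 c) : IsCyclic S.T := by
  have h := S.card_T_even dvd_rfl
  obtain ⟨a, ha, h1⟩ := (Nat.card_ne_zero.1 (h.trans_ne (by simpa using S.odd.pos.ne'))).1
  exact isCyclic_of_orderOf_eq_card (⟨a, ha⟩ : S.T) (by rw [← orderOf_coe, h1, S.card_T])

theorem orderOf_ne_four {a : Γ} (ha : a ∈ S.T) : orderOf a ≠ 4 := fun e => by
  have := (orderOf_dvd_natCard _ (S.sq a ha)).trans S.card_C.dvd
  rw [orderOf_pow' _ two_ne_zero, e] at this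
  exact Nat.not_even_iff_odd.2 S.odd (even_iff_two_dvd.2 this)

end TorD

end Cfsg.Agent.Chev
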