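/-
Maximal tori of twisted groups; the four classes of maximal tori of the small Ree groups.
-/
import Cfsg.Agent.Lib.Chev.Ree
import Cfsg.Agent.Lib.Chev.TorCount

set_option autoImplicit false

namespace Cfsg.Agent.Chev

open Cfsg.Lie RSys PreRGD Matrix Cfsg.Agent.Generic

variable {D : ChevalleyDatum} [Tab D] {K : Type*} [Field K] {G : Type*} [Group G] {x : ℕ → K → G} {φ : K →+* K}
  {τ : G →* G} {T : TwData}

theorem Full.over_conj_tor (hx : Full D x) {m : G} {w : Equiv.Perm (Fin D.nroots)} (h : hx.P.Over m w)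
    (a : Fin D.rank → Kˣ) : m * hx.tor a * m⁻¹ = hx.tor (mp ((rs D).cw w) a) := by
  obtain ⟨c, hc, rfl⟩ := h.exists_eq
  rw [← hx.nW_conj_tor h.1, mul_assoc _ c, (hx.commute_H hc (hx.tor_mem a)).eq]; group

theorem Full.mem_H_of_regular (hx : Full D x) (hi : Function.Injective hx.tor) {a : Fin D.rank → Kˣ}
    (ho : IsOfFinOrder a) (ha : ∀ r, chi D a r ≠ 1) {g : G} (hg : g * hx.tor a = hx.tor a * g) : g ∈ hx.P.H := by
  obtain ⟨w, hw, t, c, t', h1, h2, rfl⟩ := (hx.cen_centralizer hi a g).1 (Subgroup.mem_centralizer_singleton_iff.2 hg)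
  obtain rfl := eq_one_of_regular ho ha hw.1 hw.2
  rw [show t = 0 from funext fun r => h1 r (ha r), show t' = 0 from funext fun r => h2 r (ha r), Full.co, hx.pS_zero,
    hx.pS_zero, one_mul, mul_one]
  exact mul_mem (hx.tor_mem _) hx.P.nW_one_mem

namespace IsTw

variable (h : IsTw D T x φ τ)

/-- The fixed points on the torus twisted by `w`. -/
noncomputable def TW (w : Equiv.Perm (Fin D.nroots)) : Subgroup (Fin D.rank → Kˣ) := h.σT.eqLocus (mp ((rs D).cw w))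

theorem mem_TW {w : Equiv.Perm (Fin D.nroots)} {a : Fin D.rank → Kˣ} : a ∈ h.TW w ↔ h.σT a = mp ((rs D).cw w) a := Iff.rfl

theorem σT_mp (hx : Full D x) (hi : Function.Injective hx.tor) {v : Equiv.Perm (Fin D.nroots)} (hv : v ∈ (rs D).W)
    (a : Fin D.rank → Kˣ) : h.σT (mp ((rs D).cw v) a) = mp ((rs D).cw (h.tw.ρ * v * h.tw.ρ⁻¹)) (h.σT a) := hi (by
  rw [← h.map_tor hx, ← hx.nW_conj_tor hv, map_mul, map_mul, map_inv, h.map_tor hx]
  exact hx.over_conj_tor (Fold.σ_over (F := h.fold) (over_nW hv)) _)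

theorem chi_σT'' (hx : Full D x) (a : Fin D.rank → Kˣ) (r : Fin D.nroots) :
    (chi D (h.σT a) (h.tw.ρ r) : K) = h.τ r (chi D a r) := by
  have h1 := congrArg τ (hx.tor_conj a r 1)
  rw [map_mul, map_mul, map_inv, h.map_tor hx, h.σ_x, h.σ_x, hx.tor_conj, map_one, mul_one, mul_one, mul_comm] at h1
  exact mul_left_cancel₀ (ε_ne_zero r) (hx.chv.x_injective _ h1)

theorem mp_mem_TW_iff (hx : Full D x) (hi : Function.Injective hx.tor) {w v : Equiv.Perm (Fin D.nroots)}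
    (hw : w ∈ (rs D).W) (hv : v ∈ (rs D).W) {a : Fin D.rank → Kˣ} (ha : a ∈ h.TW w) (hf : IsOfFinOrder a)
    (hr : ∀ r, chi D a r ≠ 1) : mp ((rs D).cw v) a ∈ h.TW w ↔ h.tw.ρ * v * h.tw.ρ⁻¹ * w = w * v := by
  have hA := @(rs D).W_le_Aut
  have h1 : h.tw.ρ * v * h.tw.ρ⁻¹ ∈ (rs D).W := h.fold.conj_mem_W hv
  rw [mem_TW, h.σT_mp hx hi hv, h.mem_TW.1 ha, ← mp_mul, ← mp_mul, ← cw_mul (hA h1) (hA hw), ← cw_mul (hA hw) (hA hv)]
  refine ⟨fun e => ?_, fun e => by rw [e]⟩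
  have h2 := mul_mem hw hv
  refine (inv_mul_eq_one.1 (eq_one_of_regular hf hr (mul_mem (inv_mem h2) (mul_mem h1 hw)) ?_)).symm
  rw [cw_mul (hA (inv_mem h2)) (hA (mul_mem h1 hw)), mp_mul, e, ← mp_mul, ← cw_mul (hA (inv_mem h2)) (hA h2),
    inv_mul_cancel, cw_one, mp_one]

variable {p q : ℕ} {σ : G →* G} (A : Alg D x p q σ) (hi : Function.Injective A.full.tor) {m : ℕ} (hm0 : 0 < m)
  (hm : ∀ g, τ^[m] g = σ g) {Γ : Type*} [Group Γ] {j : Γ →* G} (hj : Function.Injective j)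
  (hr : ∀ g, τ g = g ↔ g ∈ j.range)
include hi hm0 hm hj hr

theorem exists_torus {w : Equiv.Perm (Fin D.nroots)} (hw : w ∈ (rs D).W) : ∃ f : h.TW w →* Γ, Function.Injective f ∧
    (∀ a : h.TW w, (∀ r, chi D a.1 r ≠ 1) → Subgroup.centralizer {f a} = f.range ∧
      Nat.card {b // b ∈ f.range ∧ IsConj (f a) b} =
        Nat.card {v // v ∈ (rs D).W ∧ h.tw.ρ * v * h.tw.ρ⁻¹ * w = w * v}) ∧
    ∃ z, ∀ a, j (f a) = z * A.full.tor a * z⁻¹ := by
  obtain ⟨z, -, hz⟩ := A.lang_top hm0 hm (A.full.P.nW w)⁻¹ trivial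
  have h1 : ∀ a, τ (z * A.full.tor a * z⁻¹) = z * A.full.tor a * z⁻¹ ↔ a ∈ h.TW w := fun a => by
    rw [conj_fixed_iff, ← hz, h.tw_tor_iff A.full hw, hi.eq_iff, mem_TW]
  let f : h.TW w →* Γ := (MonoidHom.ofInjective hj).symm.toMonoidHom.comp
    ((((MulAut.conj z).toMonoidHom.comp A.full.tor).comp (h.TW w).subtype).codRestrict j.range
      fun a => (hr _).1 ((h1 a).2 a.2))
  have hf : ∀ a, j (f a) = z * A.full.tor a * z⁻¹ := fun a => MonoidHom.apply_ofInjective_symm hj _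
  have hfi : Function.Injective f := fun a b e => Subtype.ext (hi ((MulAut.conj z).injective
    ((hf a).symm.trans (e ▸ hf b))))
  refine ⟨f, hfi, fun a ha => ?_, z, hf⟩
  have ho := A.loc.isOfFinOrder A.one_lt a.1
  refine ⟨le_antisymm (fun g hg => ?_) ?_, ?_⟩
  · have h2 : z⁻¹ * j g * z ∈ A.full.P.H := A.full.mem_H_of_regular hi ho ha (by
      have := congrArg j (Subgroup.mem_centralizer_singleton_iff.1 hg)
      rw [map_mul, map_mul, hf] at this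
      calc _ = z⁻¹ * (j g * (z * A.full.tor a * z⁻¹)) * z := by group
        _ = _ := by rw [this]; group)
    obtain ⟨b, hb⟩ := A.full.mem_H_iff.1 h2
    have h3 : j g = z * A.full.tor b * z⁻¹ := by rw [hb]; group
    exact ⟨⟨b, (h1 b).1 (h3 ▸ (hr _).2 ⟨g, rfl⟩)⟩, hj ((hf _).trans h3.symm)⟩
  · rintro _ ⟨b, rfl⟩
    rw [Subgroup.mem_centralizer_singleton_iff, ← map_mul, ← map_mul, mul_comm]
  · have hA := @(rs D).W_le_Aut
    have hc : ∀ v ∈ (rs D).W, ∀ h' : mp ((rs D).cw v) a.1 ∈ h.TW w, IsConj (f a) (f ⟨_, h'⟩) := fun v hv h' => by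
      have h2 : z * A.full.P.nW v * z⁻¹ * j (f a) * (z * A.full.P.nW v * z⁻¹)⁻¹ =
          z * A.full.tor (mp ((rs D).cw v) a) * z⁻¹ := by rw [hf, ← A.full.nW_conj_tor hv]; group
      obtain ⟨c, hc, h3⟩ := A.exists_fixed_conj hm0 hm ((hr _).2 ⟨f a, rfl⟩) (g := z * A.full.P.nW v * z⁻¹)
        (h2 ▸ (h1 _).2 h') (A.coprime_orderOf_tor a.1) (by rw [hf, conj_pow, pow_orderOf_eq_one]; simp)
      obtain ⟨c, rfl⟩ := (hr _).1 hc
      exact isConj_iff.2 ⟨c, hj (by rw [map_mul, map_mul, map_inv, h3, h2, hf])⟩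
    refine (Nat.card_congr (Equiv.ofBijective (fun v => ⟨f ⟨_, (h.mp_mem_TW_iff A.full hi hw v.2.1 a.2 ho ha).2 v.2.2⟩,
      ⟨_, rfl⟩, hc _ v.2.1 _⟩) ⟨fun v v' e => ?_, ?_⟩)).symm
    · have h2 : mp ((rs D).cw v.1) a.1 = mp ((rs D).cw v'.1) a := congrArg Subtype.val (hfi (Subtype.mk.inj e))
      refine Subtype.ext (inv_mul_eq_one.1 (eq_one_of_regular ho ha (mul_mem (inv_mem v.2.1) v'.2.1) ?_))
      rw [cw_mul (hA (inv_mem v.2.1)) (hA v'.2.1), mp_mul, ← h2, ← mp_mul, ← cw_mul (hA (inv_mem v.2.1)) (hA v.2.1),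
        inv_mul_cancel, cw_one, mp_one]
    · rintro ⟨_, ⟨b, rfl⟩, hb⟩
      obtain ⟨c, hc⟩ := isConj_iff.1 hb
      obtain ⟨v, hv, h2⟩ := A.full.exists_W_conj (z⁻¹ * j c * z)
      have h3 : mp ((rs D).cw v) a = b := hi (h2 _ _ (by
        have := congrArg j hc
        rw [map_mul, map_mul, map_inv, hf, hf] at this
        calc _ = z⁻¹ * (j c * (z * A.full.tor a * z⁻¹) * (j c)⁻¹) * z := by group
          _ = _ := by rw [this]; group))
      exact ⟨⟨v, hv, (h.mp_mem_TW_iff A.full hi hw hv a.2 ho ha).1 (h3 ▸ b.2)⟩, Subtype.ext (congrArg f (Subtype.ext h3))⟩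

end IsTw

/-! ### Small Weyl groups -/

/-- Check that a list of words represents each element of the Weyl group exactly once. -/
def wEnumB (D : ChevalleyDatum) (L : List (List ℕ)) : Bool :=
  (allLt L.length fun i => allL (L.getD i []) fun a => decide (a < D.rank)) && (anyLt L.length fun i => L.getD i [] == []) &&
  (allLt L.length fun i => allLt D.rank fun a => anyLt L.length fun j => allLt D.nroots fun r =>
    wordN D (a :: L.getD i []) r == wordN D (L.getD j []) r) &&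
  allLt L.length fun i => allLt i fun j => anyLt D.nroots fun r => wordN D (L.getD i []) r != wordN D (L.getD j []) r

variable (D) in
/-- The Weyl group element of a word. -/
noncomputable def wN (l : List ℕ) : Equiv.Perm (Fin D.nroots) :=
  (rs D).wordW (l.filterMap fun a => if h : a < D.rank then some ⟨a, h⟩ else none)

theorem wN_mem (l : List ℕ) : wN D l ∈ (rs D).W := wordW_mem_W _ _

theorem wN_val {l : List ℕ} (hl : ∀ a ∈ l, a < D.rank) (r : Fin D.nroots) : (wN D l r : ℕ) = wordN D l r := by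
  rw [wN, wordW_val]
  congr 1
  induction l with
  | nil => rfl
  | cons a l ih => simp [hl a (by simp), ih fun b hb => hl b (by simp [hb])]

theorem card_W_of_enum {L : List (List ℕ)} (h : wEnumB D L = true) {P : Equiv.Perm (Fin D.nroots) → Prop}
    {Q : List ℕ → Bool} (hQ : ∀ l, (∀ a ∈ l, a < D.rank) → (P (wN D l) ↔ Q l = true)) :
    Nat.card {v // v ∈ (rs D).W ∧ P v} = Fintype.card {i : Fin L.length // Q (L.getD i []) = true} := by
  simp only [wEnumB, Bool.and_eq_true, allLt_iff, anyLt_iff, allL_iff, decide_eq_true_eq, beq_iff_eq, bne_iff_ne] at h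
  obtain ⟨⟨⟨h1, i₀, h2, h2'⟩, h3⟩, h4⟩ := h
  rw [← Nat.card_eq_fintype_card, eq_comm]
  refine Nat.card_congr (Equiv.ofBijective (fun i => ⟨wN D (L.getD i.1 []), wN_mem _, (hQ _ (h1 _ i.1.2)).2 i.2⟩)
    ⟨fun i j e => ?_, fun v => ?_⟩)
  · have e : ∀ r < D.nroots, wordN D (L.getD i.1 []) r = wordN D (L.getD j.1 []) r := fun r hr => by
      rw [← wN_val (h1 _ i.1.2) ⟨r, hr⟩, ← wN_val (h1 _ j.1.2) ⟨r, hr⟩, show wN D _ = wN D _ from congrArg Subtype.val e]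
    refine Subtype.ext (Fin.ext (by_contra fun h5 => ?_))
    rcases lt_or_gt_of_ne h5 with h5 | h5
    · obtain ⟨r, hr, h6⟩ := h4 _ j.1.2 _ h5
      exact h6 (e r hr).symm
    · obtain ⟨r, hr, h6⟩ := h4 _ i.1.2 _ h5
      exact h6 (e r hr)
  · obtain ⟨i, hi, e⟩ : ∃ i < L.length, wN D (L.getD i []) = v := by
      obtain ⟨l, e⟩ := (rs D).mem_W_iff.1 v.2.1
      rw [← e]
      clear e
      induction l with
      | nil => exact ⟨i₀, h2, by rw [h2']; rfl⟩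
      | cons a l ih =>
        obtain ⟨i, hi, e⟩ := ih
        obtain ⟨j, hj, e'⟩ := h3 i hi a a.2
        refine ⟨j, hj, Equiv.ext fun r => Fin.ext ?_⟩
        rw [wN_val (h1 j hj), ← e' r r.2, ← wN_val (List.forall_mem_cons.2 ⟨a.2, h1 i hi⟩), wordW_cons, ← e]
        simp [wN]
    exact ⟨⟨⟨i, hi⟩, (hQ _ (h1 i hi)).1 (e ▸ v.2.2)⟩, Subtype.ext e⟩

/-! ### The small Ree groups -/

/-- The Weyl group of `G₂`. -/
def wG2 : List (List ℕ) := [[], [0], [1], [0, 1], [1, 0], [0, 1, 0], [1, 0, 1], [0, 1, 0, 1], [1, 0, 1, 0],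
  [0, 1, 0, 1, 0], [1, 0, 1, 0, 1], [0, 1, 0, 1, 0, 1]]

theorem wEnum_G2 : wEnumB chevG2 wG2 = true := by decide +kernel

theorem sq_eq_one_of_chi {a : Fin chevG2.rank → Kˣ} {r s : Fin chevG2.nroots} (h : twG2.ex r ≠ twG2.ex s)
    (hr : chi chevG2 a r = 1) (hs : chi chevG2 a s = 1) : a ^ 2 = 1 := by
  have key : ∀ r < 12, ∀ s < 12, twG2.ex r ≠ twG2.ex s →
      certG2.car 0 r * certG2.car 1 s - certG2.car 1 r * certG2.car 0 s ∣ 2 := by decide +kernel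
  obtain ⟨c, hc⟩ := key r r.2 s s.2 h
  rw [chi_G2] at hr hs
  have h1 := congrArg₂ (fun u v => (u ^ certG2.car 1 s * v ^ (-certG2.car 1 r)) ^ c) hr hs
  have h2 := congrArg₂ (fun u v => (u ^ (-certG2.car 0 s) * v ^ certG2.car 0 r) ^ c) hr hs
  simp only [mul_zpow, ← _root_.zpow_mul, _root_.one_zpow, mul_one, mul_mul_mul_comm, ← _root_.zpow_add] at h1 h2
  refine gv_ext ?_ ?_ <;> rw [Pi.pow_apply, ← zpow_natCast, Nat.cast_ofNat, hc, Pi.one_apply]
  · convert h1 using 1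
    rw [show ∀ x y : ℤ, (x * y + y * -x) * c = 0 from fun x y => by ring, zpow_zero, mul_one]
    congr 1; ring
  · convert h2 using 1
    rw [show ∀ x y : ℤ, (x * -y + y * x) * c = 0 from fun x y => by ring, zpow_zero, one_mul]
    congr 1; ring

theorem IsTw.regular_G2 (h : IsTw chevG2 twG2 x φ τ) (hx : Full chevG2 x) {w : Equiv.Perm (Fin chevG2.nroots)}
    (hw : w ∈ (rs chevG2).W) {a : Fin chevG2.rank → Kˣ} (ha : a ∈ h.TW w) (h1 : a ^ 2 ≠ 1) (r : Fin chevG2.nroots) :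
    chi chevG2 a r ≠ 1 := fun hr => by
  have h2 := h.chi_σT'' hx a r
  rw [hr, Units.val_one, map_one, h.mem_TW.1 ha, ← w.apply_symm_apply (h.tw.ρ r), chi_cw ((rs _).W_le_Aut hw),
    Units.val_eq_one] at h2
  refine h1 (sq_eq_one_of_chi ?_ hr h2)
  have h3 : ∀ v ∈ (rs chevG2).W, ∀ s : Fin chevG2.nroots, twG2.ex (v s) = twG2.ex s := fun v hv => by
    obtain ⟨l, rfl⟩ := (rs _).mem_W_iff.1 hv
    induction l with
    | nil => simp
    | cons i l ih =>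
      intro s
      rw [← ih (wordW_mem_W _ _) s, wordW_cons, Equiv.Perm.mul_apply]
      have : ∀ i < 2, ∀ s < 12, twG2.ex (wordN chevG2 [i] s) = twG2.ex s := by decide +kernel
      exact (congrArg _ (by simpa using wordW_val [i] _)).trans (this i i.2 _ (Fin.is_lt _))
  have h4 : ∀ r < 12, twG2.ex r ≠ twG2.ex (twG2.π r) := by decide +kernel
  rw [← h3 w hw (w.symm _), Equiv.apply_symm_apply, Twist.ρ_val]
  exact h4 r r.2

/-- A square matrix indexed by the nodes of `G₂`. -/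
def gm (a b c d : ℤ) : Matrix (Fin chevG2.rank) (Fin chevG2.rank) ℤ := (!![a, b; c, d] : Matrix (Fin 2) (Fin 2) ℤ)

theorem det_gm (a b c d : ℤ) : (gm a b c d).det = a * d - b * c := det_fin_two_of a b c d

theorem mp_gm {M : Type*} [CommGroup M] (a b c d : ℤ) (y : Fin chevG2.rank → M) :
    mp (gm a b c d) y = gv (y gi0 ^ a * y gi1 ^ b) (y gi0 ^ c * y gi1 ^ d) :=
  gv_ext (Fin.prod_univ_two fun i => y i ^ gm a b c d gi0 i) (Fin.prod_univ_two fun i => y i ^ gm a b c d gi1 i)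

theorem cw_wN_G2 {l : List ℕ} (hl : ∀ a ∈ l, a < 2) : (rs chevG2).cw (wN chevG2 l) =
    gm (certG2.cor (wordN chevG2 l 7) 0) (certG2.cor (wordN chevG2 l 6) 0) (certG2.cor (wordN chevG2 l 7) 1)
      (certG2.cor (wordN chevG2 l 6) 1) := by
  have h : ∀ j i : Fin chevG2.rank, (rs chevG2).cw (wN chevG2 l) j i =
      certG2.cor (wordN chevG2 l (chevG2.simple i)) j := fun j i => by
    rw [← rs_simple_val, ← wN_val hl, ← agree_G2.cor _ (Fin.is_lt _) _ j.2]; rfl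
  exact funext (Fin.forall_fin_two.2 ⟨gv_ext (h _ _) (h _ _), gv_ext (h _ _) (h _ _)⟩)

theorem isCyclic_ker_gm {a : ℤ} (ha : a = 1 ∨ a = -1) (b c d : ℤ) [Finite (mp (M := Kˣ) (gm a b c d)).ker] :
    IsCyclic (mp (M := Kˣ) (gm a b c d)).ker :=
  isCyclic_of_injective_ringHom ((Units.coeHom K).comp ((Pi.evalMonoidHom (fun _ => Kˣ) gi1).comp (Subgroup.subtype _)))
    ((injective_iff_map_eq_one _).2 fun y hy => by
      have h1 : y.1 gi1 = 1 := Units.ext hy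
      have h2 := congrFun ((mp_gm a b c d y.1).symm.trans y.2) gi0
      rcases ha with rfl | rfl <;> exact Subtype.ext (gv_ext (by simpa [h1] using h2) h1))

/-- The twisted centraliser condition on words. -/
def twCen (l l' : List ℕ) : Bool :=
  allLt 12 fun r => twG2.π (wordN chevG2 l' (twG2.π' (wordN chevG2 l r))) == wordN chevG2 l (wordN chevG2 l' r)

theorem TorD.exists_of_cyclic {A : Type*} [CommGroup A] {T : Subgroup A} (hT : IsCyclic T) {n e : ℕ} (ho : Odd n)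
    (he : e = 1 ∨ e = 2) (h : Nat.card T = e * n) :
    ∃ C ≤ T, IsCyclic C ∧ Nat.card C = n ∧ ∀ a ∈ T, a ^ 2 ∈ C := by
  rcases he with rfl | rfl
  · exact ⟨T, le_rfl, hT, by simpa using h, fun a ha => pow_mem ha 2⟩
  · have : Finite T := Nat.finite_of_card_ne_zero (by have := ho.pos; omega)
    have e := (powMonoidHom 2 : T →* T).range.equivMapOfInjective _ T.subtype_injective
    exact ⟨_, Subgroup.map_subtype_le _, isCyclic_of_surjective e e.surjective, by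
      rw [← Nat.card_congr e.toEquiv, IsCyclic.card_powMonoidHom_range, h]; simp,
      fun a ha => ⟨⟨a, ha⟩ ^ 2, ⟨_, rfl⟩, rfl⟩⟩

theorem coprime_of_eq {n d f u v : ℤ} (h : IsCoprime n d) (e : u * n + v * f = d) : IsCoprime n f :=
  let ⟨a, b, h⟩ := h; ⟨a + b * u, b * v, by rw [← h, ← e]; ring⟩

section alg

variable {F : Type*} [Field F] [Fintype F] {m : ℕ}

local notation "k" => AlgebraicClosure F

variable (F m) in
/-- The embedding of the Ree group in the algebraic group. -/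
noncomputable def reeJ : twistedG2 F (3 ^ m) →* chevG2.group k :=
  (ChevM.fm chevG2 (algebraMap F k)).comp (wordIncl chevG2 (g2Words F (3 ^ m)))

theorem reeJ_injective : Function.Injective (reeJ F m) := (ChevM.fm_injective _).comp (Subgroup.inclusion_injective _)

variable (hF : Fintype.card F = 3 ^ (2 * m + 1))
include hF

theorem reeτ_fixed_iff [CharP F 3] (g : chevG2.group k) : reeτ F m g = g ↔ g ∈ (reeJ F m).range := by
  obtain ⟨_, φ, hφ, hφ2⟩ := exists_frob_G2 hF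
  constructor
  · intro hg
    obtain ⟨g, h1, rfl⟩ := reeτ_fixed hF hφ hg
    obtain ⟨g, rfl⟩ := mem_range_wordIncl.2 ((mem_twistedG2_iff hF φ hφ hφ2).2 h1)
    exact ⟨g, rfl⟩
  · rintro ⟨g, rfl⟩
    exact (reeτ_fm hφ _).trans (congrArg _ ((mem_twistedG2_iff hF φ hφ hφ2).1 g.2))

omit hF in
theorem TW_eq_ker [CharP F 3] {w : Equiv.Perm (Fin chevG2.nroots)} {a b c d : ℤ}
    (hw : (rs chevG2).cw w = gm a b c d) :
    (isTw_ree F m).TW w = (mp (gm (-a) (3 ^ m - b) (3 * 3 ^ m - c) (-d))).ker := by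
  ext y
  have h1 : (isTw_ree F m).σT y = gv (y gi1 ^ (3 ^ m : ℤ)) (y gi0 ^ (3 * 3 ^ m : ℤ)) := gv_ext
    (Units.ext (by rw [((isTw_ree F m).σT_G2 y).1, iterateFrobenius_def]; norm_cast))
    (Units.ext (by rw [((isTw_ree F m).σT_G2 y).2, iterateFrobenius_def, ← pow_mul, mul_comm]; norm_cast))
  rw [IsTw.mem_TW, MonoidHom.mem_ker, hw, h1, mp_gm, mp_gm, ← mul_inv_eq_one]
  refine Eq.congr_left (gv_ext ?_ ?_) <;> simp [_root_.zpow_sub, mul_comm, mul_left_comm, mul_assoc]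

theorem exists_torD [CharP F 3] {l : List ℕ} (hl : ∀ a ∈ l, a < 2) {n e c I : ℕ}
    (hT : Nat.card ((isTw_ree F m).TW (wN chevG2 l)) = e * n) {C : Subgroup (Fin chevG2.rank → kˣ)}
    (hle : C ≤ (isTw_ree F m).TW (wN chevG2 l)) (hC : IsCyclic C) (hn : Nat.card C = n)
    (hsq : ∀ a ∈ (isTw_ree F m).TW (wN chevG2 l), a ^ 2 ∈ C) (ho : Odd n)
    (hc : Fintype.card {i : Fin wG2.length // twCen l (wG2.getD i []) = true} = c)
    (hI : Nat.card (twistedG2 F (3 ^ m)) = e * n * I) (hnI : n.Coprime I) :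
    Nonempty (TorD (twistedG2 F (3 ^ m)) n e c) := by
  obtain ⟨f, hf, h1, -⟩ := (isTw_ree F m).exists_torus (alg_ree hF) (tor_xG_injective expC_G2) two_pos reeτ_iter
    reeJ_injective (reeτ_fixed_iff hF) (wN_mem l)
  have h2 := fun (a : (isTw_ree F m).TW (wN chevG2 l)) (ha : f a ^ 2 ≠ 1) =>
    h1 a ((isTw_ree F m).regular_G2 (full_xG _ k) (wN_mem l) a.2 fun e => ha (by
      rw [← map_pow, show a ^ 2 = 1 from Subtype.ext e, map_one]))
  have h3 : Nat.card f.range = e * n := (Nat.card_congr (MonoidHom.ofInjective hf).toEquiv).symm.trans hT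
  have e1 := ((C.subgroupOf _).equivMapOfInjective f hf).symm.trans (Subgroup.subgroupOfEquivOfLe hle)
  refine ⟨⟨f.range, (C.subgroupOf _).map f, Subgroup.map_le_range _ _, ?_, isCyclic_of_surjective e1.symm e1.symm.surjective,
    (Nat.card_congr e1.toEquiv).trans hn, h3, ho, ?_, ?_, ?_, ?_⟩⟩
  · rintro _ ⟨a, rfl⟩ _ ⟨b, rfl⟩
    exact (Commute.all a b).map f
  · rintro _ ⟨a, rfl⟩
    exact ⟨a ^ 2, hsq a a.2, map_pow f a 2⟩
  · rintro _ ⟨a, rfl⟩ ha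
    exact (h2 a ha).1
  · rintro _ ⟨a, rfl⟩ ha
    rw [(h2 a ha).2, ← hc]
    refine card_W_of_enum wEnum_G2 fun l' hl' => ?_
    simp only [twCen, Equiv.ext_iff, Fin.ext_iff, Equiv.Perm.mul_apply, Twist.ρ_val, wN_val (D := chevG2) hl, wN_val hl', allLt_iff,
      beq_iff_eq, Equiv.Perm.inv_def, Twist.ρ_symm_val]
    exact ⟨fun h r hr => h ⟨r, hr⟩, fun h r => h r r.2⟩
  · have h4 := f.range.card_mul_index
    have h5 : 0 < e * n := h3 ▸ Nat.card_pos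
    rw [h3, hI] at h4
    exact Nat.eq_of_mul_eq_mul_left h5 h4 ▸ hnI

theorem exists_torD_cyclic [CharP F 3] {l : List ℕ} (hl : ∀ a ∈ l, a < 2) {n e c I : ℕ} {a b c' d : ℤ}
    (hw : certG2.cor (wordN chevG2 l 7) 0 = a ∧ certG2.cor (wordN chevG2 l 6) 0 = b ∧
      certG2.cor (wordN chevG2 l 7) 1 = c' ∧ certG2.cor (wordN chevG2 l 6) 1 = d) (ha : -a = 1 ∨ -a = -1)
    (hT : -a * -d - (3 ^ m - b) * (3 * 3 ^ m - c') = -(e * n : ℕ)) (h3 : ¬ 3 ∣ e * n) (ho : Odd n) (he : e = 1 ∨ e = 2)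
    (hc : Fintype.card {i : Fin wG2.length // twCen l (wG2.getD i []) = true} = c)
    (hI : Nat.card (twistedG2 F (3 ^ m)) = e * n * I) (hnI : n.Coprime I) :
    Nonempty (TorD (twistedG2 F (3 ^ m)) n e c) := by
  obtain ⟨rfl, rfl, rfl, rfl⟩ := hw
  have h1 := TW_eq_ker (F := F) (m := m) (cw_wN_G2 hl)
  have h2 : Nat.card ((isTw_ree F m).TW (wN chevG2 l)) = e * n := by
    rw [h1, card_ker_mp (by rw [det_gm, hT]; simpa using mt (CharP.cast_eq_zero_iff k 3 _).1 h3), det_gm, hT]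
    simp [Int.natAbs_mul]
  have : Finite ((isTw_ree F m).TW (wN chevG2 l)) := Nat.finite_of_card_ne_zero (by rintro h; simp [← h2, h] at h3)
  obtain ⟨C, h4, h5, h6, h7⟩ := TorD.exists_of_cyclic (T := (isTw_ree F m).TW (wN chevG2 l))
    (by rw [h1] at this ⊢; exact isCyclic_ker_gm ha ..) ho he h2
  exact exists_torD hF hl h2 h4 h5 h6 h7 ho hc hI hnI

theorem exists_tori : ∃ s : ℕ, 3 ^ m = 2 * s + 1 ∧ 3 ^ (2 * m + 1) = 12 * s ^ 2 + 12 * s + 3 ∧
    Nonempty (TorD (twistedG2 F (3 ^ m)) (6 * s ^ 2 + 6 * s + 1) 2 2) ∧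
    Nonempty (TorD (twistedG2 F (3 ^ m)) (3 * s ^ 2 + 3 * s + 1) 4 6) ∧
    Nonempty (TorD (twistedG2 F (3 ^ m)) (12 * s ^ 2 + 6 * s + 1) 1 6) ∧
    Nonempty (TorD (twistedG2 F (3 ^ m)) (12 * s ^ 2 + 18 * s + 7) 1 6) := by
  obtain ⟨_, -⟩ := exists_frob_G2 hF
  obtain ⟨s, hs⟩ : Odd (3 ^ m) := Odd.pow (by decide)
  have hq : 3 ^ (2 * m + 1) = 12 * s ^ 2 + 12 * s + 3 := by rw [pow_succ, pow_mul', hs]; ring
  have hs' : (3 : ℤ) ^ m = 2 * s + 1 := by exact_mod_cast hs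
  have hc : Nat.card (twistedG2 F (3 ^ m)) = (3 * (2 * s + 1) ^ 2) ^ 3 * (2 * (6 * s ^ 2 + 6 * s + 1)) *
      (4 * (3 * s ^ 2 + 3 * s + 1)) * (12 * s ^ 2 + 6 * s + 1) * (12 * s ^ 2 + 18 * s + 7) := by
    rw [card_twistedG2 hF, hq, show 12 * s ^ 2 + 12 * s + 3 - 1 = 2 * (6 * s ^ 2 + 6 * s + 1) by omega]; ring
  have c0 : ∀ {n : ℤ}, IsCoprime n 2 → IsCoprime n 3 → IsCoprime n (3 * (2 * s + 1) ^ 2) ∧ IsCoprime n 4 :=
    fun h2 h3 => ⟨h3.mul_right (hs' ▸ h3.pow_right.pow_right), h2.mul_right h2⟩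
  have a1 : IsCoprime (6 * s ^ 2 + 6 * s + 1 : ℤ) 2 := ⟨1, -(3 * s ^ 2 + 3 * s), by ring⟩
  have a3 : IsCoprime (12 * s ^ 2 + 6 * s + 1 : ℤ) 2 := ⟨1, -(6 * s ^ 2 + 3 * s), by ring⟩
  have a4 : IsCoprime (12 * s ^ 2 + 18 * s + 7 : ℤ) 2 := ⟨1, -(6 * s ^ 2 + 9 * s + 3), by ring⟩
  have o2 : Odd (3 * s ^ 2 + 3 * s + 1) := by
    obtain ⟨j, hj⟩ := Nat.even_mul_succ_self s
    exact ⟨3 * j, by linear_combination 3 * hj⟩
  have a2 : IsCoprime (3 * s ^ 2 + 3 * s + 1 : ℤ) 2 := by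
    exact_mod_cast Nat.isCoprime_iff_coprime.2 (Nat.coprime_two_right.2 o2)
  have b1 : IsCoprime (6 * s ^ 2 + 6 * s + 1 : ℤ) 3 := ⟨1, -(2 * s ^ 2 + 2 * s), by ring⟩
  have b2 : IsCoprime (3 * s ^ 2 + 3 * s + 1 : ℤ) 3 := ⟨1, -(s ^ 2 + s), by ring⟩
  have b3 : IsCoprime (12 * s ^ 2 + 6 * s + 1 : ℤ) 3 := ⟨1, -(4 * s ^ 2 + 2 * s), by ring⟩
  have b4 : IsCoprime (12 * s ^ 2 + 18 * s + 7 : ℤ) 3 := ⟨1, -(4 * s ^ 2 + 6 * s + 2), by ring⟩
  have c12 : IsCoprime (6 * s ^ 2 + 6 * s + 1 : ℤ) (3 * s ^ 2 + 3 * s + 1) := ⟨-1, 2, by ring⟩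
  have c1 : IsCoprime (6 * s ^ 2 + 6 * s + 1 : ℤ) ((12 * s ^ 2 + 6 * s + 1) * (12 * s ^ 2 + 18 * s + 7)) :=
    ⟨-2 * (12 * s ^ 2 + 12 * s + 3), 1, by ring⟩
  have c2 : IsCoprime (3 * s ^ 2 + 3 * s + 1 : ℤ) ((12 * s ^ 2 + 6 * s + 1) * (12 * s ^ 2 + 18 * s + 7)) :=
    coprime_of_eq b2 (u := -4 * (12 * s ^ 2 + 12 * s + 1)) (v := 1) (by ring)
  have c34 : IsCoprime (12 * s ^ 2 + 6 * s + 1 : ℤ) (12 * s ^ 2 + 18 * s + 7) :=
    coprime_of_eq ((a3.mul_right b3).mul_right (hs' ▸ b3.pow_right : IsCoprime _ (2 * s + 1 : ℤ))) (u := -1) (v := 1)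
      (by ring)
  refine ⟨s, hs, hq, exists_torD_cyclic hF (l := []) (by simp) (a := 1) (b := 0) (c' := 0) (d := 1) (by decide +kernel)
    (by simp) (by rw [hs']; push_cast; ring) (by omega) ⟨3 * s ^ 2 + 3 * s, by ring⟩ (by simp) (by decide +kernel)
    (I := (3 * (2 * s + 1) ^ 2) ^ 3 * (4 * (3 * s ^ 2 + 3 * s + 1)) *
      ((12 * s ^ 2 + 6 * s + 1) * (12 * s ^ 2 + 18 * s + 7))) (by rw [hc]; ring) (Nat.isCoprime_iff_coprime.1 ?_), ?_,
    exists_torD_cyclic hF (l := [0]) (by simp) (a := -1) (b := 1) (c' := 0) (d := 1) (by decide +kernel)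
    (by simp) (by rw [hs']; push_cast; ring) (by omega) ⟨6 * s ^ 2 + 3 * s, by ring⟩ (by simp) (by decide +kernel)
    (I := (3 * (2 * s + 1) ^ 2) ^ 3 * (2 * (6 * s ^ 2 + 6 * s + 1)) * (4 * (3 * s ^ 2 + 3 * s + 1)) *
      (12 * s ^ 2 + 18 * s + 7)) (by rw [hc]; ring) (Nat.isCoprime_iff_coprime.1 ?_),
    exists_torD_cyclic hF (l := [0, 1, 0, 1, 0]) (by simp) (a := -1) (b := 0) (c' := -3) (d := 1) (by decide +kernel)
    (by simp) (by rw [hs']; push_cast; ring) (by omega) ⟨6 * s ^ 2 + 9 * s + 3, by ring⟩ (by simp) (by decide +kernel)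
    (I := (3 * (2 * s + 1) ^ 2) ^ 3 * (2 * (6 * s ^ 2 + 6 * s + 1)) * (4 * (3 * s ^ 2 + 3 * s + 1)) *
      (12 * s ^ 2 + 6 * s + 1)) (by rw [hc]; ring) (Nat.isCoprime_iff_coprime.1 ?_)⟩
  · push_cast
    exact ((c0 a1 b1).1.pow_right.mul_right ((c0 a1 b1).2.mul_right c12)).mul_right c1
  · have h1 := TW_eq_ker (F := F) (m := m) (a := 2) (b := -1) (c := 3) (d := -2)
      ((cw_wN_G2 (l := [1, 0, 1]) (by simp)).trans (by congr 1))
    have h2 : ∀ y : Fin chevG2.rank → kˣ, mp (gm (-2) (3 ^ m - -1) (3 * 3 ^ m - 3) (- -2)) y =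
        mp (gm (-1) (s + 1) (3 * s) 1) (y ^ 2) := fun y => by
      rw [mp_gm, mp_gm, hs']
      simp only [Pi.pow_apply, ← zpow_natCast, ← _root_.zpow_mul]
      congr 3 <;> push_cast <;> ring
    have h3 : ∀ n : ℕ, ¬ 3 ∣ n → ((-n : ℤ) : k) ≠ 0 := fun n h => by simpa using mt (CharP.cast_eq_zero_iff k 3 _).1 h
    have d1 : (gm (-1) (s + 1) (3 * s) 1).det = -(3 * s ^ 2 + 3 * s + 1 : ℕ) := by rw [det_gm]; push_cast; ring
    have d2 : (gm (-2) (3 ^ m - -1) (3 * 3 ^ m - 3) (- -2)).det = -(4 * (3 * s ^ 2 + 3 * s + 1) : ℕ) := by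
      rw [det_gm, hs']; push_cast; ring
    have h4 : Nat.card (mp (M := kˣ) (gm (-1) (s + 1) (3 * s) 1)).ker = 3 * s ^ 2 + 3 * s + 1 := by
      rw [card_ker_mp (d1 ▸ h3 _ (by omega)), d1, Int.natAbs_neg, Int.natAbs_natCast]
    have : Finite (mp (M := kˣ) (gm (-1) (s + 1) (3 * s) 1)).ker := Nat.finite_of_card_ne_zero (by omega)
    refine exists_torD hF (l := [1, 0, 1]) (by simp)
      (by rw [h1, card_ker_mp (d2 ▸ h3 _ (by omega)), d2, Int.natAbs_neg, Int.natAbs_natCast])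
      (fun y hy => by rw [h1, MonoidHom.mem_ker, h2, map_pow, show mp _ y = 1 from hy, one_pow])
      (isCyclic_ker_gm (by simp) ..) h4 (fun y hy => by rwa [h1, MonoidHom.mem_ker, h2] at hy) o2 (by decide +kernel)
      (I := (3 * (2 * s + 1) ^ 2) ^ 3 * (2 * (6 * s ^ 2 + 6 * s + 1)) *
        ((12 * s ^ 2 + 6 * s + 1) * (12 * s ^ 2 + 18 * s + 7))) (by rw [hc]; ring) (Nat.isCoprime_iff_coprime.1 ?_)
    push_cast
    exact ((c0 a2 b2).1.pow_right.mul_right (a2.mul_right c12.symm)).mul_right c2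
  · push_cast
    exact (((c0 a3 b3).1.pow_right.mul_right (a3.mul_right c1.of_mul_right_left.symm)).mul_right
      ((c0 a3 b3).2.mul_right c2.of_mul_right_left.symm)).mul_right c34
  · push_cast
    exact (((c0 a4 b4).1.pow_right.mul_right (a4.mul_right c1.of_mul_right_right.symm)).mul_right
      ((c0 a4 b4).2.mul_right c2.of_mul_right_right.symm)).mul_right c34.symm

end alg

end Cfsg.Agent.Chev
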