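/-
Elements of order `2`, `3`, `6`, `9` in the small Ree groups.
-/
import Cfsg.Agent.Lib.Chev.Ree2

set_option autoImplicit false

namespace Cfsg.Agent.Chev

open Cfsg.Lie

variable {K : Type*} [Field K] {φ : K →+* K} {Γ : Type*} [Group Γ]

theorem card_fixed_conj (B : Subgroup Γ) {x y : Γ} (h : IsConj x y) :
    Nat.card {p : Γ ⧸ B // x • p = p} = Nat.card {p : Γ ⧸ B // y • p = p} := by
  obtain ⟨g, rfl⟩ := isConj_iff.1 h
  exact Nat.card_congr ((MulAction.toPerm g).subtypeEquiv fun p => by simp [mul_smul])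

theorem smul_mk_eq_iff (B : Subgroup Γ) {x g : Γ} : x • (g : Γ ⧸ B) = g ↔ g⁻¹ * x * g ∈ B := by
  rw [MulAction.Quotient.smul_mk, eq_comm, QuotientGroup.eq, smul_eq_mul, mul_assoc]

namespace ReeData

variable (R : ReeData φ Γ)

theorem h_n (c : Kˣ) : R.h c * R.n = R.n * (R.h c)⁻¹ := by
  rw [← R.n_h, R.n_inv, ← mul_assoc, ← mul_assoc, R.n_sq, one_mul]

theorem exists_pow {y : Γ} (hy : y ∈ R.U) (c : Kˣ) (n : ℕ) : ∃ z ∈ R.U, (y * R.h c) ^ n = z * R.h (c ^ n) := by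
  induction n with
  | zero => exact ⟨1, one_mem _, by simp⟩
  | succ n ih =>
    obtain ⟨z, hz, e⟩ := ih
    exact ⟨_, mul_mem hz (R.h_conj_mem (c ^ n) hy), by rw [pow_succ, e, pow_succ, map_mul]; group⟩

variable {R} in
theorem pow_eq_one {y : Γ} (hy : y ∈ R.U) {c : Kˣ} {n : ℕ} (h : (y * R.h c) ^ n = 1) : c ^ n = 1 := by
  obtain ⟨z, hz, e⟩ := R.exists_pow hy c n
  exact (B_unique hz (one_mem _) (e.symm.trans (h.trans (by simp)))).2

variable {R} in
theorem exists_eq_h {b : Γ} (hb : b ∈ R.B) (h : R.n * b * R.n ∈ R.B) : ∃ c, b = R.h c := by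
  obtain ⟨y, hy, c, rfl⟩ := hb
  obtain rfl := eq_one_of_conj_mem hy (by simpa [mul_assoc, R.h_n] using mul_mem h (R.h_mem c))
  exact ⟨c, one_mul _⟩

theorem i_conj (t a v : K) : R.h (-1) * R.u t a v * (R.h (-1))⁻¹ = R.u (-t) a (-v) := by
  rw [R.h_conj]; simp [Odd.neg_pow (show Odd 3 by decide)]

theorem i_sq : R.h (-1) ^ 2 = 1 := by rw [← map_pow]; simp

variable [CharP K 3]

theorem u_cube_eq_one {t a v : K} : R.u t a v ^ 3 = 1 ↔ t = 0 := by
  simp +contextual [R.u_cube, R.u_eq_one]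

theorem u_pow_nine (t a v : K) : R.u t a v ^ 9 = 1 := by
  rw [show 9 = 3 * 3 from rfl, pow_mul, R.u_cube, R.u_cube_eq_one]

theorem orderOf_u_eq_three {t a v : K} : orderOf (R.u t a v) = 3 ↔ t = 0 ∧ (a, v) ≠ 0 := by
  rw [orderOf_eq_prime_iff, R.u_cube_eq_one, Ne, R.u_eq_one]; simp +contextual

theorem orderOf_u_eq_nine {t a v : K} : orderOf (R.u t a v) = 9 ↔ t ≠ 0 :=
  ⟨fun h e => by simpa [h] using orderOf_dvd_of_pow_eq_one (R.u_cube_eq_one (a := a) (v := v).2 e),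
    fun h => orderOf_eq_prime_pow (p := 3) (n := 1) (by simpa [R.u_cube_eq_one] using h) (R.u_pow_nine ..)⟩

theorem ui_sq (t a v : K) : (R.u t a v * R.h (-1)) ^ 2 = R.u 0 (t * φ t ^ 3 - a) (a * t - t ^ 2 * φ t ^ 3) := by
  have h3 : (3 : K) = 0 := CharP.cast_eq_zero K 3
  rw [show ∀ y z : Γ, (y * z) ^ 2 = y * (z * y * z⁻¹) * z ^ 2 from fun y z => by simp [sq, mul_assoc], R.i_conj, R.i_sq, mul_one,
    R.u_mul, map_neg]
  congr 1
  · ring
  · linear_combination a * h3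
  · linear_combination (t ^ 2 * φ t ^ 3) * h3

omit [CharP K 3] R in
theorem neg_one_ne [CharP K 3] : (-1 : Kˣ) ≠ 1 := fun e => by
  exact absurd ((CharP.cast_eq_zero_iff K 3 2).1 (by
    have : (-1 : K) = 1 := congrArg Units.val e
    linear_combination -this)) (by decide)

open Classical in
theorem orderOf_ui {t a v : K} : orderOf (R.u t a v * R.h (-1)) = if a = t * φ t ^ 3 then 2 else 6 := by
  have h1 : ∀ n, Odd n → (R.u t a v * R.h (-1)) ^ n ≠ 1 := fun n hn e =>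
    neg_one_ne (hn.neg_one_pow.symm.trans (pow_eq_one (R.u_mem ..) e))
  have h2 : (R.u t a v * R.h (-1)) ^ 2 = 1 ↔ a = t * φ t ^ 3 := by
    rw [R.ui_sq, R.u_eq_one, sub_eq_zero]
    exact ⟨fun h => h.2.1.symm, fun h => ⟨rfl, h.symm, by rw [h]; ring⟩⟩
  split_ifs with h
  · exact orderOf_eq_prime (h2.2 h) (by simpa using h1 1 odd_one)
  · refine (orderOf_eq_iff (by decide)).2 ⟨by rw [show 6 = 2 * 3 from rfl, pow_mul, R.ui_sq, R.u_cube_eq_one],
      fun n h3 h4 e => ?_⟩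
    have h5 : (R.u t a v * R.h (-1)) ^ 6 = 1 := by rw [show 6 = 2 * 3 from rfl, pow_mul, R.ui_sq, R.u_cube_eq_one]
    interval_cases n
    exacts [h1 _ (by decide) e, h (h2.1 e), h1 _ (by decide) e, h (h2.1 (by
      rwa [show 6 = 4 + 2 from rfl, pow_add, e, one_mul] at h5)), h1 _ (by decide) e]

variable {R} in
theorem exists_of_mem_B {x : Γ} (hx : x ∈ R.B) (h : orderOf x ∣ 18) :
    (∃ t a v, x = R.u t a v) ∨ ∃ t a v, x = R.u t a v * R.h (-1) := by
  obtain ⟨_, ⟨t, a, v, rfl⟩, c, rfl⟩ := hx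
  have h1 := pow_eq_one (R.u_mem ..) (orderOf_dvd_iff_pow_eq_one.1 h)
  rw [show 18 = 2 * 3 * 3 from rfl, pow_mul, pow_mul] at h1
  rcases sq_eq_one_iff.1 (show (c : K) ^ 2 = 1 from congrArg Units.val
    (eq_one_of_pow_char _ (eq_one_of_pow_char _ h1))) with e | e
  · exact Or.inl ⟨t, a, v, by rw [Units.val_eq_one.1 e, map_one, mul_one]⟩
  · exact Or.inr ⟨t, a, v, by rw [show c = -1 from Units.ext e]⟩

theorem card_B_order {i : ℕ} (hi : i ∣ 18) {P : K × K × K → Prop} {c : Kˣ} (hc : c = 1 ∨ c = -1)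
    (h1 : ∀ p : K × K × K, orderOf (R.u p.1 p.2.1 p.2.2 * R.h c) = i ↔ P p)
    (h2 : ∀ t a v, orderOf (R.u t a v * R.h (-c)) ≠ i) :
    Nat.card {x // x ∈ {x : Γ | orderOf x = i} ∧ x ∈ R.B} = Nat.card {p // P p} := by
  refine (Nat.card_congr (Equiv.ofBijective (fun p => ⟨_, (h1 p.1).2 p.2, _, R.u_mem .., c, rfl⟩)
    ⟨fun p p' e => ?_, fun x => ?_⟩)).symm
  · have := R.u_inj (mul_right_cancel (Subtype.mk.inj e))
    exact Subtype.ext (Prod.ext this.1 (Prod.ext this.2.1 this.2.2))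
  · obtain ⟨x, h3, h4⟩ := x
    have h3 : orderOf x = i := h3
    obtain ⟨t, a, v, rfl⟩ : ∃ t a v, x = R.u t a v * R.h c := by
      rcases exists_of_mem_B h4 (h3 ▸ hi) with ⟨t, a, v, rfl⟩ | ⟨t, a, v, rfl⟩ <;> rcases hc with rfl | rfl
      exacts [⟨t, a, v, by simp⟩, absurd h3 (by simpa using h2 t a v), absurd h3 (h2 t a v), ⟨t, a, v, rfl⟩]
    exact ⟨⟨(t, a, v), (h1 _).1 h3⟩, rfl⟩

variable [Finite K]

theorem card_fixed_three {x : Γ} (hx : 3 ∣ orderOf x) : Nat.card {p : Γ ⧸ R.B // x • p = p} = 1 := by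
  have : Finite Γ := Nat.finite_of_card_ne_zero (by
    have := Finite.one_lt_card (α := K)
    rw [R.card_eq]; simp; omega)
  have h1 : ∀ x : Γ, 3 ∣ orderOf x → ∀ p p' : Γ ⧸ R.B, x • p = p → x • p' = p' → p = p' := fun x hx p p' hp hp' => by
    induction p using QuotientGroup.induction_on with | H g => ?_
    obtain ⟨y, hy⟩ := R.cosetEquiv.surjective (g⁻¹ • p')
    rw [eq_inv_smul_iff] at hy
    subst hy
    rcases y with _ | y
    · simp [cosetEquiv_none]
    rw [cosetEquiv_some, MulAction.Quotient.smul_mk, smul_mk_eq_iff] at hp'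
    rw [smul_mk_eq_iff] at hp
    obtain ⟨c, hc⟩ := exists_eq_h (mul_mem (mul_mem (inv_mem (R.U_le_B y.2)) hp) (R.U_le_B y.2))
      (by simpa [mul_assoc, R.n_inv] using hp')
    have h2 : orderOf x = orderOf c := by
      rw [← orderOf_injective _ R.h_inj, ← hc, ← MulAut.conj_inv_apply, ← MulAut.conj_inv_apply, MulEquiv.orderOf_eq,
        MulEquiv.orderOf_eq]
    have h3 := orderOf_pow_orderOf_div (orderOf_pos c).ne' (h2 ▸ hx)
    rw [eq_one_of_pow_char _ (orderOf_dvd_iff_pow_eq_one.1 h3.dvd)] at h3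
    simp at h3
  have h2 := orderOf_pow_orderOf_div (orderOf_pos x).ne' hx
  obtain ⟨g, hg⟩ := exists_conj_mem_of_prime (T := R.B) Nat.prime_three (by
    have := (CharP.cast_eq_zero_iff K 3 (Nat.card K)).1 (by have := Fintype.ofFinite K; simp)
    rw [R.index_B, Nat.dvd_add_right (dvd_pow this (by decide))]; decide) (k := 1)
    (orderOf_dvd_iff_pow_eq_one.1 (h2.trans (pow_one 3).symm).dvd)
  rw [← smul_mk_eq_iff] at hg
  exact Nat.card_eq_one_iff_unique.2 ⟨⟨fun p p' => Subtype.ext (h1 x hx _ _ p.2 p'.2)⟩, ⟨g, h1 _ h2.symm.dvd _ _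
    (by rw [← mul_smul, pow_mul_comm', mul_smul, hg]) hg⟩⟩

theorem card_fixed_i : Nat.card {p : Γ ⧸ R.B // R.h (-1) • p = p} = Nat.card K + 1 := by
  rw [← Finite.card_option, eq_comm]
  have h1 : ∀ t a v, R.h (-1) • ((R.u t a v * R.n : Γ) : Γ ⧸ R.B) = (R.u t a v * R.n : Γ) ↔ t = 0 ∧ v = 0 := by
    intro t a v
    have h2 : ∀ t : K, t = -t ↔ t = 0 := fun t => by
      have h3 : (3 : K) = 0 := CharP.cast_eq_zero K 3
      exact ⟨fun h => by linear_combination t * h3 - h, fun h => by simp [h]⟩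
    rw [smul_mk_eq_iff, ← mul_mem_cancel_right (R.h_mem (-1)), show (R.u t a v * R.n)⁻¹ * R.h (-1) * (R.u t a v * R.n) *
      R.h (-1) = R.n * ((R.u t a v)⁻¹ * R.u (-t) a (-v)) * R.n by
        rw [← R.i_conj, ← map_inv]
        simp only [mul_assoc, R.h_n, _root_.mul_inv_rev, R.n_inv]
        rw [map_inv, inv_inv]]
    refine ⟨fun h => ?_, by rintro ⟨rfl, rfl⟩; simp [R.n_sq, one_mem]⟩
    have := R.u_inj (inv_mul_eq_one.1 (eq_one_of_conj_mem (mul_mem (inv_mem (R.u_mem ..)) (R.u_mem ..)) h))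
    exact ⟨(h2 t).1 this.1, (h2 v).1 this.2.2⟩
  refine Nat.card_congr (Equiv.ofBijective (fun a => ⟨R.cosetEquiv (a.map fun a => ⟨_, R.u_mem 0 a 0⟩), ?_⟩)
    ⟨fun a b e => Option.map_injective (fun a b e => (R.u_inj (Subtype.mk.inj e)).2.1)
      (R.cosetEquiv.injective (Subtype.mk.inj e)), fun ⟨p, hp⟩ => ?_⟩)
  · rcases a with _ | a
    · exact (smul_mk_eq_iff _).2 (by simpa using R.h_mem _)
    · exact (h1 0 a 0).2 ⟨rfl, rfl⟩
  · obtain ⟨_ | ⟨_, t, a, v, rfl⟩, rfl⟩ := R.cosetEquiv.surjective p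
    · exact ⟨none, rfl⟩
    · obtain ⟨rfl, rfl⟩ := (h1 t a v).1 hp
      exact ⟨some a, rfl⟩

variable [Finite Γ]
include R

theorem card_order_three : Nat.card {x : Γ // orderOf x = 3} = (Nat.card K ^ 2 - 1) * (Nat.card K ^ 3 + 1) := by
  have h := card_mul_of_fixed R.B (X := {x | orderOf x = 3}) (fun x hx g => by
    rwa [Set.mem_ofPred_eq, ← MulAut.conj_inv_apply, MulEquiv.orderOf_eq]) fun x hx => R.card_fixed_three hx.symm.dvd
  rw [mul_one, R.index_B, R.card_B_order (by decide) (Or.inl rfl) (fun p => by simpa using R.orderOf_u_eq_three)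
    fun t a v => by rw [R.orderOf_ui]; split_ifs <;> decide] at h
  refine h.trans ((mul_comm _ _).trans (congrArg (· * _) ?_))
  classical
  have := Fintype.ofFinite K
  rw [Nat.card_congr (β := {p : K × K // p ≠ 0}) ⟨fun p => ⟨p.1.2, by simpa [Prod.ext_iff] using p.2.2⟩,
    fun p => ⟨(0, p.1), rfl, by simpa [Prod.ext_iff] using p.2⟩, fun p => Subtype.ext (Prod.ext p.2.1.symm rfl),
    fun _ => rfl⟩]
  simp [sq]

theorem card_order_nine :
    Nat.card {x : Γ // orderOf x = 9} = Nat.card K ^ 2 * (Nat.card K - 1) * (Nat.card K ^ 3 + 1) := by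
  have h := card_mul_of_fixed R.B (X := {x | orderOf x = 9}) (fun x hx g => by
    rwa [Set.mem_ofPred_eq, ← MulAut.conj_inv_apply, MulEquiv.orderOf_eq])
    fun x hx => R.card_fixed_three (by rw [show orderOf x = 9 from hx]; decide)
  rw [mul_one, R.index_B, R.card_B_order (by decide) (Or.inl rfl) (P := fun p => p.1 ≠ 0)
    (fun p => by simpa using R.orderOf_u_eq_nine) fun t a v => by rw [R.orderOf_ui]; split_ifs <;> decide] at h
  refine h.trans ((mul_comm _ _).trans (congrArg (· * _) ?_))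
  classical
  have := Fintype.ofFinite K
  rw [Nat.card_congr (β := {t : K // t ≠ 0} × K × K) ⟨fun p => ⟨⟨p.1.1, p.2⟩, p.1.2⟩,
    fun p => ⟨(p.1.1, p.2), p.1.2⟩, fun _ => rfl, fun _ => rfl⟩]
  simp [sq, mul_comm]

theorem card_order_six :
    Nat.card {x : Γ // orderOf x = 6} = Nat.card K ^ 2 * (Nat.card K - 1) * (Nat.card K ^ 3 + 1) := by
  have h := card_mul_of_fixed R.B (X := {x | orderOf x = 6}) (fun x hx g => by
    rwa [Set.mem_ofPred_eq, ← MulAut.conj_inv_apply, MulEquiv.orderOf_eq])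
    fun x hx => R.card_fixed_three (by rw [show orderOf x = 6 from hx]; decide)
  rw [mul_one, R.index_B, R.card_B_order (by decide) (Or.inr rfl) (P := fun p => p.2.1 - p.1 * φ p.1 ^ 3 ≠ 0)
    (fun p => by simp [R.orderOf_ui, sub_eq_zero]) fun t a v e => by
      have := orderOf_dvd_of_pow_eq_one (R.u_pow_nine t a v)
      rw [neg_neg, map_one, mul_one] at e
      simp [e] at this] at h
  refine h.trans ((mul_comm _ _).trans (congrArg (· * _) ?_))
  classical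
  have := Fintype.ofFinite K
  rw [Nat.card_congr (β := {t : K // t ≠ 0} × K × K) ⟨fun p => ⟨⟨_, p.2⟩, p.1.1, p.1.2.2⟩,
    fun p => ⟨(p.2.1, p.1.1 + p.2.1 * φ p.2.1 ^ 3, p.2.2), (add_sub_cancel_right _ _).trans_ne p.1.2⟩,
    fun _ => by simp, fun _ => by simp⟩]
  simp [sq, mul_comm]

theorem card_order_two (hi : ∀ x : Γ, orderOf x = 2 → IsConj (R.h (-1)) x) :
    Nat.card {x : Γ // orderOf x = 2} * (Nat.card K + 1) = (Nat.card K ^ 3 + 1) * Nat.card K ^ 2 := by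
  have h := card_mul_of_fixed R.B (X := {x | orderOf x = 2}) (fun x hx g => by
    rwa [Set.mem_ofPred_eq, ← MulAut.conj_inv_apply, MulEquiv.orderOf_eq])
    fun x hx => (card_fixed_conj _ (hi x hx)).symm.trans R.card_fixed_i
  rw [R.index_B, R.card_B_order (by decide) (Or.inr rfl) (P := fun p => p.2.1 = p.1 * φ p.1 ^ 3)
    (fun p => by simp [R.orderOf_ui]) fun t a v e => by
      have := orderOf_dvd_of_pow_eq_one (R.u_pow_nine t a v)
      rw [neg_neg, map_one, mul_one] at e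
      simp [e] at this] at h
  refine h.trans (congrArg _ ?_)
  rw [Nat.card_congr (β := K × K) ⟨fun p => ⟨p.1.1, p.1.2.2⟩, fun p => ⟨(p.1, p.1 * φ p.1 ^ 3, p.2), rfl⟩,
    fun p => Subtype.ext (Prod.ext rfl (Prod.ext p.2.symm rfl)), fun _ => rfl⟩]
  simp [sq]

end ReeData

theorem isConj_invol_ree [Fintype K] {m : ℕ} (hK : Fintype.card K = 3 ^ (2 * m + 1)) {x y : twistedG2 K (3 ^ m)}
    (hx : orderOf x = 2) (hy : orderOf y = 2) : IsConj x y := by
  obtain ⟨_, -⟩ := exists_frob_G2 hK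
  obtain ⟨c, hc, e⟩ := reeτ_conj_invol hK ((reeτ_fixed_iff hK _).2 ⟨x, rfl⟩) ((reeτ_fixed_iff hK _).2 ⟨y, rfl⟩)
    ((orderOf_injective _ reeJ_injective _).trans hx) ((orderOf_injective _ reeJ_injective _).trans hy)
  obtain ⟨c, rfl⟩ := (reeτ_fixed_iff hK _).1 hc
  exact isConj_iff.2 ⟨c, reeJ_injective (by rw [map_mul, map_mul, map_inv, e])⟩

end Cfsg.Agent.Chev
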